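import Cfsg.Agent.Lib.LocalEven.PushMin.AltPerm
import Cfsg.Agent.Lib.Known.AltAut

/-!
Point stabilisers in alternating groups of odd degree.
-/

set_option autoImplicit false

namespace CfsgLib.LocalEven.CStar

open Equiv Equiv.Perm
open CfsgLib.Known.AltAut

variable {n : ℕ}

/-- The stabiliser of a point in the alternating group. -/
def altStab (ω : Fin n) : Subgroup ↥(alternatingGroup (Fin n)) where
  carrier := {x | (x : Perm (Fin n)) ω = ω}
  one_mem' := rfl
  mul_mem' := fun {a b} (ha : (a : Perm (Fin n)) ω = ω) (hb : (b : Perm (Fin n)) ω = ω) => by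
    show ((a : Perm (Fin n)) * b) ω = ω
    rw [Perm.mul_apply, hb, ha]
  inv_mem' := fun {a} (ha : (a : Perm (Fin n)) ω = ω) => by
    show ((a : Perm (Fin n))⁻¹) ω = ω
    rw [Perm.inv_def, Equiv.symm_apply_eq, ha]

theorem mem_altStab {ω : Fin n} {x : ↥(alternatingGroup (Fin n))} :
    x ∈ altStab ω ↔ (x : Perm (Fin n)) ω = ω := Iff.rfl

/-- A three-cycle fixing `ω` and moving `a` to `b`. -/
theorem exists_stab_move (h5 : 5 ≤ n) {ω a b : Fin n} (ha : a ≠ ω) (hb : b ≠ ω) :
    ∃ x ∈ altStab ω, (x : Perm (Fin n)) a = b := by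
  by_cases hab : a = b
  · exact ⟨1, one_mem _, hab⟩
  obtain ⟨c, hc⟩ : ∃ c, c ∉ ({ω, a, b} : Finset (Fin n)) := by
    by_contra h
    push Not at h
    have := (Finset.card_le_card (s := Finset.univ) (fun z _ => h z)).trans Finset.card_le_three
    simp at this
    omega
  simp only [Finset.mem_insert, Finset.mem_singleton, not_or] at hc
  exact ⟨⟨cyc a b c, (isThreeCycle_cyc hab (Ne.symm hc.2.1) (Ne.symm hc.2.2)).mem_alternatingGroup⟩,
    cyc_other (Ne.symm ha) (Ne.symm hb) (Ne.symm hc.1), cyc_a hab (Ne.symm hc.2.1)⟩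

/-- The stabiliser has no other fixed point. -/
theorem eq_of_altStab_fixes (h5 : 5 ≤ n) {ω a : Fin n}
    (h : ∀ x ∈ altStab ω, (x : Perm (Fin n)) a = a) : a = ω := by
  by_contra ha
  obtain ⟨b, hb⟩ : ∃ b, b ∉ ({ω, a} : Finset (Fin n)) := by
    by_contra h'
    push Not at h'
    have := (Finset.card_le_card (s := Finset.univ) (fun z _ => h' z)).trans Finset.card_le_two
    simp at this
    omega
  simp only [Finset.mem_insert, Finset.mem_singleton, not_or] at hb
  obtain ⟨x, hx, hxa⟩ := exists_stab_move h5 ha hb.1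
  exact hb.2 (hxa.symm.trans (h x hx))

/-- The stabiliser is maximal. -/
theorem altStab_max (h5 : 5 ≤ n) {ω : Fin n} {X : Subgroup ↥(alternatingGroup (Fin n))} (hX : altStab ω ≤ X) :
    X = altStab ω ∨ X = ⊤ := by
  by_cases h : ∀ x ∈ X, (x : Perm (Fin n)) ω = ω
  · exact Or.inl (le_antisymm h hX)
  push Not at h
  obtain ⟨g, hg, hgω⟩ := h
  refine Or.inr (eq_top_iff.2 fun y _ => ?_)
  by_cases hy : (y : Perm (Fin n)) ω = ω
  · exact hX hy
  obtain ⟨x, hx, hxa⟩ := exists_stab_move h5 hgω hy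
  have h1 : (x * g)⁻¹ * y ∈ altStab ω := by
    show ((((x : Perm (Fin n)) * g)⁻¹ * y) : Perm (Fin n)) ω = ω
    rw [Perm.mul_apply, ← hxa, Perm.inv_def, Equiv.symm_apply_eq]
    rfl
  have h2 := mul_mem (mul_mem (hX hx) hg) (hX h1)
  rwa [mul_inv_cancel_left] at h2

theorem altStab_ne_top (h5 : 5 ≤ n) (ω : Fin n) : altStab ω ≠ ⊤ := fun h => by
  obtain ⟨a, ha⟩ : ∃ a, a ≠ ω := by
    haveI : Nontrivial (Fin n) := Fin.nontrivial_iff_two_le.2 (by omega)
    exact exists_ne ω
  obtain ⟨b, hb⟩ : ∃ b, b ∉ ({ω, a} : Finset (Fin n)) := by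
    by_contra h'
    push Not at h'
    have := (Finset.card_le_card (s := Finset.univ) (fun z _ => h' z)).trans Finset.card_le_two
    simp at this
    omega
  simp only [Finset.mem_insert, Finset.mem_singleton, not_or] at hb
  have hx : (⟨cyc ω a b, (isThreeCycle_cyc (Ne.symm ha) (Ne.symm hb.1) (Ne.symm hb.2)).mem_alternatingGroup⟩ :
      ↥(alternatingGroup (Fin n))) ∈ altStab ω := h ▸ Subgroup.mem_top _
  exact ha ((cyc_a (Ne.symm ha) (Ne.symm hb.1)).symm.trans hx)

/-- The stabiliser is the alternating group of one degree less. -/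
theorem altStab_equiv {r : ℕ} (ω : Fin (r + 1)) :
    Nonempty (↥(altStab ω) ≃* ↥(alternatingGroup (Fin r))) := by
  obtain ⟨θ, hθ, hmem⟩ := CfsgLib.LocalEven.PushMin.exists_stab_equiv ω
  let f : ↥(alternatingGroup (Fin r)) →* ↥(altStab ω) := MonoidHom.mk'
    (fun π => ⟨⟨θ π, mem_alternatingGroup.2 ((hmem _).1 ⟨π, π.2, rfl⟩).1⟩, ((hmem _).1 ⟨π, π.2, rfl⟩).2⟩)
    (fun a b => Subtype.ext (Subtype.ext (map_mul θ _ _)))
  refine ⟨(MulEquiv.ofBijective f ⟨fun a b h => Subtype.ext (hθ ?_), fun x => ?_⟩).symm⟩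
  · exact congrArg (fun z : ↥(altStab ω) => ((z : ↥(alternatingGroup (Fin (r + 1)))) : Perm (Fin (r + 1)))) h
  · obtain ⟨π, hπ, he⟩ := (hmem ((x : ↥(alternatingGroup (Fin (r + 1)))) : Perm (Fin (r + 1)))).2
      ⟨mem_alternatingGroup.1 x.1.2, x.2⟩
    exact ⟨⟨π, hπ⟩, Subtype.ext (Subtype.ext he)⟩

/-- A Sylow 2-subgroup of an alternating group of odd degree fixes exactly one point. -/
theorem exists_unique_fixed {m : ℕ} (hm : 2 ≤ m) (P : Sylow 2 ↥(alternatingGroup (Fin (2 * m + 1)))) :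
    ∃ ω : Fin (2 * m + 1), (P : Subgroup _) ≤ altStab ω ∧ ∀ a, (P : Subgroup _) ≤ altStab a → a = ω := by
  classical
  letI : MulAction ↥(P : Subgroup ↥(alternatingGroup (Fin (2 * m + 1)))) (Fin (2 * m + 1)) :=
    MulAction.compHom _ ((alternatingGroup (Fin (2 * m + 1))).subtype.comp (P : Subgroup ↥(alternatingGroup (Fin (2 * m + 1)))).subtype)
  have hmod := P.2.card_modEq_card_fixedPoints (Fin (2 * m + 1))
  obtain ⟨ω, hω⟩ : (MulAction.fixedPoints ↥(P : Subgroup ↥(alternatingGroup (Fin (2 * m + 1))))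
      (Fin (2 * m + 1))).Nonempty := by
    by_contra h
    rw [Set.not_nonempty_iff_eq_empty] at h
    rw [h, Nat.card_fin] at hmod
    simp [Nat.ModEq, Nat.add_mod] at hmod
  have hωP : (P : Subgroup _) ≤ altStab ω := fun x hx => hω ⟨x, hx⟩
  refine ⟨ω, hωP, fun a ha => ?_⟩
  by_contra hne
  -- `P` lies in the stabiliser of two points, of even index
  set X := altStab ω ⊓ altStab a with hX
  have hPX : (P : Subgroup _) ≤ X := le_inf hωP ha
  have hdvd : 2 ∣ X.index := by
    let f : ↥(alternatingGroup (Fin (2 * m + 1))) ⧸ X → {z : Fin (2 * m + 1) × Fin (2 * m + 1) // z.1 ≠ z.2} :=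
      fun q => Quotient.liftOn' q
        (fun x => ⟨((x : Perm (Fin (2 * m + 1))) ω, (x : Perm (Fin (2 * m + 1))) a),
          fun h => hne ((x : Perm (Fin (2 * m + 1))).injective h).symm⟩)
        (fun x y hxy => by
          rw [QuotientGroup.leftRel_apply] at hxy
          obtain ⟨h1, h2⟩ := Subgroup.mem_inf.1 hxy
          have e1 : ((x : Perm (Fin (2 * m + 1)))⁻¹ * y) ω = ω := h1
          have e2 : ((x : Perm (Fin (2 * m + 1)))⁻¹ * y) a = a := h2
          rw [Perm.mul_apply, Perm.inv_def, Equiv.symm_apply_eq] at e1 e2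
          exact Subtype.ext (Prod.ext e1.symm e2.symm))
    have hf : Function.Bijective f := by
      refine ⟨fun x y => ?_, fun z => ?_⟩
      · induction x using QuotientGroup.induction_on with
        | H x =>
          induction y using QuotientGroup.induction_on with
          | H y =>
            intro h
            have h1 : (x : Perm (Fin (2 * m + 1))) ω = (y : Perm (Fin (2 * m + 1))) ω := congrArg (fun z => z.1.1) h
            have h2 : (x : Perm (Fin (2 * m + 1))) a = (y : Perm (Fin (2 * m + 1))) a := congrArg (fun z => z.1.2) h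
            rw [QuotientGroup.eq]
            refine Subgroup.mem_inf.2 ⟨?_, ?_⟩ <;>
              show ((x : Perm (Fin (2 * m + 1)))⁻¹ * y) _ = _ <;>
              rw [Perm.mul_apply, Perm.inv_def, Equiv.symm_apply_eq]
            exacts [h1.symm, h2.symm]
      · obtain ⟨⟨u, v⟩, huv⟩ := z
        obtain ⟨g, hgω⟩ : ∃ g : ↥(alternatingGroup (Fin (2 * m + 1))), (g : Perm (Fin (2 * m + 1))) ω = u := by
          by_cases h : ω = u
          · exact ⟨1, h⟩
          obtain ⟨c, hc⟩ : ∃ c, c ∉ ({ω, u} : Finset (Fin (2 * m + 1))) := by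
            by_contra h'
            push Not at h'
            have := (Finset.card_le_card (s := Finset.univ) (fun z _ => h' z)).trans Finset.card_le_two
            simp at this
            omega
          simp only [Finset.mem_insert, Finset.mem_singleton, not_or] at hc
          exact ⟨⟨cyc ω u c, (isThreeCycle_cyc h (Ne.symm hc.1) (Ne.symm hc.2)).mem_alternatingGroup⟩,
            cyc_a h (Ne.symm hc.1)⟩
        have hga : (g : Perm (Fin (2 * m + 1))) a ≠ u := fun h =>
          hne ((g : Perm (Fin (2 * m + 1))).injective (h.trans hgω.symm))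
        obtain ⟨y, hy, hya⟩ := exists_stab_move (ω := u) (by omega) hga (Ne.symm huv)
        refine ⟨QuotientGroup.mk (y * g), Subtype.ext (Prod.ext ?_ hya)⟩
        show ((y : Perm (Fin (2 * m + 1))) * g) ω = u
        rw [Perm.mul_apply, hgω]
        exact hy
    rw [Subgroup.index, Nat.card_congr (Equiv.ofBijective f hf), Nat.card_eq_fintype_card,
      Fintype.card_subtype_compl, Fintype.card_prod, Fintype.card_fin]
    have e : Fintype.card {z : Fin (2 * m + 1) × Fin (2 * m + 1) // z.1 = z.2} = 2 * m + 1 := by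
      conv_rhs => rw [← Fintype.card_fin (2 * m + 1)]
      exact Fintype.card_congr
        { toFun := fun z => z.1.1, invFun := fun i => ⟨(i, i), rfl⟩,
          left_inv := fun z => Subtype.ext (Prod.ext rfl z.2), right_inv := fun i => rfl }
    rw [e]
    refine ⟨m * (2 * m + 1), ?_⟩
    rw [Nat.sub_eq_iff_eq_add (by nlinarith)]
    ring
  exact P.not_dvd_index (hdvd.trans (Subgroup.index_dvd_of_le hPX))

/-- An automorphism normalising `P` normalises the stabiliser of its fixed point. -/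
theorem altStab_aut {m : ℕ} (hm : 2 ≤ m) {P : Sylow 2 ↥(alternatingGroup (Fin (2 * m + 1)))} {ω : Fin (2 * m + 1)}
    (hω : (P : Subgroup _) ≤ altStab ω) (huniq : ∀ a, (P : Subgroup _) ≤ altStab a → a = ω)
    (φ : MulAut ↥(alternatingGroup (Fin (2 * m + 1)))) (hφ : ∀ x ∈ (P : Subgroup _), φ x ∈ (P : Subgroup _))
    {x : ↥(alternatingGroup (Fin (2 * m + 1)))} (hx : x ∈ altStab ω) : φ x ∈ altStab ω := by
  obtain ⟨σ, rfl⟩ := (bijective_conjNormal (n := 2 * m + 1) (by omega) (by omega)).2 φ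
  have hmem : ∀ (a : Fin (2 * m + 1)) y,
      MulAut.conjNormal σ y ∈ altStab a ↔ y ∈ altStab (σ⁻¹ a) := fun a y => by
    rw [mem_altStab, mem_altStab, MulAut.conjNormal_apply, Perm.mul_apply, Perm.mul_apply, Perm.inv_def,
      Equiv.eq_symm_apply]
  have hσ : σ⁻¹ ω = ω := huniq _ fun y hy => (hmem ω y).1 (hω (hφ y hy))
  rw [hmem, hσ]
  exact hx

end CfsgLib.LocalEven.CStar
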