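import Cfsg.Agent.Lib.LocalEven.BlockBaumann.Alt
import Cfsg.Agent.Lib.LocalEven.SubBlock.Exceptional

/-!
The module of an alternating block is faithful, and the normaliser of the block acts on it by permutations.
-/

set_option autoImplicit false

namespace CfsgLib.LocalEven.CStar

open Cfsg Subgroup Equiv
open CfsgLib.LocalEven CfsgLib.LocalEven.SubBlock
open CfsgLib.LocalEven.BlockBaumann (pairVec pairVec_apply sum_pairVec eq_zero_or_pairVec)
open CfsgLib.Known.AltAut
open scoped commutatorElement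

variable {n : ℕ}

theorem pairVec_perm (σ : Perm (Fin n)) (i j k : Fin n) :
    pairVec i j (σ⁻¹ k) = pairVec (σ i) (σ j) k := by
  simp only [pairVec_apply, Perm.inv_def, Equiv.symm_apply_eq]

theorem pairVec_comm (i j : Fin n) : pairVec i j = pairVec j i := add_comm _ _

theorem pairVec_add_pairVec (i j k : Fin n) : pairVec i j + pairVec j k = pairVec i k := by
  funext t
  simp only [Pi.add_apply, pairVec_apply]
  generalize (if t = i then (1 : ZMod 2) else 0) = a
  generalize (if t = j then (1 : ZMod 2) else 0) = b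
  generalize (if t = k then (1 : ZMod 2) else 0) = c
  revert a b c; decide

/-- The even vectors are spanned by those of weight two. -/
theorem even_induction {P : (Fin n → ZMod 2) → Prop} (h0 : P 0) (hpair : ∀ i j, i ≠ j → P (pairVec i j))
    (hadd : ∀ u v, P u → P v → P (u + v)) {v : Fin n → ZMod 2} (hv : ∑ i, v i = 0) : P v := by
  classical
  suffices ∀ k : ℕ, ∀ v : Fin n → ZMod 2, ∑ i, v i = 0 →
      (Finset.univ.filter fun i => v i ≠ 0).card = k → P v from this _ v hv rfl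
  intro k
  induction k using Nat.strong_induction_on with
  | _ k ih =>
    intro v hv hk
    by_cases hz : v = 0
    · rw [hz]; exact h0
    obtain ⟨i, hi⟩ := Function.ne_iff.1 hz
    obtain ⟨j, hji, hj⟩ : ∃ j, j ≠ i ∧ v j ≠ 0 := by
      by_contra hc
      push Not at hc
      rw [Finset.sum_eq_single i (fun b _ hb => hc b hb) (fun h => absurd (Finset.mem_univ i) h)] at hv
      exact hi hv
    have hne1 : ∀ x : ZMod 2, x ≠ 0 → x = 1 := by decide
    have hvi : v i = 1 := hne1 _ hi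
    have hvj : v j = 1 := hne1 _ hj
    have e : v = (v + pairVec i j) + pairVec i j := by
      funext t; simp only [Pi.add_apply]; rw [add_assoc, CharTwo.add_self_eq_zero, add_zero]
    rw [e]
    refine hadd _ _ (ih _ ?_ _ ?_ rfl) (hpair i j hji.symm)
    · rw [← hk]
      refine Finset.card_lt_card ((Finset.ssubset_iff_of_subset ?_).2 ⟨i, ?_, ?_⟩)
      · intro t ht
        simp only [Finset.mem_filter, Finset.mem_univ, true_and, Pi.add_apply, pairVec_apply] at ht ⊢
        by_cases hti : t = i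
        · rw [hti]; exact hi
        by_cases htj : t = j
        · rw [htj]; exact hj
        simpa [hti, htj] using ht
      · simp only [Finset.mem_filter, Finset.mem_univ, true_and]; exact hi
      · simp only [Finset.mem_filter, Finset.mem_univ, true_and, not_not, Pi.add_apply, pairVec_apply, if_pos,
          if_neg hji.symm, hvi, add_zero]
        exact CharTwo.add_self_eq_zero 1
    · simp only [Pi.add_apply]
      rw [Finset.sum_add_distrib, hv, sum_pairVec, add_zero]

variable {G : Type*} [Group G]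

/-- `C_W(E) = 1` and the normaliser of `E` permutes the coordinates. -/
structure AltMod (E : Subgroup G) (n : ℕ) where
  perm : G → Perm (Fin n)
  vec : G → (Fin n → ZMod 2)
  perm_mul : ∀ g ∈ normalizer (E : Set G), ∀ h ∈ normalizer (E : Set G), perm (g * h) = perm g * perm h
  perm_range : ∀ x, x ∈ alternatingGroup (Fin n) ↔ ∃ e ∈ E, perm e = x
  perm_eq_one : ∀ e ∈ E, perm e = 1 ↔ e ∈ pCoreOf 2 E
  vec_mul : ∀ a ∈ bW 2 E, ∀ b ∈ bW 2 E, vec (a * b) = vec a + vec b
  vec_sum : ∀ w ∈ bW 2 E, ∑ i, vec w i = 0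
  vec_inj : ∀ a ∈ bW 2 E, ∀ b ∈ bW 2 E, vec a = vec b → a = b
  vec_surj : ∀ v : Fin n → ZMod 2, ∑ i, v i = 0 → ∃ w ∈ bW 2 E, vec w = v
  vec_conj : ∀ g ∈ normalizer (E : Set G), ∀ w ∈ bW 2 E, ∀ i, vec (g * w * g⁻¹) i = vec w ((perm g)⁻¹ i)

variable [Finite G] {E : Subgroup G}

omit [Finite G] in
theorem bW_sq {w : G} (hw : w ∈ bW 2 E) : w * w = 1 := by
  have := (Oz.mem_iff.1 hw).2.2
  rwa [pow_two] at this

namespace AltMod

variable (M : AltMod E n)

omit [Finite G] in
theorem perm_one : M.perm 1 = 1 := by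
  have := M.perm_mul 1 (one_mem _) 1 (one_mem _)
  rw [one_mul] at this
  exact left_eq_mul.1 this

omit [Finite G] in
theorem perm_inv {g : G} (hg : g ∈ normalizer (E : Set G)) : M.perm g⁻¹ = (M.perm g)⁻¹ := by
  have := M.perm_mul g⁻¹ (inv_mem hg) g hg
  rw [inv_mul_cancel, M.perm_one] at this
  exact eq_inv_of_mul_eq_one_left this.symm

omit [Finite G] in
theorem perm_pow {g : G} (hg : g ∈ normalizer (E : Set G)) (k : ℕ) : M.perm (g ^ k) = M.perm g ^ k := by
  induction k with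
  | zero => simpa using M.perm_one
  | succ k ih => rw [pow_succ, pow_succ, M.perm_mul _ (pow_mem hg k) _ hg, ih]

omit [Finite G] in
theorem vec_one : M.vec 1 = 0 := by
  have := M.vec_mul 1 (one_mem _) 1 (one_mem _)
  rw [one_mul] at this
  exact left_eq_add.1 this

include M in
theorem conj_mem {g w : G} (hg : g ∈ normalizer (E : Set G)) (hw : w ∈ bW 2 E) : g * w * g⁻¹ ∈ bW 2 E :=
  (mem_normalizer_iff.1 (normalizer_le_bW E hg) w).1 hw

include M

theorem commute_iff {g w : G} (hg : g ∈ normalizer (E : Set G)) (hw : w ∈ bW 2 E) :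
    g * w = w * g ↔ ∀ i, M.vec w ((M.perm g)⁻¹ i) = M.vec w i := by
  rw [← mul_inv_eq_iff_eq_mul]
  constructor
  · intro h i
    rw [← M.vec_conj g hg w hw, h]
  · intro h
    exact M.vec_inj _ (M.conj_mem hg hw) _ hw (funext fun i => (M.vec_conj g hg w hw i).trans (h i))

theorem centralizes_iff {g : G} (h3 : 3 ≤ n) (hg : g ∈ normalizer (E : Set G)) :
    g ∈ centralizer (bW 2 E : Set G) ↔ M.perm g = 1 := by
  constructor
  · intro h
    refine Perm.ext fun i => ?_
    by_contra hi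
    have hi' : M.perm g i ≠ i := hi
    obtain ⟨r, hr⟩ : ∃ r, r ∉ ({i, M.perm g i} : Finset (Fin n)) := by
      by_contra hc
      push Not at hc
      have := (Finset.card_le_card (s := Finset.univ) (fun z _ => hc z)).trans Finset.card_le_two
      rw [Finset.card_univ, Fintype.card_fin] at this
      omega
    simp only [Finset.mem_insert, Finset.mem_singleton, not_or] at hr
    obtain ⟨w, hw, hwv⟩ := M.vec_surj (pairVec i r) (sum_pairVec i r)
    have h1 := (M.commute_iff hg hw).1 (mem_centralizer_iff.1 h w hw).symm (M.perm g i)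
    rw [hwv, Perm.inv_def, Equiv.symm_apply_apply, pairVec_apply, pairVec_apply, if_pos rfl,
      if_neg (Ne.symm hr.1), if_neg hi', if_neg (Ne.symm hr.2)] at h1
    exact absurd h1 (by decide)
  · intro h
    refine mem_centralizer_iff.2 fun w hw => ((M.commute_iff hg hw).2 fun i => ?_).symm
    rw [h, inv_one, Perm.one_apply]

/-- `C_W(E) = 1`. -/
theorem eq_one_of_central (hn : Odd n) (h5 : 5 ≤ n) {z : G} (hz : z ∈ bW 2 E)
    (hc : z ∈ centralizer (E : Set G)) : z = 1 := by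
  refine M.vec_inj z hz 1 (one_mem _) (M.vec_one ▸ ?_)
  have hconst : ∀ i j, M.vec z i = M.vec z j := by
    intro i j
    by_cases hij : i = j
    · rw [hij]
    obtain ⟨k, hk⟩ : ∃ k, k ∉ ({i, j} : Finset (Fin n)) := by
      by_contra h'
      push Not at h'
      have := (Finset.card_le_card (s := Finset.univ) (fun z _ => h' z)).trans Finset.card_le_two
      rw [Finset.card_univ, Fintype.card_fin] at this
      omega
    simp only [Finset.mem_insert, Finset.mem_singleton, not_or] at hk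
    obtain ⟨e, he, hee⟩ := (M.perm_range _).1
      (isThreeCycle_cyc hij (Ne.symm hk.1) (Ne.symm hk.2)).mem_alternatingGroup
    have h1 := (M.commute_iff (le_normalizer he) hz).1 (mem_centralizer_iff.1 hc e he) j
    rw [hee, Perm.inv_def, show (cyc i j k).symm j = i by
      rw [Equiv.symm_apply_eq, cyc_a hij (Ne.symm hk.1)]] at h1
    exact h1
  funext i
  have h2 := M.vec_sum z hz
  rw [Finset.sum_congr rfl (g := fun _ => M.vec z i) fun j _ => hconst j i, Finset.sum_const, Finset.card_univ,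
    Fintype.card_fin, nsmul_eq_mul] at h2
  obtain ⟨r, rfl⟩ := hn
  rwa [Nat.cast_add, Nat.cast_mul, show ((2 : ℕ) : ZMod 2) = 0 from rfl, zero_mul, zero_add, Nat.cast_one,
    one_mul] at h2

/-- The element of weight two. -/
noncomputable def pairElt (i j : Fin n) : G := (M.vec_surj (pairVec i j) (sum_pairVec i j)).choose

omit [Finite G] in
theorem pairElt_mem (i j : Fin n) : M.pairElt i j ∈ bW 2 E :=
  (M.vec_surj (pairVec i j) (sum_pairVec i j)).choose_spec.1

omit [Finite G] in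
theorem vec_pairElt (i j : Fin n) : M.vec (M.pairElt i j) = pairVec i j :=
  (M.vec_surj (pairVec i j) (sum_pairVec i j)).choose_spec.2

omit [Finite G] in
theorem pairElt_comm (i j : Fin n) : M.pairElt i j = M.pairElt j i :=
  M.vec_inj _ (M.pairElt_mem i j) _ (M.pairElt_mem j i) (by rw [vec_pairElt, vec_pairElt, pairVec_comm])

omit [Finite G] in
theorem pairElt_ne_one {i j : Fin n} (h : i ≠ j) : M.pairElt i j ≠ 1 := fun e => by
  have h1 := congrFun (M.vec_pairElt i j) i
  rw [e, M.vec_one, pairVec_apply, if_pos rfl, if_neg h] at h1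
  simp at h1

theorem conj_pairElt {g : G} (hg : g ∈ normalizer (E : Set G)) (i j : Fin n) :
    g * M.pairElt i j * g⁻¹ = M.pairElt (M.perm g i) (M.perm g j) :=
  M.vec_inj _ (M.conj_mem hg (M.pairElt_mem i j)) _ (M.pairElt_mem _ _) (funext fun k => by
    rw [M.vec_conj g hg _ (M.pairElt_mem i j), vec_pairElt, vec_pairElt, pairVec_perm])

/-- When an element commutes with an element of weight two. -/
theorem commute_pairElt_iff {g : G} (hg : g ∈ normalizer (E : Set G)) {i j : Fin n} (hij : i ≠ j) :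
    g * M.pairElt i j = M.pairElt i j * g ↔
      (M.perm g i = i ∧ M.perm g j = j) ∨ (M.perm g i = j ∧ M.perm g j = i) := by
  rw [← mul_inv_eq_iff_eq_mul, M.conj_pairElt hg]
  constructor
  · intro h
    have h1 : pairVec (M.perm g i) (M.perm g j) = pairVec i j := by rw [← M.vec_pairElt, h, M.vec_pairElt]
    have hne : M.perm g i ≠ M.perm g j := fun e => hij ((M.perm g).injective e)
    have key : ∀ a b : Fin n, a ≠ b → pairVec a b = pairVec i j → a = i ∨ a = j := by
      intro a b hab e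
      have h2 := congrFun e a
      rw [pairVec_apply, pairVec_apply, if_pos rfl, if_neg hab] at h2
      by_contra hc
      push Not at hc
      rw [if_neg hc.1, if_neg hc.2] at h2
      exact absurd h2 (by decide)
    rcases key _ _ hne h1 with e | e <;> rcases key _ _ hne.symm (by rw [pairVec_comm, h1]) with e' | e'
    · exact absurd (e.trans e'.symm) hne
    · exact Or.inl ⟨e, e'⟩
    · exact Or.inr ⟨e, e'⟩
    · exact absurd (e.trans e'.symm) hne
  · rintro (⟨h1, h2⟩ | ⟨h1, h2⟩) <;> rw [h1, h2]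
    exact M.pairElt_comm j i

end AltMod

/-- An alternating block carries such a structure. -/
theorem nonempty_altMod {S : Subgroup G} (hE : IsBaumannBlock 2 S E) {m : ℕ} (hm : 2 ≤ m)
    (hbS : ∀ e ∈ E, e ∈ stab (bW 2 E) (bZ 2 E) → e ∈ pCoreOf 2 E) (hWE : bWE 2 E = bW 2 E)
    (hsec : ActsAsOddPermModuleOnSection (2 * m + 1) (alternatingGroup (Fin (2 * m + 1))) E (bW 2 E) (bZ 2 E)) :
    Nonempty (AltMod E (2 * m + 1)) := by
  classical
  set n := 2 * m + 1 with hn
  have h5 : 5 ≤ n := by omega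
  set W := bW 2 E with hW
  obtain ⟨-, -, ρ, ψ, hρ, hψ1, hψ2, hker, heq⟩ := hsec
  let vec : G → (Fin n → ZMod 2) := fun g => if h : g ∈ W then Multiplicative.toAdd (ψ ⟨g, h⟩) else 0
  let rho : G → Perm (Fin n) := fun g => if h : g ∈ E then ρ ⟨g, h⟩ else 1
  have hvmul : ∀ a ∈ W, ∀ b ∈ W, vec (a * b) = vec a + vec b := fun a ha b hb => by
    simp only [vec, dif_pos ha, dif_pos hb, dif_pos (mul_mem ha hb), ← toAdd_mul, ← map_mul]
    rfl
  have hvone : vec 1 = 0 := by
    have := hvmul 1 (one_mem W) 1 (one_mem W)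
    rw [one_mul] at this
    exact left_eq_add.1 this
  have hvsum : ∀ w ∈ W, ∑ i, vec w i = 0 := fun w hw => by
    simp only [vec, dif_pos hw]; exact hψ1 _
  have hvsurj : ∀ v : Fin n → ZMod 2, ∑ i, v i = 0 → ∃ w ∈ W, vec w = v := fun v hv => by
    obtain ⟨u, hu⟩ := hψ2 v hv
    exact ⟨u, u.2, by simp only [vec, dif_pos u.2, Subtype.coe_eta]; exact hu⟩
  have hvker : ∀ w ∈ W, (vec w = 0 ↔ w ∈ bZ 2 E) := fun w hw => by
    simp only [vec, dif_pos hw, toAdd_eq_zero]; exact hker ⟨w, hw⟩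
  have hrmul : ∀ a ∈ E, ∀ b ∈ E, rho (a * b) = rho a * rho b := fun a ha b hb => by
    simp only [rho, dif_pos ha, dif_pos hb, dif_pos (mul_mem ha hb), ← map_mul]; rfl
  have hrrange : ∀ x, x ∈ alternatingGroup (Fin n) ↔ ∃ e ∈ E, rho e = x := fun x => by
    rw [← hρ]
    constructor
    · rintro ⟨e, rfl⟩; exact ⟨e, e.2, by simp only [rho, dif_pos e.2, Subtype.coe_eta]⟩
    · rintro ⟨e, he, rfl⟩; exact ⟨⟨e, he⟩, by simp only [rho, dif_pos he]⟩
  have hEW : ∀ e ∈ E, ∀ w ∈ W, e * w * e⁻¹ ∈ W := fun e he w hw =>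
    (mem_normalizer_iff.1 (le_normalizer_bW E he) w).1 hw
  have hvconj : ∀ e ∈ E, ∀ w ∈ W, ∀ i, vec (e * w * e⁻¹) i = vec w ((rho e)⁻¹ i) := by
    intro e he w hw i
    obtain ⟨u, hu, hu'⟩ := heq ⟨e, he⟩ ⟨w, hw⟩
    simp only [vec, rho, dif_pos (hEW e he w hw), dif_pos hw, dif_pos he]
    rw [show (⟨e * w * e⁻¹, hEW e he w hw⟩ : ↥W) = u from Subtype.ext hu.symm]
    exact hu' i
  have hcomm : ∀ {a b : G}, a ∈ W → b ∈ W → a * b = b * a := fun ha hb => bW_comm ha hb
  have hr1 : ∀ e ∈ E, (rho e = 1 ↔ e ∈ pCoreOf 2 E) := by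
    intro e he
    constructor
    · intro h
      refine hbS e he (mem_stab_of_le inf_le_left (le_normalizer_bW E he) fun a ha => ?_)
      have h1 := hEW e he a ha
      have h2 : vec (a * (e * a * e⁻¹)⁻¹) = 0 := by
        have e1 : vec (e * a * e⁻¹) = vec a := funext fun i => by rw [hvconj e he a ha, h, inv_one, Perm.one_apply]
        have e2 := hvmul (a * (e * a * e⁻¹)⁻¹) (mul_mem ha (inv_mem h1)) _ h1
        rw [inv_mul_cancel_right, e1] at e2
        exact right_eq_add.1 e2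
      have h3 := (hvker _ (mul_mem ha (inv_mem h1))).1 h2
      convert h3 using 1
      rw [commutatorElement_def]; group
    · intro h
      refine Perm.ext fun i => ?_
      by_contra hi
      have hi' : rho e i ≠ i := hi
      obtain ⟨r, hr⟩ : ∃ r, r ∉ ({i, rho e i} : Finset (Fin n)) := by
        by_contra hc
        push Not at hc
        have := (Finset.card_le_card (s := Finset.univ) (fun z _ => hc z)).trans Finset.card_le_two
        rw [Finset.card_univ, Fintype.card_fin] at this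
        omega
      simp only [Finset.mem_insert, Finset.mem_singleton, not_or] at hr
      obtain ⟨w, hw, hwv⟩ := hvsurj (pairVec i r) (sum_pairVec i r)
      have h1 := hvconj e he w hw (rho e i)
      rw [core_comm h hw, mul_inv_cancel_right, hwv, Perm.inv_def, Equiv.symm_apply_apply, pairVec_apply,
        pairVec_apply, if_pos rfl, if_neg (Ne.symm hr.1), if_neg hi', if_neg (Ne.symm hr.2)] at h1
      exact absurd h1 (by decide)
  -- the projection attached to a three-cycle
  let proj : G → G → G := fun g w => (g * w * g⁻¹) * (g * g * w * (g * g)⁻¹)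
  have hproj_mem : ∀ g ∈ E, ∀ w ∈ W, proj g w ∈ W := fun g hg w hw =>
    mul_mem (hEW g hg w hw) (hEW _ (mul_mem hg hg) w hw)
  have hproj_mul : ∀ g ∈ E, ∀ a ∈ W, ∀ b ∈ W, proj g (a * b) = proj g a * proj g b := by
    intro g hg a ha b hb
    simp only [proj]
    calc g * (a * b) * g⁻¹ * (g * g * (a * b) * (g * g)⁻¹)
        = g * a * g⁻¹ * ((g * b * g⁻¹) * (g * g * a * (g * g)⁻¹)) * (g * g * b * (g * g)⁻¹) := by group
      _ = g * a * g⁻¹ * ((g * g * a * (g * g)⁻¹) * (g * b * g⁻¹)) * (g * g * b * (g * g)⁻¹) := by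
          rw [hcomm (hEW g hg b hb) (hEW _ (mul_mem hg hg) a ha)]
      _ = _ := by group
  have hproj_one : ∀ g, proj g 1 = 1 := fun g => by simp [proj]
  have hproj_Z : ∀ g ∈ E, ∀ z ∈ bZ 2 E, proj g z = 1 := fun g hg z hz => by
    have hc : ∀ x ∈ E, x * z * x⁻¹ = z := fun x hx => by
      rw [mem_centralizer_iff.1 hz.2 x hx, mul_inv_cancel_right]
    simp only [proj, hc g hg, hc _ (mul_mem hg hg)]
    exact bW_sq hz.1
  have hproj_eq : ∀ g ∈ E, ∀ a ∈ W, ∀ b ∈ W, vec a = vec b → proj g a = proj g b := by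
    intro g hg a ha b hb h
    have hz : a * b⁻¹ ∈ bZ 2 E := (hvker _ (mul_mem ha (inv_mem hb))).1 (by
      have := hvmul (a * b⁻¹) (mul_mem ha (inv_mem hb)) b hb
      rw [inv_mul_cancel_right, h] at this
      exact right_eq_add.1 this)
    have h1 := hproj_mul g hg _ (mul_mem ha (inv_mem hb)) b hb
    rwa [inv_mul_cancel_right, hproj_Z g hg _ hz, one_mul] at h1
  have hact : ∀ g ∈ E, ∀ h ∈ E, rho g = rho h → ∀ w ∈ W, g * w * g⁻¹ = h * w * h⁻¹ := by
    intro g hg h hh e w hw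
    have hq : h⁻¹ * g ∈ pCoreOf 2 E := (hr1 _ (mul_mem (inv_mem hh) hg)).1 (by
      have := hrmul h hh _ (mul_mem (inv_mem hh) hg)
      rw [mul_inv_cancel_left, e] at this
      exact left_eq_mul.1 this)
    have h1 : h⁻¹ * g * w * (h⁻¹ * g)⁻¹ = w := by rw [core_comm hq hw, mul_inv_cancel_right]
    calc g * w * g⁻¹ = h * (h⁻¹ * g * w * (h⁻¹ * g)⁻¹) * h⁻¹ := by group
      _ = _ := by rw [h1]
  have hrho1 : rho 1 = 1 := (hr1 1 (one_mem E)).2 (one_mem _)
  have hproj_congr : ∀ g ∈ E, ∀ h ∈ E, rho g = rho h → ∀ w ∈ W, proj g w = proj h w := by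
    intro g hg h hh e w hw
    simp only [proj]
    rw [hact g hg h hh e w hw, hact _ (mul_mem hg hg) _ (mul_mem hh hh) (by rw [hrmul g hg g hg, hrmul h hh h hh, e]) w hw]
  have hproj_inv : ∀ g ∈ E, rho g ^ 3 = 1 → ∀ w ∈ W, proj g⁻¹ w = proj g w := by
    intro g hg h3 w hw
    have h2 : rho g⁻¹ = rho g * rho g := by
      have := hrmul g⁻¹ (inv_mem hg) g hg
      rw [inv_mul_cancel, hrho1] at this
      rw [eq_inv_of_mul_eq_one_left this.symm]
      exact (eq_inv_of_mul_eq_one_left (by rw [← pow_two, ← pow_succ]; exact h3)).symm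
    have h4 : rho (g⁻¹ * g⁻¹) = rho g := by
      rw [hrmul _ (inv_mem hg) _ (inv_mem hg), h2,
        show rho g * rho g * (rho g * rho g) = rho g ^ 3 * rho g by simp only [pow_succ, pow_zero, one_mul, mul_assoc], h3, one_mul]
    simp only [proj]
    rw [hact g⁻¹ (inv_mem hg) _ (mul_mem hg hg) (h2.trans (hrmul g hg g hg).symm) w hw,
      hact _ (mul_mem (inv_mem hg) (inv_mem hg)) g hg h4 w hw]
    exact hcomm (hEW _ (mul_mem hg hg) w hw) (hEW g hg w hw)
  have hproj_vec : ∀ g ∈ E, ∀ w ∈ W, ∀ i, vec (proj g w) i =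
      vec w ((rho g)⁻¹ i) + vec w ((rho g * rho g)⁻¹ i) := by
    intro g hg w hw i
    simp only [proj]
    rw [hvmul _ (hEW g hg w hw) _ (hEW _ (mul_mem hg hg) w hw), Pi.add_apply, hvconj g hg w hw,
      hvconj _ (mul_mem hg hg) w hw, hrmul g hg g hg]
  -- the canonical lift of a pair
  let IsLift : Fin n → Fin n → G → Prop := fun x y u => ∃ k, k ≠ x ∧ k ≠ y ∧ ∃ g ∈ E, rho g = cyc x y k ∧
    ∃ w ∈ W, vec w = pairVec x y ∧ u = proj g w
  have hcyc3 : ∀ {x y k : Fin n}, x ≠ y → x ≠ k → y ≠ k → cyc x y k ^ 3 = 1 := fun h1 h2 h3 => by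
    rw [← (isThreeCycle_cyc h1 h2 h3).orderOf, pow_orderOf_eq_one]
  have hlift_mem : ∀ x y u, IsLift x y u → u ∈ W := by
    rintro x y u ⟨k, -, -, g, hg, -, w, hw, -, rfl⟩
    exact hproj_mem g hg w hw
  have hlift_vec : ∀ x y u, x ≠ y → IsLift x y u → vec u = pairVec x y := by
    rintro x y u hxy ⟨k, hkx, hky, g, hg, hgr, w, hw, hwv, rfl⟩
    funext i
    rw [hproj_vec g hg w hw, hwv, pairVec_perm, pairVec_perm, hgr, Perm.mul_apply, Perm.mul_apply,
      cyc_a hxy hkx.symm, cyc_b hkx.symm hky.symm, cyc_c, ← Pi.add_apply (f := pairVec y k),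
      pairVec_add_pairVec, pairVec_comm]
  have hlift_ex : ∀ x y, x ≠ y → ∃ u, IsLift x y u := by
    intro x y hxy
    obtain ⟨k, hk⟩ : ∃ k, k ∉ ({x, y} : Finset (Fin n)) := by
      by_contra hc
      push Not at hc
      have := (Finset.card_le_card (s := Finset.univ) (fun z _ => hc z)).trans Finset.card_le_two
      rw [Finset.card_univ, Fintype.card_fin] at this
      omega
    simp only [Finset.mem_insert, Finset.mem_singleton, not_or] at hk
    obtain ⟨g, hg, hgr⟩ := (hrrange _).1 (isThreeCycle_cyc hxy (Ne.symm hk.1) (Ne.symm hk.2)).mem_alternatingGroup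
    obtain ⟨w, hw, hwv⟩ := hvsurj (pairVec x y) (sum_pairVec x y)
    exact ⟨proj g w, k, hk.1, hk.2, g, hg, hgr, w, hw, hwv, rfl⟩
  have hproj_conj : ∀ h g w : G, h * proj g w * h⁻¹ = proj (h * g * h⁻¹) (h * w * h⁻¹) := fun h g w => by
    simp only [proj]; group
  have hlift_uniq : ∀ x y u u', x ≠ y → IsLift x y u → IsLift x y u' → u = u' := by
    rintro x y u u' hxy ⟨k, hkx, hky, g, hg, hgr, w, hw, hwv, rfl⟩ ⟨l, hlx, hly, g', hg', hgr', w', hw', hwv', rfl⟩
    by_cases hkl : k = l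
    · subst hkl
      rw [hproj_congr g hg g' hg' (hgr.trans hgr'.symm) w hw]
      exact hproj_eq g' hg' w hw w' hw' (hwv.trans hwv'.symm)
    obtain ⟨r, hr⟩ : ∃ r, r ∉ ({x, y, k, l} : Finset (Fin n)) := by
      by_contra hc
      push Not at hc
      have := (Finset.card_le_card (s := Finset.univ) (fun z _ => hc z)).trans Finset.card_le_four
      rw [Finset.card_univ, Fintype.card_fin] at this
      omega
    simp only [Finset.mem_insert, Finset.mem_singleton, not_or] at hr
    have h3c := isThreeCycle_cyc hkl (Ne.symm hr.2.2.1) (Ne.symm hr.2.2.2)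
    obtain ⟨h, hh, hhr⟩ := (hrrange _).1 h3c.mem_alternatingGroup
    have hx' : cyc k l r x = x := cyc_other hkx.symm hlx.symm (Ne.symm hr.1)
    have hy' : cyc k l r y = y := cyc_other hky.symm hly.symm (Ne.symm hr.2.1)
    set u := proj g w with hu
    have huW : u ∈ W := hproj_mem g hg w hw
    have hlu : IsLift x y u := ⟨k, hkx, hky, g, hg, hgr, w, hw, hwv, rfl⟩
    have hmove : h * u * h⁻¹ = proj g' w' := by
      rw [hu, hproj_conj]
      have hc1 : h * g * h⁻¹ ∈ E := mul_mem (mul_mem hh hg) (inv_mem hh)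
      rw [hproj_congr _ hc1 g' hg' ?_ _ (hEW h hh w hw)]
      · refine hproj_eq g' hg' _ (hEW h hh w hw) w' hw' (funext fun i => ?_)
        rw [hvconj h hh w hw, hwv, hwv', pairVec_perm, hhr, hx', hy']
      · have hi : rho h⁻¹ = (rho h)⁻¹ := eq_inv_of_mul_eq_one_left (by
          rw [← hrmul _ (inv_mem hh) h hh, inv_mul_cancel, hrho1])
        rw [hrmul _ (mul_mem hh hg) _ (inv_mem hh), hrmul h hh g hg, hi, hhr, hgr, hgr', cyc_conj, hx', hy',
          cyc_a hkl (Ne.symm hr.2.2.1)]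
    -- `h` fixes `u`
    set z := u⁻¹ * (h * u * h⁻¹) with hzdef
    have hzZ : z ∈ bZ 2 E := (hvker _ (mul_mem (inv_mem huW) (hEW h hh u huW))).1 (by
      have e1 := hvmul u⁻¹ (inv_mem huW) _ (hEW h hh u huW)
      have e2 := hvmul u⁻¹ (inv_mem huW) u huW
      rw [inv_mul_cancel, hvone] at e2
      rw [e1, show vec (h * u * h⁻¹) = vec u from funext fun i => by
        rw [hvconj h hh u huW, hlift_vec x y u hxy hlu, pairVec_perm, hhr, hx', hy'], ← e2])
    have hzc : ∀ e ∈ E, e * z * e⁻¹ = z := fun e he => by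
      rw [mem_centralizer_iff.1 hzZ.2 e he, mul_inv_cancel_right]
    have h1 : h * u * h⁻¹ = u * z := (mul_inv_cancel_left u _).symm
    have hh3 : h * h * h * u * (h * h * h)⁻¹ = u := by
      have hq : h * h * h ∈ pCoreOf 2 E := (hr1 _ (mul_mem (mul_mem hh hh) hh)).1 (by
        rw [hrmul _ (mul_mem hh hh) h hh, hrmul h hh h hh, ← pow_two, ← pow_succ, hhr,
          hcyc3 hkl (Ne.symm hr.2.2.1) (Ne.symm hr.2.2.2)])
      rw [core_comm hq huW, mul_inv_cancel_right]
    have h2 : h * h * h * u * (h * h * h)⁻¹ = u * z * z * z := by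
      calc h * h * h * u * (h * h * h)⁻¹ = h * (h * (h * u * h⁻¹) * h⁻¹) * h⁻¹ := by group
        _ = h * (h * (u * z) * h⁻¹) * h⁻¹ := by rw [h1]
        _ = h * ((h * u * h⁻¹) * (h * z * h⁻¹)) * h⁻¹ := by group
        _ = h * (u * z * z) * h⁻¹ := by rw [h1, hzc h hh]
        _ = (h * u * h⁻¹) * (h * z * h⁻¹) * (h * z * h⁻¹) := by group
        _ = u * z * z * z := by rw [h1, hzc h hh]
    rw [hh3, mul_assoc (u * z), bW_sq hzZ.1, mul_one, left_eq_mul] at h2
    rw [← hmove, h1, h2, mul_one]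
  have hlift_symm : ∀ x y u, x ≠ y → IsLift x y u → IsLift y x u := by
    rintro x y u hxy ⟨k, hkx, hky, g, hg, hgr, w, hw, hwv, rfl⟩
    refine ⟨k, hky, hkx, g⁻¹, inv_mem hg, ?_, w, hw, hwv.trans (pairVec_comm x y), (hproj_inv g hg ?_ w hw).symm⟩
    · rw [← cyc_inv hxy hkx.symm hky.symm, ← hgr]
      exact eq_inv_of_mul_eq_one_left (by rw [← hrmul _ (inv_mem hg) g hg, inv_mul_cancel, hrho1])
    · rw [hgr]; exact hcyc3 hxy hkx.symm hky.symm
  have hlift_conj : ∀ x y u h, h ∈ E → IsLift x y u → IsLift (rho h x) (rho h y) (h * u * h⁻¹) := by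
    rintro x y u h hh ⟨k, hkx, hky, g, hg, hgr, w, hw, hwv, rfl⟩
    refine ⟨rho h k, fun e => hkx ((rho h).injective e), fun e => hky ((rho h).injective e), h * g * h⁻¹,
      mul_mem (mul_mem hh hg) (inv_mem hh), ?_, h * w * h⁻¹, hEW h hh w hw, ?_, hproj_conj h g w⟩
    · have hi : rho h⁻¹ = (rho h)⁻¹ := eq_inv_of_mul_eq_one_left (by
        rw [← hrmul _ (inv_mem hh) h hh, inv_mul_cancel, hrho1])
      rw [hrmul _ (mul_mem hh hg) _ (inv_mem hh), hrmul h hh g hg, hi, hgr, cyc_conj]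
    · funext i; rw [hvconj h hh w hw, hwv, pairVec_perm]
  haveI : NeZero n := ⟨by omega⟩
  let o : Fin n := 0
  choose U hU using fun x : {x : Fin n // x ≠ o} => hlift_ex o x x.2.symm
  set Y₀ := closure (Set.range U) with hY₀
  have hrel : ∀ x y u, x ≠ y → IsLift x y u → u ∈ Y₀ := by
    intro x y u hxy hu
    by_cases hxo : x = o
    · subst hxo
      exact subset_closure ⟨⟨y, hxy.symm⟩, hlift_uniq o y _ u hxy (hU ⟨y, hxy.symm⟩) hu⟩
    by_cases hyo : y = o
    · subst hyo
      exact subset_closure ⟨⟨x, hxy⟩, hlift_uniq o x _ u hxy.symm (hU ⟨x, hxy⟩) (hlift_symm x o u hxy hu)⟩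
    have hox : o ≠ x := Ne.symm hxo
    have hoy : o ≠ y := Ne.symm hyo
    obtain ⟨g, hg, hgr⟩ := (hrrange _).1 (isThreeCycle_cyc hox hoy hxy).mem_alternatingGroup
    obtain ⟨w1, hw1, hv1⟩ := hvsurj (pairVec o x) (sum_pairVec o x)
    obtain ⟨w2, hw2, hv2⟩ := hvsurj (pairVec o y) (sum_pairVec o y)
    obtain ⟨w3, hw3, hv3⟩ := hvsurj (pairVec x y) (sum_pairVec x y)
    have hg3 : rho g ^ 3 = 1 := by rw [hgr]; exact hcyc3 hox hoy hxy
    have l1 : IsLift o x (proj g w1) := ⟨y, hyo, hxy.symm, g, hg, hgr, w1, hw1, hv1, rfl⟩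
    have l2 : IsLift o y (proj g w2) := by
      refine ⟨x, hxo, hxy, g⁻¹, inv_mem hg, ?_, w2, hw2, hv2, (hproj_inv g hg hg3 w2 hw2).symm⟩
      rw [show rho g⁻¹ = (rho g)⁻¹ from eq_inv_of_mul_eq_one_left (by
        rw [← hrmul _ (inv_mem hg) g hg, inv_mul_cancel, hrho1]), hgr, cyc_inv hox hoy hxy,
        cyc_rot hxo hxy hoy]
    have l3 : IsLift x y (proj g w3) :=
      ⟨o, hox, hoy, g, hg, by rw [hgr, cyc_rot hox hoy hxy], w3, hw3, hv3, rfl⟩
    have he : proj g w3 = proj g w1 * proj g w2 := by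
      rw [← hproj_mul g hg w1 hw1 w2 hw2]
      refine hproj_eq g hg w3 hw3 _ (mul_mem hw1 hw2) ?_
      rw [hvmul w1 hw1 w2 hw2, hv1, hv2, hv3, pairVec_comm o x, pairVec_add_pairVec]
    rw [hlift_uniq x y u _ hxy hu l3, he]
    exact mul_mem (subset_closure ⟨⟨x, hxo⟩, hlift_uniq o x _ _ hox (hU ⟨x, hxo⟩) l1⟩)
      (subset_closure ⟨⟨y, hyo⟩, hlift_uniq o y _ _ hoy (hU ⟨y, hyo⟩) l2⟩)
  have hY₀W : Y₀ ≤ W := (closure_le _).2 (by rintro _ ⟨x, rfl⟩; exact hlift_mem _ _ _ (hU x))
  have hY₀E : E ≤ normalizer (Y₀ : Set G) := fun h hh => CfsgLib.LocalEven.mem_normalizer_of_conj_le (by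
    rw [hY₀, MonoidHom.map_closure, closure_le]
    rintro _ ⟨_, ⟨x, rfl⟩, rfl⟩
    exact hrel _ _ _ (fun e => x.2 ((rho h).injective e).symm) (hlift_conj o x _ h hh (hU x)))
  have hY₀v : ∀ w ∈ W, ∃ y ∈ Y₀, vec y = vec w := fun w hw =>
    even_induction (P := fun v => ∃ y ∈ Y₀, vec y = v) ⟨1, one_mem _, hvone⟩
      (fun i j hij => by
        obtain ⟨u, hu⟩ := hlift_ex i j hij
        exact ⟨u, hrel i j u hij hu, hlift_vec i j u hij hu⟩)
      (by rintro _ _ ⟨a, ha, rfl⟩ ⟨b, hb, rfl⟩; exact ⟨a * b, mul_mem ha hb, hvmul a (hY₀W ha) b (hY₀W hb)⟩)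
      (hvsum w hw)
  have hWY : W ≤ Y₀ := by
    conv_lhs => rw [← hWE]
    rw [commutator_le]
    intro w hw e he
    obtain ⟨y, hy, hyv⟩ := hY₀v w hw
    have hz : y⁻¹ * w ∈ bZ 2 E := (hvker _ (mul_mem (inv_mem (hY₀W hy)) hw)).1 (by
      have e1 := hvmul y⁻¹ (inv_mem (hY₀W hy)) w hw
      rw [← hyv] at e1
      rw [e1, ← hvmul _ (inv_mem (hY₀W hy)) y (hY₀W hy), inv_mul_cancel, hvone])
    rw [show w = y * (y⁻¹ * w) by group, commutator_mul_bZ hz he, commutatorElement_def, mul_assoc y,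
      mul_assoc]
    exact mul_mem hy ((mem_normalizer_iff.1 (hY₀E he) _).1 (inv_mem hy))
  -- injectivity
  have hinj : ∀ a ∈ W, ∀ b ∈ W, vec a = vec b → a = b := by
    letI : CommGroup ↥W := { (inferInstance : Group ↥W) with
      mul_comm := fun a b => Subtype.ext (hcomm a.2 b.2) }
    let U' : {x : Fin n // x ≠ o} → ↥W := fun x => ⟨U x, hlift_mem _ _ _ (hU x)⟩
    let S : ↥W →* ↥W := MonoidHom.mk' (fun a => ∏ x : {x : Fin n // x ≠ o}, if vec (a : G) x.1 = 1 then U' x else 1) fun a b => by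
      rw [← Finset.prod_mul_distrib]
      refine Finset.prod_congr rfl fun x _ => ?_
      have hsq : U' x * U' x = 1 := Subtype.ext (bW_sq (U' x).2)
      rw [show vec (((a * b : ↥W)) : G) x.1 = vec (a : G) x.1 + vec (b : G) x.1 from
        congrFun (hvmul a a.2 b b.2) x.1]
      rcases (show ∀ t : ZMod 2, t = 0 ∨ t = 1 by decide) (vec (a : G) x.1) with e | e <;>
        rcases (show ∀ t : ZMod 2, t = 0 ∨ t = 1 by decide) (vec (b : G) x.1) with e' | e' <;>
        rw [e, e'] <;> simp [hsq, show ((1 : ZMod 2) + 1 = 0) from rfl]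
    have hS : ∀ a : ↥W, S a = a := by
      intro a
      have ha := hWY a.2
      suffices ∀ g ∈ Y₀, ∀ hg : g ∈ W, S ⟨g, hg⟩ = ⟨g, hg⟩ from this a ha a.2
      intro g hg
      induction hg using closure_induction with
      | mem g hg =>
        obtain ⟨x, rfl⟩ := hg
        intro hg
        show (∏ y : {x : Fin n // x ≠ o}, if vec (U x) y.1 = 1 then U' y else 1) = U' x
        rw [Finset.prod_eq_single x (fun y _ hyx => if_neg ?_) (fun h => absurd (Finset.mem_univ x) h), if_pos]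
        · rw [hlift_vec o x _ x.2.symm (hU x), pairVec_apply, if_neg x.2, if_pos rfl, zero_add]
        · rw [hlift_vec o x _ x.2.symm (hU x), pairVec_apply, if_neg y.2, if_neg (fun e => hyx (Subtype.ext e)),
            add_zero]
          exact zero_ne_one
      | one => intro _; exact map_one S
      | mul g h hg hh ihg ihh =>
        intro _
        rw [show (⟨g * h, _⟩ : ↥W) = ⟨g, hY₀W hg⟩ * ⟨h, hY₀W hh⟩ from rfl, map_mul, ihg, ihh]
      | inv g hg ih =>
        intro _
        rw [show (⟨g⁻¹, _⟩ : ↥W) = ⟨g, hY₀W hg⟩⁻¹ from rfl, map_inv, ih]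
    intro a ha b hb hab
    have h1 : S ⟨a, ha⟩ = S ⟨b, hb⟩ := by
      simp only [S, MonoidHom.mk'_apply, hab]
    rw [hS, hS] at h1
    exact congrArg Subtype.val h1
  -- the normaliser
  let ρ' : ↥E →* ↥(alternatingGroup (Fin n)) := ρ.codRestrict _ fun e => hρ.le ⟨e, rfl⟩
  have hρ's : Function.Surjective ρ' := fun x => by
    obtain ⟨e, he⟩ := MonoidHom.mem_range.1 (hρ.ge x.2)
    exact ⟨e, Subtype.ext he⟩
  have hρrho : ∀ e : ↥E, ρ e = rho e := fun e => by simp only [rho, dif_pos e.2, Subtype.coe_eta]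
  set N := normalizer (E : Set G) with hN
  have hconjE : ∀ g ∈ N, ∀ e ∈ E, g * e * g⁻¹ ∈ E := fun g hg e he => (mem_normalizer_iff.1 hg e).1 he
  have hperm : ∀ g : ↥N, ∃ σ : Perm (Fin n), ∀ e ∈ E, rho ((g : G) * e * (g : G)⁻¹) = σ * rho e * σ⁻¹ := by
    intro g
    let cg : ↥E →* ↥E :=
      { toFun := fun e => ⟨(g : G) * e * (g : G)⁻¹, hconjE g g.2 e e.2⟩
        map_one' := Subtype.ext (by simp)
        map_mul' := fun a b => Subtype.ext (by simp [mul_assoc]) }
    have hk : ∀ e : ↥E, ρ' e = 1 ↔ (e : G) ∈ pCoreOf 2 E := fun e => by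
      rw [← hr1 e e.2, ← hρrho]
      exact ⟨fun h => congrArg Subtype.val h, fun h => Subtype.ext h⟩
    let f := (ρ'.liftOfSurjective hρ's) ⟨ρ'.comp cg, fun e he => by
      rw [MonoidHom.mem_ker, MonoidHom.comp_apply, hk]
      exact (mem_normalizer_iff.1 (Block.normalizer_le_pCoreOf E g.2) _).1 ((hk e).1 he)⟩
    have hf : ∀ e, f (ρ' e) = ρ' (cg e) := fun e => MonoidHom.liftOfRightInverse_comp_apply ρ' _ _ _ e
    have hfs : Function.Surjective f := by
      intro x
      obtain ⟨e, rfl⟩ := hρ's x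
      refine ⟨ρ' ⟨(g : G)⁻¹ * e * g, (mem_normalizer_iff''.1 g.2 _).1 e.2⟩, ?_⟩
      rw [hf]
      congr 1
      exact Subtype.ext (by simp [cg]; group)
    obtain ⟨σ, hσ⟩ := (bijective_conjNormal (n := n) (by omega) (by omega)).2
      (MulEquiv.ofBijective f ⟨Finite.injective_iff_surjective.2 hfs, hfs⟩)
    refine ⟨σ, fun e he => ?_⟩
    have h1 := congrArg (fun a : MulAut ↥(alternatingGroup (Fin n)) => ((a (ρ' ⟨e, he⟩)) : Perm (Fin n))) hσ
    rw [MulAut.conjNormal_apply] at h1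
    rw [← hρrho ⟨e, he⟩, ← hρrho ⟨_, hconjE g g.2 e he⟩]
    exact (h1.trans (congrArg Subtype.val (hf _))).symm
  choose π hπ using hperm
  have huniq : ∀ a b : Perm (Fin n), (∀ e ∈ E, a * rho e * a⁻¹ = b * rho e * b⁻¹) → a = b := fun a b h =>
    (bijective_conjNormal (n := n) (by omega) (by omega)).1 (MulEquiv.ext fun x => by
      obtain ⟨e, rfl⟩ := hρ's x
      refine Subtype.ext ?_
      rw [MulAut.conjNormal_apply, MulAut.conjNormal_apply]
      show a * ρ e * a⁻¹ = b * ρ e * b⁻¹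
      rw [hρrho]; exact h e e.2)
  let perm : G → Perm (Fin n) := fun g => if h : g ∈ N then π ⟨g, h⟩ else 1
  have hperm' : ∀ g ∈ N, ∀ e ∈ E, rho (g * e * g⁻¹) = perm g * rho e * (perm g)⁻¹ := fun g hg e he => by
    simp only [perm, dif_pos hg]; exact hπ ⟨g, hg⟩ e he
  have hpE : ∀ e ∈ E, perm e = rho e := fun e he => huniq _ _ fun x hx => by
    rw [← hperm' e (le_normalizer he) x hx, hrmul _ (mul_mem he hx) _ (inv_mem he), hrmul e he x hx,
      show rho e⁻¹ = (rho e)⁻¹ from eq_inv_of_mul_eq_one_left (by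
        rw [← hrmul _ (inv_mem he) e he, inv_mul_cancel, hrho1])]
  refine ⟨⟨perm, vec, fun g hg h hh => huniq _ _ fun e he => ?_, fun x => ?_, fun e he => ?_, hvmul, hvsum, hinj,
    hvsurj, fun g hg => ?_⟩⟩
  · rw [← hperm' _ (mul_mem hg hh) e he,
      show perm g * perm h * rho e * (perm g * perm h)⁻¹ = perm g * (perm h * rho e * (perm h)⁻¹) * (perm g)⁻¹ by group,
      ← hperm' h hh e he, ← hperm' g hg _ (hconjE h hh e he)]
    congr 1
    group
  · rw [hrrange]
    exact ⟨fun ⟨e, he, h⟩ => ⟨e, he, (hpE e he).trans h⟩, fun ⟨e, he, h⟩ => ⟨e, he, (hpE e he).symm.trans h⟩⟩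
  · rw [hpE e he]; exact hr1 e he
  -- equivariance
  have hgW : ∀ w ∈ W, g * w * g⁻¹ ∈ W := fun w hw => (mem_normalizer_iff.1 (normalizer_le_bW E hg) w).1 hw
  have hpair : ∀ i j, i ≠ j → ∀ u ∈ W, vec u = pairVec i j →
      vec (g * u * g⁻¹) = pairVec (perm g i) (perm g j) := by
    intro i j hij u hu huv
    set σ := perm g with hσ
    rcases eq_zero_or_pairVec ⟨m, hn⟩ (fun e => hij (σ.injective e)) (hvsum _ (hgW u hu)) (fun k' l' h1 h2 h3 h4 hkl r => by
      obtain ⟨k, rfl⟩ := σ.surjective k'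
      obtain ⟨l, rfl⟩ := σ.surjective l'
      have hki : k ≠ i := fun e => h1 (congrArg σ e)
      have hkj : k ≠ j := fun e => h2 (congrArg σ e)
      have hli : l ≠ i := fun e => h3 (congrArg σ e)
      have hlj : l ≠ j := fun e => h4 (congrArg σ e)
      have hkl' : k ≠ l := fun e => hkl (congrArg σ e)
      have hmem : swap i j * swap k l ∈ alternatingGroup (Fin n) := by
        rw [Perm.mem_alternatingGroup, map_mul, Perm.sign_swap hij, Perm.sign_swap hkl']; decide
      obtain ⟨e, he, her⟩ := (hrrange _).1 hmem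
      have hfix : e * u * e⁻¹ = u := hinj _ (hEW e he u hu) _ hu (funext fun t => by
        rw [hvconj e he u hu, huv, pairVec_perm, her, Perm.mul_apply, Perm.mul_apply,
          swap_apply_of_ne_of_ne hki.symm hli.symm, swap_apply_of_ne_of_ne hkj.symm hlj.symm, swap_apply_left,
          swap_apply_right, pairVec_comm])
      have h5' := hvconj (g * e * g⁻¹) (hconjE g hg e he) _ (hgW u hu) r
      rw [show g * e * g⁻¹ * (g * u * g⁻¹) * (g * e * g⁻¹)⁻¹ = g * (e * u * e⁻¹) * g⁻¹ by group, hfix,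
        hperm' g hg e he, her, show σ * (swap i j * swap k l) * σ⁻¹ = (σ * swap i j * σ⁻¹) * (σ * swap k l * σ⁻¹) by group,
        ← swap_apply_apply, ← swap_apply_apply] at h5'
      exact h5'.symm) h5 with h | h
    · exfalso
      have h1 : g * u * g⁻¹ = 1 := hinj _ (hgW u hu) 1 (one_mem _) (h.trans hvone.symm)
      rw [conj_eq_one_iff] at h1
      have h2 := congrFun huv i
      rw [h1, hvone, pairVec_apply, if_pos rfl, if_neg hij] at h2
      simp at h2
    · exact h
  intro w hw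
  obtain ⟨u, hu, huv, huc⟩ := even_induction
    (P := fun v => ∃ u ∈ W, vec u = v ∧ ∀ i, vec (g * u * g⁻¹) i = v ((perm g)⁻¹ i))
    ⟨1, one_mem _, hvone, fun i => by rw [mul_one, mul_inv_cancel, hvone]; rfl⟩
    (fun a b hab => by
      obtain ⟨u, hu, huv⟩ := hvsurj (pairVec a b) (sum_pairVec a b)
      exact ⟨u, hu, huv, fun i => by rw [hpair a b hab u hu huv, pairVec_perm]⟩)
    (by
      rintro _ _ ⟨a, ha, rfl, hca⟩ ⟨b, hb, rfl, hcb⟩
      refine ⟨a * b, mul_mem ha hb, hvmul a ha b hb, fun i => ?_⟩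
      rw [show g * (a * b) * g⁻¹ = (g * a * g⁻¹) * (g * b * g⁻¹) by group, hvmul _ (hgW a ha) _ (hgW b hb),
        Pi.add_apply, hca, hcb, Pi.add_apply])
    (hvsum w hw)
  intro i
  rw [hinj w hw u hu huv.symm, huc i, huv]

end CfsgLib.LocalEven.CStar
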