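import Cfsg.Agent.Lib.LocalEven.CStar.Basic
import Cfsg.Agent.Lib.LocalEven.BlockBaumann.Main
import Cfsg.Agent.Lib.LocalEven.SubBlock.Main
import Cfsg.Agent.S2982

/-!
The block structure, from the subnormality of the blocks outside `C*(G,T)` and the facts on one member.
-/

set_option autoImplicit false

namespace CfsgLib.LocalEven.CStar

open Cfsg Subgroup
open CfsgLib.LocalEven
open scoped commutatorElement

variable {G : Type*} [Group G] [Finite G] {p : ℕ} [Fact p.Prime]

/-- The members: subnormal blocks outside `C*(G,T)`. -/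
def members (p : ℕ) (T : Subgroup G) : Set (Subgroup G) :=
  {E | IsBaumannBlock p T E ∧ E.IsSubnormal ∧ ¬ E ≤ cStarOf p T}

/-- Every block outside `C*(G,T)` lies in a subnormal block. -/
def Covered (p : ℕ) (T : Subgroup G) : Prop :=
  ∀ E : Subgroup G, IsBaumannBlock p T E → ¬ E ≤ cStarOf p T →
    ∃ F : Subgroup G, IsBaumannBlock p T F ∧ F.IsSubnormal ∧ E ≤ F

variable {T : Sylow p G}

theorem exists_member (hcov : Covered p (T : Subgroup G)) {E : Subgroup G}
    (hE : IsBaumannBlock p (T : Subgroup G) E) (hout : ¬ E ≤ cStarOf p (T : Subgroup G)) :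
    ∃ F ∈ members p (T : Subgroup G), E ≤ F := by
  obtain ⟨F, h1, h2, h3⟩ := hcov E hE hout
  exact ⟨F, ⟨h1, h2, fun h => hout (h3.trans h)⟩, h3⟩

section
variable (hG : centralizer (pCore p G : Set G) ≤ pCore p G)
include hG

theorem members_commute {E F : Subgroup G} (hE : E ∈ members p (T : Subgroup G))
    (hF : F ∈ members p (T : Subgroup G)) (hne : E ≠ F) : ⁅E, F⁆ = ⊥ :=
  (SubBlock.blocks_eq_or_commute hG hE.1 hE.2.1 hF.1 hF.2.1).resolve_left hne

theorem sSup_le_normalizer_member {E : Subgroup G} (hE : E ∈ members p (T : Subgroup G)) :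
    sSup (members p (T : Subgroup G)) ≤ normalizer (E : Set G) := sSup_le fun F hF => by
  by_cases e : F = E
  · exact e ▸ Subgroup.le_normalizer
  · intro g hg
    refine CfsgLib.Fusion.mem_normalizer_of_forall fun x hx => ?_
    rw [commutatorElement_eq_one_iff_mul_comm.1
      (mem_bot.1 ((members_commute hG hF hE e).le (commutator_mem_commutator hg hx))), mul_inv_cancel_right]
    exact hx

theorem member_conj {E : Subgroup G} (hE : E ∈ members p (T : Subgroup G)) {c : G}
    (hc : c ∈ cStarOf p (T : Subgroup G)) : E.map (MulAut.conj c).toMonoidHom ∈ members p (T : Subgroup G) := by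
  have hs : (E.map (MulAut.conj c).toMonoidHom).IsSubnormal :=
    hE.2.1.map (f := (MulAut.conj c).toMonoidHom) (MulAut.conj c).surjective
  refine ⟨BlockBaumann.isBlock_all hG (BlockBaumann.isBlock_conj hE.1 c) hs T, hs, fun h => hE.2.2 fun x hx => ?_⟩
  have h1 : c * x * c⁻¹ ∈ cStarOf p (T : Subgroup G) := h ⟨x, hx, rfl⟩
  simpa [mul_assoc] using mul_mem (mul_mem (inv_mem hc) h1) hc

theorem cStar_le_normalizer_sSup :
    cStarOf p (T : Subgroup G) ≤ normalizer (sSup (members p (T : Subgroup G)) : Subgroup G) := fun c hc =>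
  CfsgLib.LocalEven.mem_normalizer_of_conj_le (by
    rw [map_le_iff_le_comap]
    exact sSup_le fun E hE => map_le_iff_le_comap.1 (le_sSup (member_conj hG hE hc)))

/-- A subgroup above `T` outside `X ⊇ C*(G,T)` contains a block outside `X`. -/
theorem exists_block_not_le (hB : baumannSubgroupOf p (T : Subgroup G) ≠ ⊥) {X H : Subgroup G}
    (hX : cStarOf p (T : Subgroup G) ≤ X) (hTH : (T : Subgroup G) ≤ H) (hHX : ¬ H ≤ X) :
    ∃ F : Subgroup G, IsBaumannBlock p (T : Subgroup G) F ∧ F ≤ H ∧ ¬ F ≤ X := by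
  classical
  set CS := cStarOf p (T : Subgroup G) with hCS
  have hTX : (T : Subgroup G) ≤ X := (sylow_le_cStar T).trans hX
  by_contra hne
  obtain ⟨P, ⟨hTP, hPH, hPX⟩, hmin⟩ := Set.exists_min_image
    {P : Subgroup G | (T : Subgroup G) ≤ P ∧ P ≤ H ∧ ¬ P ≤ X} (fun P => Nat.card ↥P) (Set.toFinite _)
    ⟨H, hTH, le_rfl, hHX⟩
  have hsub : ∀ H : Subgroup ↥P, (T.subtype hTP : Subgroup ↥P) ≤ H → H ≠ ⊤ → H ≤ X.subgroupOf P := by
    intro K hTK hK x hx
    by_contra hxX
    have h1 : (T : Subgroup G) ≤ K.map P.subtype := fun t ht => ⟨⟨t, hTP ht⟩, hTK ht, rfl⟩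
    have h2 := hmin (K.map P.subtype) ⟨h1, (map_subtype_le K).trans hPH, fun h => hxX (h (mem_map_of_mem _ hx))⟩
    rw [card_map_of_injective P.subtype_injective] at h2
    exact hK (eq_top_of_card_eq K (le_antisymm (card_le_card_group K) h2))
  have hproper : X.subgroupOf P ≠ ⊤ := fun h => hPX (subgroupOf_eq_top.1 h)
  have hT0X : (T.subtype hTP : Subgroup ↥P) ≤ X.subgroupOf P := fun t ht => hTX ht
  have hcoatom : IsCoatom (X.subgroupOf P) := ⟨hproper, fun H hH => by
    by_contra hHt
    exact hH.not_ge (hsub H (hT0X.trans hH.le) hHt)⟩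
  have hPN : ¬ P ≤ CS := fun h => hPX (h.trans hX)
  have hnn : ¬ (T.subtype hTP : Subgroup ↥P).Normal := fun hn => hPN (by
    refine le_trans ?_ (normalizer_sylow_le_cStar hB)
    intro g hg
    rw [mem_normalizer_iff]
    intro x
    constructor
    · intro hx
      exact hn.conj_mem ⟨x, hTP hx⟩ hx ⟨g, hg⟩
    · intro hx
      have h1 := hn.conj_mem ⟨_, hTP hx⟩ hx ⟨g⁻¹, inv_mem hg⟩
      simpa [mul_assoc] using (show g⁻¹ * (g * x * g⁻¹) * g⁻¹⁻¹ ∈ (T : Subgroup G) from h1))
  have hpmin : IsPMinimal p ↥P := by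
    intro S
    obtain ⟨g, rfl⟩ := MulAction.exists_smul_eq ↥P (T.subtype hTP) S
    refine ⟨fun hn => hnn ?_, (X.subgroupOf P).map (MulAut.conj g).toMonoidHom,
      ⟨MinOver.isCoatom_map_conj hcoatom g, ?_⟩, ?_⟩
    · rw [BlockBaumann.smul_coe] at hn
      have := hn.map (MulAut.conj g⁻¹).toMonoidHom (MulAut.conj g⁻¹).surjective
      rw [map_map] at this
      convert this using 1
      conv_lhs => rw [← map_id (T.subtype hTP : Subgroup ↥P)]
      congr 1
      ext x
      simp [mul_assoc]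
    · rw [BlockBaumann.smul_coe]
      exact map_mono hT0X
    · rintro M ⟨hM, hle⟩
      rw [BlockBaumann.smul_coe] at hle
      have h1 : (T.subtype hTP : Subgroup ↥P) ≤ M.comap (MulAut.conj g).toMonoidHom := map_le_iff_le_comap.1 hle
      have h2 : M.comap (MulAut.conj g).toMonoidHom ≠ ⊤ := fun h => hM.1 (by
        rw [← map_comap_eq_self_of_surjective (f := (MulAut.conj g).toMonoidHom) (MulAut.conj g).surjective M, h,
          map_top_of_surjective (MulAut.conj g).toMonoidHom (MulAut.conj g).surjective])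
      have h3 : M ≤ (X.subgroupOf P).map (MulAut.conj g).toMonoidHom := by
        rw [← map_comap_eq_self_of_surjective (f := (MulAut.conj g).toMonoidHom) (MulAut.conj g).surjective M]
        exact map_mono (hsub _ h1 h2)
      exact (((hM.le_iff).1 h3).resolve_left fun h => (MinOver.isCoatom_map_conj hcoatom g).1 h).symm
  have hchP := charP_of_sylow_le hG hTP
  have hmapT : (T.subtype hTP : Subgroup ↥P).map P.subtype = (T : Subgroup G) := by
    rw [Sylow.coe_subtype, map_subgroupOf_eq_of_le hTP]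
  have hBeq : (baumannSubgroupOf p (T.subtype hTP : Subgroup ↥P)).map P.subtype =
      baumannSubgroupOf p (T : Subgroup G) := by rw [lift_baumann P.subtype_injective, hmapT]
  obtain ⟨𝓑, hstr, -, -⟩ := Cfsg.Agent.S2982.result (p := p) hpmin hchP (T.subtype hTP)
    (fun C hC hne hch hn => hPN (by
      refine le_trans ?_ (normalizer_char_le_cStar (C := C.map P.subtype) ?_
        (fun h => hne ((map_eq_bot_iff_of_injective _ P.subtype_injective).1 h)) ?_)
      · have h1 := le_normalizer_map P.subtype (H := C)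
        rw [normalizer_eq_top_iff.2 hn, ← MonoidHom.range_eq_map, range_subtype] at h1
        exact h1
      · rw [← hBeq]; exact map_mono hC
      · rw [← hBeq]; exact lift_char P.subtype_injective hC hch))
    (fun hn => hPN (le_cStar_of_normalizes_omega hTP hB (by
      have h1 := le_normalizer_map P.subtype (H := omegaOneCenter p (T.subtype hTP : Subgroup ↥P))
      rw [normalizer_eq_top_iff.2 hn, ← MonoidHom.range_eq_map, range_subtype,
        PushMin.lift_omegaOneCenter P.subtype_injective, hmapT] at h1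
      exact h1)))
  refine hPX fun g hg => ?_
  have h1 : (⟨g, hg⟩ : ↥P) ∈ cStarOf p (T.subtype hTP : Subgroup ↥P) ⊔ sSup 𝓑 := hstr.2.2.2.1 ▸ mem_top _
  have h2 : (cStarOf p (T.subtype hTP : Subgroup ↥P) ⊔ sSup 𝓑).map P.subtype ≤ X := by
    rw [Subgroup.map_sup]
    refine sup_le ((lift_cStar P.subtype_injective _).trans (by rw [hmapT]; exact hX)) ?_
    rw [map_le_iff_le_comap]
    refine sSup_le fun E hE => map_le_iff_le_comap.1 ?_
    have hEb := lift_block (f := P.subtype) P.subtype_injective (hstr.1 E hE)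
    rw [hmapT] at hEb
    by_contra hout
    exact hne ⟨E.map P.subtype, hEb, (map_subtype_le E).trans hPH, hout⟩
  exact h2 (mem_map_of_mem _ h1)

/-- `G` is the product of `C*(G,T)` and the members. -/
theorem cStar_sup_eq_top (hB : baumannSubgroupOf p (T : Subgroup G) ≠ ⊥)
    (hcov : Covered p (T : Subgroup G)) :
    cStarOf p (T : Subgroup G) ⊔ sSup (members p (T : Subgroup G)) = ⊤ := by
  by_contra hne
  obtain ⟨F, hF, -, hFX⟩ := exists_block_not_le hG hB (X := cStarOf p (T : Subgroup G) ⊔ sSup (members p (T : Subgroup G)))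
    le_sup_left le_top (fun h => hne (top_le_iff.1 h))
  obtain ⟨E, hE, hle⟩ := exists_member hcov hF fun h => hFX (h.trans le_sup_left)
  exact hFX (hle.trans ((le_sSup hE).trans le_sup_right))

theorem members_conj (htop : cStarOf p (T : Subgroup G) ⊔ sSup (members p (T : Subgroup G)) = ⊤)
    {E : Subgroup G} (hE : E ∈ members p (T : Subgroup G)) (g : G) :
    E.map (MulAut.conj g).toMonoidHom ∈ members p (T : Subgroup G) := by
  have h1 : g ∈ cStarOf p (T : Subgroup G) ⊔ sSup (members p (T : Subgroup G)) := htop ▸ mem_top g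
  rw [← SetLike.mem_coe, coe_mul_of_left_le_normalizer_right _ _ (cStar_le_normalizer_sSup hG)] at h1
  obtain ⟨c, hc, l, hl, rfl⟩ := h1
  have e : E.map (MulAut.conj (c * l)).toMonoidHom =
      (E.map (MulAut.conj l).toMonoidHom).map (MulAut.conj c).toMonoidHom := by
    rw [Subgroup.map_map]
    congr 1
    ext x
    simp [mul_assoc]
  have e2 : E.map (MulAut.conj l).toMonoidHom = E :=
    mem_normalizer_iff_map_conj_eq.1 (sSup_le_normalizer_member hG hE hl)
  rw [e, e2]
  exact member_conj hG hE hc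

/-- The components of an element of `C*(G,T)`, given the splitting for some members. -/
theorem mem_iSup_of_split {U 𝓟 : Set (Subgroup G)} (hU : U ⊆ members p (T : Subgroup G)) (h𝓟 : 𝓟 ⊆ U)
    (hsplit : ∀ E ∈ 𝓟, ∀ e ∈ E, ∀ g ∈ sSup (U \ {E}),
      e * g ∈ cStarOf p (T : Subgroup G) → e ∈ cStarOf p (T : Subgroup G))
    {x : G} (hx : x ∈ sSup 𝓟) {g : G} (hg : g ∈ sSup (U \ 𝓟)) (hxg : x * g ∈ cStarOf p (T : Subgroup G)) :
    x ∈ ⨆ E ∈ 𝓟, (cStarOf p (T : Subgroup G) ⊓ E) := by
  classical
  set CS := cStarOf p (T : Subgroup G) with hCS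
  have key : ∀ S : Finset (Subgroup G), ↑S ⊆ 𝓟 → ∀ x ∈ sSup (↑S : Set (Subgroup G)),
      ∀ g ∈ sSup (U \ ↑S), x * g ∈ CS → x ∈ ⨆ E ∈ 𝓟, (CS ⊓ E) := by
    intro S
    induction S using Finset.induction_on with
    | empty =>
      intro _ x hx g _ _
      rw [Finset.coe_empty, sSup_empty, mem_bot] at hx
      rw [hx]; exact one_mem _
    | insert k S hk ih =>
      intro hS x hx g hg hxg
      rw [Finset.coe_insert] at hS hx hg
      have hkP : k ∈ 𝓟 := hS (Set.mem_insert k _)
      have hS' : ↑S ⊆ 𝓟 := (Set.subset_insert _ _).trans hS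
      rw [sSup_insert] at hx
      rw [← SetLike.mem_coe, Subgroup.coe_mul_of_right_le_normalizer_left k _
        ((sSup_le_sSup (hS'.trans (h𝓟.trans hU))).trans (sSup_le_normalizer_member hG (hU (h𝓟 hkP))))] at hx
      obtain ⟨e, he, y, hy, rfl⟩ := hx
      have hye : y * g ∈ sSup (U \ {k}) := mul_mem
        (sSup_le_sSup (fun E (hE : E ∈ (↑S : Set (Subgroup G))) => show E ∈ U \ {k} from
          ⟨h𝓟 (hS' hE), fun e' => hk (Finset.mem_coe.1 (Set.mem_singleton_iff.1 e' ▸ hE))⟩) hy)
        (sSup_le_sSup (fun E (hE : E ∈ U \ insert k (↑S : Set (Subgroup G))) => show E ∈ U \ {k} from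
          ⟨hE.1, fun e' => hE.2 (Set.mem_insert_iff.2 (Or.inl e'))⟩) hg)
      have heM : e ∈ CS := hsplit k hkP e he (y * g) hye (by rwa [← mul_assoc])
      have h1 : y * g ∈ CS := by
        have := mul_mem (inv_mem heM) hxg
        simpa [mul_assoc] using this
      exact mul_mem (le_iSup₂_of_le (f := fun E (_ : E ∈ 𝓟) => CS ⊓ E) k hkP le_rfl
          (show e ∈ CS ⊓ k from ⟨heM, he⟩))
        (ih hS' y hy g (sSup_le_sSup (fun E hE => show E ∈ U \ (↑S : Set (Subgroup G)) from
          ⟨hE.1, fun h' => hE.2 (Set.mem_insert_of_mem _ h')⟩) hg) h1)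
  exact key 𝓟.toFinite.toFinset (Set.Finite.coe_toFinset _).le x (by simpa using hx) g (by simpa using hg) hxg

/-- The intersection of `C*(G,T)` with the product of the members. -/
theorem inf_sSup_eq
    (hsplit : ∀ E ∈ members p (T : Subgroup G), ∀ e ∈ E, ∀ g ∈ sSup (members p (T : Subgroup G) \ {E}),
      e * g ∈ cStarOf p (T : Subgroup G) → e ∈ cStarOf p (T : Subgroup G)) :
    cStarOf p (T : Subgroup G) ⊓ sSup (members p (T : Subgroup G)) =
      ⨆ E ∈ members p (T : Subgroup G), (cStarOf p (T : Subgroup G) ⊓ E) :=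
  le_antisymm (fun x hx => mem_iSup_of_split hG le_rfl le_rfl hsplit hx.2 (one_mem _) (by simpa using hx.1))
    (iSup₂_le fun E hE => inf_le_inf_left _ (le_sSup hE))

/-- The block structure, given the facts on the members. -/
theorem structure_of_covered (hne : cStarOf p (T : Subgroup G) ≠ ⊤)
    (hB : baumannSubgroupOf p (T : Subgroup G) ≠ ⊥) (hcov : Covered p (T : Subgroup G))
    (hsplit : ∀ E ∈ members p (T : Subgroup G), ∀ e ∈ E, ∀ g ∈ sSup (members p (T : Subgroup G) \ {E}),
      e * g ∈ cStarOf p (T : Subgroup G) → e ∈ cStarOf p (T : Subgroup G))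
    (hshape : ∀ E ∈ members p (T : Subgroup G),
      (∃ (F : Type) (_ : Field F) (_ : Fintype F) (m : ℕ), 3 < p ^ m ∧ Fintype.card F = p ^ m ∧
          Nonempty (↥E ⧸ pCore p ↥E ≃* Matrix.SpecialLinearGroup (Fin 2) F) ∧
          cStarOf p (T : Subgroup G) ⊓ E =
            E ⊓ Subgroup.normalizer (((T : Subgroup G) ⊓ E : Subgroup G) : Set G)) ∨
      (p = 2 ∧ ∃ m : ℕ, Nonempty (↥E ⧸ pCore p ↥E ≃* ↥(alternatingGroup (Fin (2 * m + 1)))) ∧
          Nonempty (↥(((cStarOf p (T : Subgroup G) ⊓ E).subgroupOf E).map (QuotientGroup.mk' (pCore p ↥E))) ≃*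
            ↥(alternatingGroup (Fin (2 * m))))) ∨
      (p = 3 ∧ Nonempty (↥E ⧸ pCore p ↥E ≃* ↥(commutator (Matrix.SpecialLinearGroup (Fin 2) (ZMod 3)))) ∧
          ((cStarOf p (T : Subgroup G) ⊓ E).subgroupOf E).map (QuotientGroup.mk' (pCore p ↥E)) =
            Subgroup.center (↥E ⧸ pCore p ↥E))) :
    HasBaumannBlockStructure p (T : Subgroup G) (members p (T : Subgroup G)) :=
  have htop := cStar_sup_eq_top hG hB hcov
  ⟨fun _ hE => hE.1, fun _ hE g => members_conj hG htop hE g, fun _ hE _ hF hne => members_commute hG hE hF hne,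
    htop, fun _ hE hout => exists_member hcov hE hout, inf_sSup_eq hG hsplit, hshape⟩

end

end CfsgLib.LocalEven.CStar
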