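import Cfsg.Agent.Lib.LocalEven.CStar.Lift
import Cfsg.Agent.Lib.LocalEven.PushMin.Setup
import Cfsg.Agent.Lib.LocalEven.BlockBasic
import Cfsg.Agent.Lib.LocalEven.CharP

/-!
`C*(G,T)`: what lies in it, and proper overgroups of `T`.
-/

set_option autoImplicit false

namespace CfsgLib.LocalEven.CStar

open Cfsg Subgroup
open CfsgLib.LocalEven
open scoped commutatorElement

variable {G : Type*} [Group G] [Finite G] {p : ℕ} [Fact p.Prime] {T : Sylow p G}

omit [Fact p.Prime] in
theorem centralizer_le_cStar (T : Subgroup G) :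
    centralizer (omegaOneCenter p T : Set G) ≤ cStarOf p T := le_sup_left

theorem sylow_le_cStar (T : Sylow p G) : (T : Subgroup G) ≤ cStarOf p (T : Subgroup G) :=
  (PushMin.sylow_le_centralizer_omega T).trans (centralizer_le_cStar _)

omit [Fact p.Prime] in
theorem normalizer_char_le_cStar {T C : Subgroup G} (hC : C ≤ baumannSubgroupOf p T) (hne : C ≠ ⊥)
    (hch : (C.subgroupOf (baumannSubgroupOf p T)).Characteristic) :
    normalizer (C : Set G) ≤ cStarOf p T :=
  le_trans (le_iSup (fun D : {D : Subgroup G // D ≤ baumannSubgroupOf p T ∧ D ≠ ⊥ ∧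
    (D.subgroupOf (baumannSubgroupOf p T)).Characteristic} => normalizer ((D : Subgroup G) : Set G))
      ⟨C, hC, hne, hch⟩) le_sup_right

omit [Fact p.Prime] in
theorem normalizer_baumann_le_cStar {T : Subgroup G} (hne : baumannSubgroupOf p T ≠ ⊥) :
    normalizer (baumannSubgroupOf p T : Set G) ≤ cStarOf p T :=
  normalizer_char_le_cStar le_rfl hne (by rw [subgroupOf_self]; infer_instance)

theorem baumann_ne_bot {E : Subgroup G} (hE : IsBaumannBlock p (T : Subgroup G) E) :
    baumannSubgroupOf p (T : Subgroup G) ≠ ⊥ := fun h => hE.2.2.2.1 (by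
  have h1 : E = ⊥ := by rw [← hE.2.1, h, commutator_bot_right]
  rw [h1, commutator_bot_left])

/-- A subgroup above `T` has characteristic `p`. -/
theorem charP_of_sylow_le (hG : centralizer (pCore p G : Set G) ≤ pCore p G) {H : Subgroup G}
    (hH : (T : Subgroup G) ≤ H) : centralizer (pCore p ↥H : Set ↥H) ≤ pCore p ↥H := by
  haveI := CfsgLib.Cores.pCore_characteristic (G := G) p
  haveI : (pCore p G).Normal := inferInstance
  have hQH : pCore p G ≤ H := (CfsgLib.Cores.pCore_le_sylow T).trans hH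
  have h1 : (pCore p G).subgroupOf H ≤ pCore p ↥H := CfsgLib.Cores.le_pCore
    ((CfsgLib.Cores.isPGroup_pCore (G := G) p).of_equiv (subgroupOfEquivOfLe hQH).symm)
  intro x hx
  refine h1 (hG (mem_centralizer_iff.2 fun q hq => ?_))
  exact congrArg Subtype.val (mem_centralizer_iff.1 hx ⟨q, hQH hq⟩ (h1 (show (q : G) ∈ pCore p G from hq)))

/-- `N_G(T)` lies in `C*(G,T)`. -/
theorem normalizer_sylow_le_cStar (hB : baumannSubgroupOf p (T : Subgroup G) ≠ ⊥) :
    normalizer ((T : Subgroup G) : Set G) ≤ cStarOf p (T : Subgroup G) := by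
  refine le_trans (fun x hx => ?_) (normalizer_baumann_le_cStar hB)
  rw [mem_normalizer_iff_map_conj_eq] at hx ⊢
  have h2 := lift_baumann (f := (MulAut.conj x).toMonoidHom) (MulAut.conj x).injective (p := p) (T : Subgroup G)
  rw [show (T : Subgroup G).map (MulAut.conj x).toMonoidHom = T from hx] at h2
  exact h2

/-- A group above `T` normalising `Ω₁(Z(T))` lies in `C*(G,T)`. -/
theorem le_cStar_of_normalizes_omega {P : Subgroup G} (hTP : (T : Subgroup G) ≤ P)
    (hB : baumannSubgroupOf p (T : Subgroup G) ≠ ⊥)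
    (hP : P ≤ normalizer (omegaOneCenter p (T : Subgroup G) : Set G)) :
    P ≤ cStarOf p (T : Subgroup G) := by
  set Z := omegaOneCenter p (T : Subgroup G) with hZ
  set C := (centralizer (Z : Set G)).subgroupOf P with hC
  haveI : C.Normal := by
    refine ⟨fun c hc x => ?_⟩
    exact (mem_normalizer_iff.1 (CfsgLib.LocalEven.Oz.mem_normalizer_centralizer (hP x.2)) (c : G)).1 hc
  have hTC : (T.subtype hTP : Subgroup ↥P) ≤ C := fun t ht => PushMin.sylow_le_centralizer_omega T ht
  have hfr := Sylow.normalizer_sup_eq_top ((T.subtype hTP).subtype hTC)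
  rw [Sylow.coe_subtype, map_subgroupOf_eq_of_le hTC] at hfr
  intro g hg
  have h1 : (⟨g, hg⟩ : ↥P) ∈ normalizer ((T.subtype hTP : Subgroup ↥P) : Set ↥P) ⊔ C := hfr ▸ mem_top _
  rw [← SetLike.mem_coe, mul_normal _ C] at h1
  obtain ⟨n, hn, c, hc, e⟩ := h1
  have hn' : (n : G) ∈ normalizer ((T : Subgroup G) : Set G) := by
    have h2 := mem_map_of_mem P.subtype hn
    have h3 := le_normalizer_map P.subtype h2
    rwa [Sylow.coe_subtype, map_subgroupOf_eq_of_le hTP] at h3
  rw [show g = (n : G) * c from (congrArg Subtype.val e).symm]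
  exact mul_mem (normalizer_sylow_le_cStar hB hn') (centralizer_le_cStar _ hc)

end CfsgLib.LocalEven.CStar
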