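import Cfsg.Agent.Lib.LocalEven.CStar.SemiOffender
import Cfsg.Agent.Lib.LocalEven.CStar.Basic
import Cfsg.Agent.Lib.LocalEven.BlockBaumann.LinearSemi
import Cfsg.Agent.Lib.LocalEven.BlockBaumann.Basics
import Cfsg.Agent.Lib.LocalEven.BlockBaumann.Replace
import Cfsg.Agent.Lib.LocalEven.PushMin.Member

/-!
The Baumann subgroup induces on the natural section of a linear block the transvections with one axis.
-/

set_option autoImplicit false

namespace CfsgLib.LocalEven.CStar

open Cfsg Subgroup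
open CfsgLib.LocalEven
open CfsgLib.LocalEven.SubBlock CfsgLib.LocalEven.BlockCentral
open CfsgLib.LocalEven.BlockBaumann (Semi)
open CfsgLib.LocalEven.BlockBaumann.SemiLin
open scoped commutatorElement

variable {G : Type*} [Group G] [Finite G] {p : ℕ} [Fact p.Prime] {T : Sylow p G} {E : Subgroup G}
variable {K : Type} [Field K] [Fintype K] {n : ℕ}

theorem charP_of_card_eq (hn : Fintype.card K = p ^ n) : CharP K p := by
  obtain ⟨q, hq⟩ := CharP.exists K
  obtain ⟨l, hqp, hl⟩ := FiniteField.card K q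
  have hdvd : q ∣ p ^ n := hn ▸ hl ▸ dvd_pow_self q l.pos.ne'
  exact ((Nat.prime_dvd_prime_iff_eq hqp Fact.out).1 (hqp.dvd_of_dvd_pow hdvd)) ▸ hq

omit [Fintype K] in
/-- Over a prime field every additive map of the plane is semilinear. -/
theorem dt_map_of_prime (hK : ∀ x : K, ∃ m : ℕ, x = m) (χ : (Fin 2 → K) →+ (Fin 2 → K)) (u w : Fin 2 → K) :
    dt (χ u) (χ w) = dt (χ ![1, 0]) (χ ![0, 1]) * dt u w := by
  have hs : ∀ (x : K) v, χ (x • v) = x • χ v := fun x v => by
    obtain ⟨m, rfl⟩ := hK x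
    rw [Nat.cast_smul_eq_nsmul, map_nsmul, Nat.cast_smul_eq_nsmul]
  conv_lhs => rw [coords u, coords w, map_add, map_add, hs, hs, hs, hs, dt_comb]
  simp only [dt]

variable {R : Rep p K E (bW p E) (bZ p E)}

/-- Every element normalising the block is semilinear on its section. -/
theorem exists_semi_all (hn : Fintype.card K = p ^ n) {g : G} (hg : g ∈ normalizer (E : Set G)) :
    ∃ (D : K) (σ : K →+* K), Semi R g D σ := by
  by_cases h4 : 4 ≤ Fintype.card K
  · obtain ⟨D, σ, -, h⟩ := BlockBaumann.exists_semi_of_normalizer (R := R) h4 hg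
    exact ⟨D, σ, h⟩
  obtain ⟨χ, hχ⟩ := R.exists_map (normalizer_le_bW (p := p) E hg) (normalizer_le_bZ (p := p) E hg)
  haveI := charP_of_card_eq hn
  have hp := (Fact.out : p.Prime)
  have hn1 : n = 1 := by
    have h1 : 1 < p ^ n := hn ▸ Fintype.one_lt_card
    rcases Nat.lt_or_ge n 2 with h | h
    · rcases n with _ | _ | n
      · simp at h1
      · rfl
      · omega
    · exfalso
      have h2 : 2 ^ 2 ≤ p ^ n := (Nat.pow_le_pow_left hp.two_le 2).trans (Nat.pow_le_pow_right hp.pos h)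
      omega
  have hK : ∀ x : K, ∃ m : ℕ, x = m := fun x => by
    have hb : Function.Bijective (ZMod.castHom (dvd_refl p) K) :=
      (Fintype.bijective_iff_injective_and_card _).2 ⟨RingHom.injective _, by
        rw [ZMod.card, hn, hn1, pow_one]⟩
    obtain ⟨m, rfl⟩ := hb.2 x
    exact ⟨m.val, by rw [← map_natCast (ZMod.castHom (dvd_refl p) K), ZMod.natCast_zmod_val]⟩
  exact ⟨_, RingHom.id K, fun a ha b hb => by
    rw [RingHom.id_apply, ← hχ a ha, ← hχ b hb]; exact dt_map_of_prime hK χ _ _⟩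

omit [Fintype K] [Fact p.Prime] in
theorem conj_mem_bW_of {g a : G} (hg : g ∈ normalizer (E : Set G)) (ha : a ∈ bW p E) :
    g * a * g⁻¹ ∈ bW p E := by
  exact (mem_normalizer_iff.1 (Block.le_normalizer_omegaCentre E (Block.normalizer_le_pCoreOf E hg)) a).1 ha

omit [Fintype K] in
theorem vec_surj_bWE (hE : IsBaumannBlock p (T : Subgroup G) E) (v : Fin 2 → K) :
    ∃ u ∈ bWE p E, R.vec u = v := by
  obtain ⟨a, ha, rfl⟩ := R.vec_surj v
  obtain ⟨w, hw, z, hz, rfl⟩ := exists_mul_of_sup (bWE_le E) ((bWE_sup hE).ge ha)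
  refine ⟨w, hw, ?_⟩
  rw [R.vec_mul w (bWE_le E hw) z hz.1, (R.vec_eq_zero z hz.1).2 hz, add_zero]

omit [Fintype K] in
/-- An element fixing the section centralises the module. -/
theorem centralizes_of_vec_fix (hE : IsBaumannBlock p (T : Subgroup G) E) {b : G}
    (hb : b ∈ normalizer (E : Set G)) (h : ∀ a ∈ bW p E, R.vec (b * a * b⁻¹) = R.vec a) :
    b ∈ centralizer (bWE p E : Set G) := by
  refine BlockBaumann.centralizes_of_modZ hE hb fun w hw => ?_
  have h1 := (R.vec_eq_iff (conj_mem_bW_of hb (bWE_le E hw)) (bWE_le E hw)).1 (h w (bWE_le E hw))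
  rw [commutatorElement_def]
  exact h1.2

omit [Fintype K] in
theorem vec_fix_of_centralizes (hE : IsBaumannBlock p (T : Subgroup G) E) {b : G}
    (hbN : b ∈ normalizer (E : Set G)) (hb : b ∈ centralizer (bWE p E : Set G)) {a : G} (ha : a ∈ bW p E) :
    R.vec (b * a * b⁻¹) = R.vec a := by
  obtain ⟨χ, hχ⟩ := R.exists_map (normalizer_le_bW (p := p) E hbN) (normalizer_le_bZ (p := p) E hbN)
  obtain ⟨u, hu, e⟩ := vec_surj_bWE (R := R) hE (R.vec a)
  rw [← hχ a ha, ← e, hχ u (bWE_le E hu), ← mem_centralizer_iff.1 hb u hu, mul_inv_cancel_right]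

/-- The action of `B(T)` on the section: transvections along one line, the whole root group, realised in every
maximal elementary abelian subgroup of `T` moving the module. -/
structure RootAction (T : Sylow p G) (R : Rep p K E (bW p E) (bZ p E)) (v : Fin 2 → K) : Prop where
  ne : v ≠ 0
  baumann : ∀ b ∈ baumannSubgroupOf p (T : Subgroup G), ∃ c : K,
    ∀ a ∈ bW p E, R.vec (b * a * b⁻¹) = R.vec a + (c * dt v (R.vec a)) • v
  line : ∀ u ∈ bWE p E, (∃ x : K, R.vec u = x • v) → ∀ b ∈ baumannSubgroupOf p (T : Subgroup G), b * u = u * b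
  offender : ∃ A ∈ maxElementaryAbelianSubgroups p G, A ≤ (T : Subgroup G) ∧
    (∀ c : K, ∃ a ∈ A, ∀ w ∈ bW p E, R.vec (a * w * a⁻¹) = R.vec w + (c * dt v (R.vec w)) • v) ∧
    (∀ u ∈ bWE p E, (∀ a ∈ A, a * u = u * a) → ∃ x : K, R.vec u = x • v)

/-- One offender. -/
theorem offender_transvections (hE : IsBaumannBlock p (T : Subgroup G) E) (hn : Fintype.card K = p ^ n)
    (R : Rep p K E (bW p E) (bZ p E)) {A : Subgroup G} (hA : A ∈ maxElementaryAbelianSubgroups p G)
    (hAT : A ≤ (T : Subgroup G)) (hmov : ¬ A ≤ centralizer (bWE p E : Set G)) :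
    ∃ v : Fin 2 → K, v ≠ 0 ∧
      (∀ a ∈ A, ∃ c : K, ∀ w ∈ bW p E, R.vec (a * w * a⁻¹) = R.vec w + (c * dt v (R.vec w)) • v) ∧
      (∀ c : K, ∃ a ∈ A, ∀ w ∈ bW p E, R.vec (a * w * a⁻¹) = R.vec w + (c * dt v (R.vec w)) • v) ∧
      ∀ u ∈ bWE p E, (∀ a ∈ A, a * u = u * a) ↔ ∃ x : K, R.vec u = x • v := by
  classical
  have hAB : A ≤ baumannSubgroupOf p (T : Subgroup G) :=
    (CfsgLib.Transfer.le_thompsonSubgroupOf hA hAT).trans (Baumann.thompson_le_baumann _)
  have hAN : A ≤ normalizer (E : Set G) := hAB.trans (Block.baumann_le_normalizer hE)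
  set U := bWE p E with hU
  set A₀ := (centralizer (U : Set G)).subgroupOf A with hA₀
  haveI : A₀.Normal := ⟨fun x hx g => by
    rwa [show g * x * g⁻¹ = x from mul_inv_eq_iff_eq_mul.2
      (Subtype.ext (CfsgLib.PGroup.elemAb_comm hA.1 g.2 x.2))]⟩
  choose χ hχ using fun a : ↥A =>
    R.exists_map (normalizer_le_bW (p := p) E (hAN a.2)) (normalizer_le_bZ (p := p) E (hAN a.2))
  have hext : ∀ {φ ψ : (Fin 2 → K) →+ (Fin 2 → K)}, (∀ a ∈ bW p E, φ (R.vec a) = ψ (R.vec a)) → ∀ v, φ v = ψ v :=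
    fun h v => by obtain ⟨a, ha, rfl⟩ := R.vec_surj v; exact h a ha
  have hmul : ∀ a b : ↥A, ∀ v, χ (a * b) v = χ a (χ b v) := fun a b =>
    hext (ψ := (χ a).comp (χ b)) fun w hw => by
      rw [AddMonoidHom.comp_apply, hχ b w hw, hχ a _ (conj_mem_bW_of (hAN b.2) hw), hχ _ w hw, Subgroup.coe_mul]
      congr 1
      group
  have hker : ∀ a : ↥A, a ∈ A₀ ↔ ∀ v, χ a v = v := by
    intro a
    refine ⟨fun ha => hext (ψ := AddMonoidHom.id _) fun w hw => ?_, fun h => ?_⟩
    · rw [AddMonoidHom.id_apply, hχ a w hw]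
      show R.vec ((a : G) * w * (a : G)⁻¹) = R.vec w
      exact vec_fix_of_centralizes hE (hAN a.2) ha hw
    · exact centralizes_of_vec_fix (R := R) (b := (a : G)) hE (hAN a.2) fun w hw => by rw [← hχ a w hw, h]
  have hout : ∀ a : ↥A, ∀ v, χ (QuotientGroup.mk a : ↥A ⧸ A₀).out v = χ a v := by
    intro a v
    obtain ⟨h, e⟩ := QuotientGroup.mk_out_eq_mul A₀ a
    rw [e, hmul, (hker h).1 h.2]
  have hpA : IsPGroup p (↥A ⧸ A₀) := ((T.2.to_le hAT)).to_quotient A₀
  have hUab : IsElementaryAbelian p U :=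
    CfsgLib.PGroup.elemAb_mono (Oz.elemAb (p := p) (pCoreOf p E)) (bWE_le E)
  -- counting
  let φ : ↥U →* Multiplicative (Fin 2 → K) :=
    MonoidHom.mk' (fun u => Multiplicative.ofAdd (R.vec u)) fun a b => by
      rw [Subgroup.coe_mul, R.vec_mul a (bWE_le E a.2) b (bWE_le E b.2), ofAdd_add]
  have hφ : Function.Surjective φ := fun v => by
    obtain ⟨u, hu, e⟩ := vec_surj_bWE (R := R) hE (Multiplicative.toAdd v)
    exact ⟨⟨u, hu⟩, by simp [φ, e]⟩
  set C := U ⊓ centralizer (A : Set G) with hC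
  set C' := C.subgroupOf U with hC'
  have hCU : C ≤ U := inf_le_left
  have hcount : Fintype.card K ^ 2 * Nat.card ↥φ.ker = Nat.card ↥U := by
    rw [Subgroup.card_eq_card_quotient_mul_card_subgroup φ.ker,
      Nat.card_congr (QuotientGroup.quotientKerEquivOfSurjective φ hφ).toEquiv,
      Nat.card_congr Multiplicative.toAdd, Nat.card_eq_fintype_card (α := Fin 2 → K), Fintype.card_fun,
      Fintype.card_fin]
  have hoffU : Nat.card ↥U * Nat.card ↥A₀ ≤ Nat.card ↥A * Nat.card ↥C' := by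
    have h1 := BlockBaumann.offender_max hA hUab (inf_le_left : A ⊓ centralizer (U : Set G) ≤ A)
    have e1 : U ⊓ centralizer ((A ⊓ centralizer (U : Set G) : Subgroup G) : Set G) = U :=
      inf_eq_left.2 fun u hu => mem_centralizer_iff.2 fun a ha => (mem_centralizer_iff.1 ha.2 u hu).symm
    rw [e1] at h1
    have e2 : Nat.card ↥A₀ = Nat.card ↥(A ⊓ centralizer (U : Set G)) := by
      rw [hA₀, ← inf_subgroupOf_right, inf_comm]
      exact Nat.card_congr (subgroupOfEquivOfLe inf_le_left).toEquiv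
    rw [e2, show Nat.card ↥C' = Nat.card ↥C from Nat.card_congr (subgroupOfEquivOfLe hCU).toEquiv, mul_comm]
    exact h1
  have hAq : Nat.card ↥A = Nat.card (↥A ⧸ A₀) * Nat.card ↥A₀ := Subgroup.card_eq_card_quotient_mul_card_subgroup A₀
  set Fx := {v : Fin 2 → K // ∀ q : ↥A ⧸ A₀, χ q.out v = v}
  have hCfix : ∀ u : ↥U, u ∈ C' → ∀ q : ↥A ⧸ A₀, χ q.out (R.vec u) = R.vec u := fun u hu q => by
    rw [hχ _ _ (bWE_le E u.2)]
    congr 1
    show (q.out : G) * (u : G) * (q.out : G)⁻¹ = u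
    have h1 : (q.out : G) * (u : G) = (u : G) * (q.out : G) := mem_centralizer_iff.1 hu.2 _ q.out.2
    rw [h1]
    exact mul_inv_cancel_right _ _
  have hC'card : Nat.card ↥C' ≤ Nat.card Fx * Nat.card ↥(φ.ker ⊓ C' : Subgroup ↥U) := by
    rw [Subgroup.card_eq_card_quotient_mul_card_subgroup (φ.ker.subgroupOf C')]
    refine Nat.mul_le_mul ?_ (le_of_eq ?_)
    · let g : ↥C' ⧸ φ.ker.subgroupOf C' → Fx := Quotient.lift
        (fun u => ⟨R.vec (u : ↥U), hCfix _ u.2⟩) fun a b hab => by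
          have h1 : φ ((a : ↥U)⁻¹ * b) = 1 := QuotientGroup.leftRel_apply.1 hab
          rw [map_mul, map_inv, inv_mul_eq_one] at h1
          exact Subtype.ext (Multiplicative.ofAdd.injective h1)
      refine Nat.card_le_card_of_injective g fun x y hxy => ?_
      induction x using QuotientGroup.induction_on with | _ a => ?_
      induction y using QuotientGroup.induction_on with | _ b => ?_
      rw [QuotientGroup.eq, mem_subgroupOf, MonoidHom.mem_ker, Subgroup.coe_mul, map_mul, InvMemClass.coe_inv,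
        map_inv, inv_mul_eq_one]
      exact congrArg Multiplicative.ofAdd (congrArg Subtype.val hxy)
    · rw [← inf_subgroupOf_right]
      exact Nat.card_congr (subgroupOfEquivOfLe inf_le_right).toEquiv
  have hkC : Nat.card ↥(φ.ker ⊓ C' : Subgroup ↥U) ≤ Nat.card ↥φ.ker := card_le_of_le inf_le_left
  have hA₀pos : 0 < Nat.card ↥A₀ := Nat.card_pos
  have hkpos : 0 < Nat.card ↥φ.ker := Nat.card_pos
  have hoff : Fintype.card K ^ 2 ≤ Nat.card (↥A ⧸ A₀) * Nat.card Fx := by
    refine Nat.le_of_mul_le_mul_right (Nat.le_of_mul_le_mul_right ?_ hA₀pos) hkpos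
    calc Fintype.card K ^ 2 * Nat.card ↥φ.ker * Nat.card ↥A₀ ≤ Nat.card ↥A * Nat.card ↥C' := by rw [hcount]; exact hoffU
      _ ≤ Nat.card ↥A * (Nat.card Fx * Nat.card ↥φ.ker) :=
        Nat.mul_le_mul_left _ (hC'card.trans (Nat.mul_le_mul_left _ hkC))
      _ = _ := by rw [hAq]; ring
  obtain ⟨v, hv, hall, hfull, hfix⟩ := line_of_offender hn hpA
    (fun a b => QuotientGroup.induction_on a fun x => QuotientGroup.induction_on b fun y =>
      congrArg QuotientGroup.mk (Subtype.ext (CfsgLib.PGroup.elemAb_comm hA.1 x.2 y.2)))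
    (fun q => χ q.out)
    (fun a b w => by
      rw [← hmul, ← hout (a.out * b.out), QuotientGroup.mk_mul, QuotientGroup.out_eq', QuotientGroup.out_eq'])
    (fun w => by rw [show (1 : ↥A ⧸ A₀) = QuotientGroup.mk 1 from rfl, hout]; exact (hker 1).1 (one_mem _) w)
    (fun q h => by
      rw [← QuotientGroup.out_eq' q]
      exact (QuotientGroup.eq_one_iff _).2 ((hker _).2 h))
    (fun q => by
      obtain ⟨D, σ, h⟩ := exists_semi_all (R := R) hn (hAN q.out.2)
      refine ⟨D, σ, fun u w => ?_⟩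
      obtain ⟨a, ha, rfl⟩ := R.vec_surj u
      obtain ⟨b, hb, rfl⟩ := R.vec_surj w
      rw [hχ _ a ha, hχ _ b hb, h a ha b hb])
    (by
      obtain ⟨a, ha, hac⟩ := SetLike.not_le_iff_exists.1 hmov
      exact ⟨QuotientGroup.mk (⟨a, ha⟩ : ↥A), fun e => hac ((QuotientGroup.eq_one_iff (⟨a, ha⟩ : ↥A)).1 e)⟩)
    hoff
  refine ⟨v, hv, fun a ha => ?_, fun c => ?_, fun u hu => ⟨fun hc => ?_, fun hx => ?_⟩⟩
  · obtain ⟨c, hc⟩ := hall (QuotientGroup.mk ⟨a, ha⟩)
    exact ⟨c, fun w hw => by rw [← hc, hout, hχ _ w hw]⟩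
  · obtain ⟨q, hq⟩ := hfull c
    exact ⟨q.out, q.out.2, fun w hw => by rw [← hχ _ w hw, hq]⟩
  · exact (hfix _).1 (hCfix ⟨u, hu⟩ ⟨hu, mem_centralizer_iff.2 hc⟩)
  · -- the preimage of the line has no more elements than the fixed points
    let L : Subgroup ↥U :=
      { carrier := {u | ∃ x : K, R.vec u = x • v}
        one_mem' := ⟨0, by rw [zero_smul]; exact R.vec_one⟩
        mul_mem' := fun {a b} ⟨x, hx⟩ ⟨y, hy⟩ => ⟨x + y, by
          rw [Subgroup.coe_mul, R.vec_mul a (bWE_le E a.2) b (bWE_le E b.2), hx, hy, add_smul]⟩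
        inv_mem' := fun {a} ⟨x, hx⟩ => ⟨-x, by rw [InvMemClass.coe_inv, R.vec_inv (bWE_le E a.2), hx, neg_smul]⟩ }
    have hCL : C' ≤ L := fun w hw => (hfix _).1 (hCfix w hw)
    have hq1 : Nat.card (↥A ⧸ A₀) ≤ Fintype.card K := by
      choose c hc using hall
      rw [← Nat.card_eq_fintype_card]
      refine Nat.card_le_card_of_injective c fun a b h => ?_
      have h2 : ∀ w, χ a.out w = χ b.out w := fun w => by rw [hc, hc, h]
      refine (inv_mul_eq_one.1 ?_)
      rw [← QuotientGroup.out_eq' (a⁻¹ * b), QuotientGroup.eq_one_iff, hker]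
      intro w
      rw [← hout, QuotientGroup.out_eq', ← QuotientGroup.out_eq' a, ← QuotientGroup.out_eq' b,
        ← QuotientGroup.mk_inv, ← QuotientGroup.mk_mul, hout, hmul, ← h2 w, ← hmul, inv_mul_cancel]
      exact (hker 1).1 (one_mem _) w
    have hLcard : Nat.card ↥L ≤ Fintype.card K * Nat.card ↥φ.ker := by
      rw [Subgroup.card_eq_card_quotient_mul_card_subgroup (φ.ker.subgroupOf L)]
      refine Nat.mul_le_mul ?_ ?_
      · have hrange : (φ.comp L.subtype).ker = φ.ker.subgroupOf L := rfl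
        rw [← hrange, Nat.card_congr (QuotientGroup.quotientKerEquivRange (φ.comp L.subtype)).toEquiv,
          ← Nat.card_eq_fintype_card]
        choose x hx using fun m : ↥(φ.comp L.subtype).range => (show ∃ x : K, Multiplicative.toAdd m.1 = x • v by
          obtain ⟨_, l, rfl⟩ := m
          exact l.2)
        exact Nat.card_le_card_of_injective x fun a b h =>
          Subtype.ext (Multiplicative.toAdd.injective (by rw [hx, hx, h]))
      · rw [← inf_subgroupOf_right]
        exact ((Nat.card_congr (subgroupOfEquivOfLe inf_le_right).toEquiv).trans_le (card_le_of_le inf_le_left))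
    have hge : Fintype.card K * Nat.card ↥φ.ker ≤ Nat.card ↥C' := by
      refine Nat.le_of_mul_le_mul_left ?_ (Fintype.card_pos (α := K))
      refine Nat.le_of_mul_le_mul_right ?_ hA₀pos
      calc Fintype.card K * (Fintype.card K * Nat.card ↥φ.ker) * Nat.card ↥A₀
          = Nat.card ↥U * Nat.card ↥A₀ := by rw [← hcount]; ring
        _ ≤ Nat.card ↥A * Nat.card ↥C' := hoffU
        _ ≤ Fintype.card K * Nat.card ↥A₀ * Nat.card ↥C' := Nat.mul_le_mul_right _ (hAq ▸ Nat.mul_le_mul_right _ hq1)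
        _ = _ := by ring
    have hEQ : C' = L := eq_of_le_of_card_ge hCL (hLcard.trans hge)
    intro a ha
    have h1 : (⟨u, hu⟩ : ↥U) ∈ C' := hEQ ▸ hx
    exact mem_centralizer_iff.1 h1.2 a ha

/-- The action of `B(T)`. -/
theorem exists_rootAction (hG : centralizer (pCore p G : Set G) ≤ pCore p G)
    (hE : IsBaumannBlock p (T : Subgroup G) E) (hn : Fintype.card K = p ^ n)
    (R : Rep p K E (bW p E) (bZ p E)) : ∃ v, RootAction T R v := by
  classical
  obtain ⟨-, -, hJ⟩ := Block.block_position hG hE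
  set B := baumannSubgroupOf p (T : Subgroup G) with hB
  have hBN : B ≤ normalizer (E : Set G) := Block.baumann_le_normalizer hE
  obtain ⟨A, hA, hAT, hmov⟩ : ∃ A ∈ maxElementaryAbelianSubgroups p G, A ≤ (T : Subgroup G) ∧
      ¬ A ≤ centralizer (bWE p E : Set G) := by
    by_contra hc
    push Not at hc
    obtain ⟨A₁, hA₁, hA₁T⟩ := CfsgLib.Transfer.exists_maxEA_le_sylow T
    refine hJ (commutator_eq_bot_iff_le_centralizer.2 (le_centralizer_iff.1 ?_))
    refine map_le_iff_le_comap.2 (sSup_le fun A hA => map_le_iff_le_comap.1 ?_)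
    exact hc _ (CfsgLib.Transfer.maxEA_map_subtype hA₁ hA₁T hA) (map_subtype_le A)
  -- a vector fixed by `B`
  choose χ hχ using fun b : ↥B =>
    R.exists_map (normalizer_le_bW (p := p) E (hBN b.2)) (normalizer_le_bZ (p := p) E (hBN b.2))
  have hext : ∀ {φ ψ : (Fin 2 → K) →+ (Fin 2 → K)}, (∀ a ∈ bW p E, φ (R.vec a) = ψ (R.vec a)) → ∀ v, φ v = ψ v :=
    fun h v => by obtain ⟨a, ha, rfl⟩ := R.vec_surj v; exact h a ha
  letI act : MulAction ↥B (Fin 2 → K) :=
    { smul := fun b w => χ b w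
      one_smul := hext (φ := χ 1) (ψ := AddMonoidHom.id _) fun w hw => by
        rw [hχ 1 w hw, OneMemClass.coe_one, one_mul, inv_one, mul_one, AddMonoidHom.id_apply]
      mul_smul := fun a b => hext (φ := χ (a * b)) (ψ := (χ a).comp (χ b)) fun w hw => by
        rw [AddMonoidHom.comp_apply, hχ b w hw, hχ a _ (conj_mem_bW_of (hBN b.2) hw), hχ _ w hw, Subgroup.coe_mul]
        congr 1
        group }
  have hn0 : n ≠ 0 := by rintro rfl; have := Fintype.one_lt_card (α := K); rw [hn, pow_zero] at this; omega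
  obtain ⟨v, hvfix, hv⟩ := (T.2.to_le (Baumann.baumann_le _)).exists_fixed_point_of_prime_dvd_card_of_fixed_point
    (G := ↥B) (Fin 2 → K) (by
      rw [Nat.card_eq_fintype_card, Fintype.card_fun, Fintype.card_fin, hn, ← pow_mul]
      exact dvd_pow_self p (by omega))
    (show (0 : Fin 2 → K) ∈ MulAction.fixedPoints ↥B (Fin 2 → K) from fun b => map_zero (χ b))
  have hv0 : v ≠ 0 := hv.symm
  have hfix : ∀ b : ↥B, χ b v = v := hvfix
  -- the line of every offender is that of `v`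
  have key : ∀ A' ∈ maxElementaryAbelianSubgroups p G, A' ≤ (T : Subgroup G) →
      ¬ A' ≤ centralizer (bWE p E : Set G) →
      (∀ c : K, ∃ a ∈ A', ∀ w ∈ bW p E, R.vec (a * w * a⁻¹) = R.vec w + (c * dt v (R.vec w)) • v) ∧
      ∀ u ∈ bWE p E, (∀ a ∈ A', a * u = u * a) ↔ ∃ x : K, R.vec u = x • v := by
    intro A' hA' hA'T hA'm
    obtain ⟨v', hv', -, hfull, hfix'⟩ := offender_transvections hE hn R hA' hA'T hA'm
    have hA'B : A' ≤ B := (CfsgLib.Transfer.le_thompsonSubgroupOf hA' hA'T).trans (Baumann.thompson_le_baumann _)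
    obtain ⟨a, ha, haa⟩ := hfull 1
    obtain ⟨u, hu, hue⟩ := R.vec_surj v
    have h1 := haa u hu
    rw [← hχ ⟨a, hA'B ha⟩ u hu, hue, hfix, left_eq_add, smul_eq_zero, one_mul] at h1
    obtain ⟨x, hx⟩ := parallel hv' (h1.resolve_right hv')
    have hx0 : x ≠ 0 := fun h => hv0 (by rw [hx, h, zero_smul])
    refine ⟨fun c => ?_, fun w hw => ?_⟩
    · obtain ⟨a, ha, haa⟩ := hfull (c * x * x)
      refine ⟨a, ha, fun w hw => ?_⟩
      rw [haa w hw, hx, dt_smul_left, smul_smul]
      ring_nf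
    · rw [hfix' w hw]
      refine ⟨fun ⟨y, hy⟩ => ⟨y / x, by rw [hy, hx, smul_smul, div_mul_cancel₀ _ hx0]⟩,
        fun ⟨y, hy⟩ => ⟨y * x, by rw [hy, hx, smul_smul]⟩⟩
  have hline : ∀ u ∈ bWE p E, (∃ x : K, R.vec u = x • v) → ∀ b ∈ B, b * u = u * b := by
    intro u hu hx b hb
    obtain ⟨A₁, hA₁, hA₁T⟩ := CfsgLib.Transfer.exists_maxEA_le_sylow T
    have hJu : thompsonSubgroupOf p (T : Subgroup G) ≤ centralizer ({u} : Set G) := by
      refine map_le_iff_le_comap.2 (sSup_le fun A₂ hA₂ => map_le_iff_le_comap.1 fun a ha => ?_)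
      refine mem_centralizer_singleton_iff.2 ?_
      by_cases hm : A₂.map (T : Subgroup G).subtype ≤ centralizer (bWE p E : Set G)
      · exact (mem_centralizer_iff.1 (hm ha) u hu).symm
      · exact ((key _ (CfsgLib.Transfer.maxEA_map_subtype hA₁ hA₁T hA₂) (map_subtype_le A₂) hm).2 u hu).2 hx a ha
    have hz : u ∈ PushMin.zJ p (T : Subgroup G) := PushMin.mem_zJ T
      ((Oz.mem_iff.1 (bWE_le E hu)).2.2) fun j hj => mem_centralizer_singleton_iff.1 (hJu hj)
    exact (mem_centralizer_iff.1 hb.2 u hz).symm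
  refine ⟨v, hv0, fun b hb => ?_, hline, A, hA, hAT, (key A hA hAT hmov).1,
    fun u hu => ((key A hA hAT hmov).2 u hu).1⟩
  obtain ⟨D, σ, hs⟩ := exists_semi_all (R := R) hn (hBN hb)
  obtain ⟨ψ, hψ, hψs, hψd, hψl⟩ :=
    hs.exists_map (normalizer_le_bW (p := p) E (hBN hb)) (normalizer_le_bZ (p := p) E (hBN hb))
  have hψv : ∀ x : K, ψ (x • v) = x • v := fun x => by
    obtain ⟨u, hu, e⟩ := vec_surj_bWE (R := R) hE (x • v)
    rw [← e, hψ u (bWE_le E hu), hline u hu ⟨x, e⟩ b hb, mul_inv_cancel_right]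
  have hσ : ∀ x, σ x = x := fun x => by
    have h1 := hψl x v
    rw [hψv, show ψ v = v by simpa using hψv 1] at h1
    exact (smul_right_cancel_of_ne hv0 h1).symm
  obtain ⟨k, hk⟩ := T.2 ⟨b, (Baumann.baumann_le _) hb⟩
  have hk' : b ^ p ^ k = 1 := congrArg Subtype.val hk
  have hDk : D ^ p ^ k = 1 := by
    have hpow : ∀ j : ℕ, Semi R (b ^ j) (D ^ j) (RingHom.id K) := fun j => by
      induction j with
      | zero => simpa using (BlockBaumann.semi_one (R := R))
      | succ j ih =>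
        rw [pow_succ, pow_succ]
        have h2 := ih.mul (normalizer_le_bW (p := p) E (hBN hb))
          (show Semi R b D (RingHom.id K) from fun a ha c hc => by rw [hs a ha c hc, hσ, RingHom.id_apply])
        simpa using h2
    have h1 := hpow (p ^ k)
    rw [hk'] at h1
    exact ((BlockBaumann.semi_one (R := R)).unique one_ne_zero h1).1.symm
  have hD : D = 1 := by
    haveI := charP_of_card_eq hn
    have h3 : (D - 1) ^ p ^ k = 0 := by rw [sub_pow_char_pow (R := K) (p := p), hDk, one_pow, sub_self]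
    exact sub_eq_zero.1 ((pow_eq_zero_iff (pow_ne_zero k (Fact.out : p.Prime).ne_zero)).1 h3)
  obtain ⟨c, hc⟩ := transvection_of_dt hψs (fun u w => by rw [hψd, hD, hσ, one_mul]) hv0 (by simpa using hψv 1)
  exact ⟨c, fun a ha => by rw [← hψ a ha, hc]⟩

end CfsgLib.LocalEven.CStar
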