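import Cfsg.Agent.Lib.LocalEven.CStar.SemiOffender
import Cfsg.Agent.Lib.LocalEven.RankOne.Model
import Cfsg.Agent.Lib.LocalEven.BlockCentral.Lin
import Cfsg.Agent.Lib.LocalEven.SubBlock.SL3

/-!
The root group of `SL₂` fixing a given vector.
-/

set_option autoImplicit false

namespace CfsgLib.LocalEven.CStar

open Subgroup
open scoped commutatorElement
open CfsgLib.LocalEven.BlockCentral (Lin.act Lin.act_mul Lin.act_ext)
open CfsgLib.LocalEven.BlockBaumann.SemiLin
open CfsgLib.LocalEven.FaithfulBound (upper lower upper00 upper01 upper10 upper11 lower00 lower01 lower10 lower11)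

variable {K : Type} [Field K]

/-- The root group fixing the first column of `g`, as a homomorphism. -/
def rootHom (g : Matrix.SpecialLinearGroup (Fin 2) K) : Multiplicative K →* Matrix.SpecialLinearGroup (Fin 2) K :=
  (MulAut.conj g).toMonoidHom.comp CfsgLib.LocalEven.RankOne.upperHom

theorem rootHom_apply (g : Matrix.SpecialLinearGroup (Fin 2) K) (c : K) :
    rootHom g (Multiplicative.ofAdd c) = g * upper c * g⁻¹ := rfl

theorem exists_column {v : Fin 2 → K} (hv : v ≠ 0) :
    ∃ g : Matrix.SpecialLinearGroup (Fin 2) K, Lin.act g ![1, 0] = v := by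
  obtain ⟨u, hu⟩ := exists_dt_ne hv
  refine ⟨⟨!![v 0, u 0 / dt v u; v 1, u 1 / dt v u], ?_⟩, ?_⟩
  · rw [Matrix.det_fin_two_of]
    have : dt v u = v 0 * u 1 - v 1 * u 0 := rfl
    field_simp
    rw [this]
    ring
  · ext i
    fin_cases i <;> simp [Lin.act, Matrix.mulVec, dotProduct, Fin.sum_univ_two]

theorem dt_act (g : Matrix.SpecialLinearGroup (Fin 2) K) (x y : Fin 2 → K) :
    dt (Lin.act g x) (Lin.act g y) = dt x y := by
  have h : g.1 0 0 * g.1 1 1 - g.1 0 1 * g.1 1 0 = 1 := by
    have := g.2
    rwa [Matrix.det_fin_two] at this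
  simp only [Lin.act, Matrix.mulVec, dotProduct, Fin.sum_univ_two, dt]
  linear_combination (x 0 * y 1 - x 1 * y 0) * h

theorem rootHom_act {v : Fin 2 → K} {g : Matrix.SpecialLinearGroup (Fin 2) K} (hg : Lin.act g ![1, 0] = v) (c : K)
    (w : Fin 2 → K) : Lin.act (rootHom g (Multiplicative.ofAdd c)) w = w + (c * dt v w) • v := by
  obtain ⟨x, rfl⟩ : ∃ x, Lin.act g x = w := ⟨Lin.act g⁻¹ w, by
    rw [← Lin.act_mul, mul_inv_cancel]; simp [Lin.act]⟩
  rw [rootHom_apply, ← Lin.act_mul, inv_mul_cancel_right, Lin.act_mul, ← hg, dt_act]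
  have hu : Lin.act (upper c) x = x + (c * dt ![1, 0] x) • ![1, 0] := by
    ext i
    fin_cases i <;> simp [Lin.act, upper, dt, Matrix.mulVec, dotProduct, Fin.sum_univ_two]
  rw [hu]
  simp only [Lin.act, Matrix.mulVec_add, Matrix.mulVec_smul]

theorem rootHom_injective (g : Matrix.SpecialLinearGroup (Fin 2) K) : Function.Injective (rootHom g) := by
  intro a b h
  have h1 : upper (Multiplicative.toAdd a) = upper (Multiplicative.toAdd b) :=
    (MulAut.conj g).injective h
  have := congrArg (fun m : Matrix.SpecialLinearGroup (Fin 2) K => m.1 0 1) h1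
  simp only [upper01] at this
  exact Multiplicative.toAdd.injective this

variable [Fintype K]

theorem card_rootHom_range (g : Matrix.SpecialLinearGroup (Fin 2) K) :
    Nat.card ↥(rootHom g).range = Fintype.card K := by
  rw [← Nat.card_congr (MonoidHom.ofInjective (rootHom_injective g)).toEquiv,
    Nat.card_congr Multiplicative.toAdd, Nat.card_eq_fintype_card]

/-- A subgroup containing the derived group and a root group is everything. -/
theorem eq_top_of_root {H : Subgroup (Matrix.SpecialLinearGroup (Fin 2) K)}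
    {g : Matrix.SpecialLinearGroup (Fin 2) K} (hc : commutator (Matrix.SpecialLinearGroup (Fin 2) K) ≤ H)
    (hr : (rootHom g).range ≤ H) : H = ⊤ := by
  haveI : H.Normal := ⟨fun h hh x => by
    have h1 : ⁅x, h⁆ ∈ H := hc (Subgroup.commutator_mem_commutator (mem_top x) (mem_top h))
    have h2 := mul_mem h1 hh
    rwa [commutatorElement_def, inv_mul_cancel_right] at h2⟩
  have hu : ∀ t, upper t ∈ H := fun t => by
    have h1 : g * upper t * g⁻¹ ∈ H := hr ⟨Multiplicative.ofAdd t, rfl⟩
    have := (inferInstance : H.Normal).conj_mem _ h1 g⁻¹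
    simpa [mul_assoc] using this
  set w : Matrix.SpecialLinearGroup (Fin 2) K := RankOne.weyl 1 one_ne_zero
  have hl : w * upper 1 * w⁻¹ ∈ H := (inferInstance : H.Normal).conj_mem _ (hu 1) w
  have e : w * upper 1 * w⁻¹ = lower (-1) := by
    rw [mul_inv_eq_iff_eq_mul]
    ext i j
    fin_cases i <;> fin_cases j <;>
      simp only [CfsgLib.LocalEven.FaithfulBound.sl_mul_apply, upper00, upper01, upper10, upper11, lower00, lower01,
        lower10, lower11] <;> simp [w, RankOne.weyl, upper, lower]
  rw [e] at hl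
  refine RankOne.eq_top_of_upper_of_lowerLeft hu hl ?_
  simp [lower10]

/-- For two and three elements the root groups miss the derived group. -/
theorem root_inf_commutator {p n : ℕ} [Fact p.Prime] (hn : Fintype.card K = p ^ n) (h : ¬ 4 ≤ Fintype.card K)
    {g x : Matrix.SpecialLinearGroup (Fin 2) K} (hx : x ∈ (rootHom g).range)
    (hxc : x ∈ commutator (Matrix.SpecialLinearGroup (Fin 2) K)) : x = 1 := by
  have h1 : orderOf x ∣ Fintype.card K := card_rootHom_range g ▸ Subgroup.orderOf_dvd_natCard _ hx
  have h2 := Subgroup.orderOf_dvd_natCard _ hxc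
  refine orderOf_eq_one_iff.1 (Nat.eq_one_of_dvd_coprimes (k := orderOf x) ?_ h1 h2)
  rcases (show Fintype.card K = 2 ∨ Fintype.card K = 3 by have := Fintype.one_lt_card (α := K); omega) with e | e
  · rw [e, SubBlock.SL3.card_commutator_two e]; norm_num
  · rw [e, SubBlock.SL3.card_commutator e]; norm_num

end CfsgLib.LocalEven.CStar
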