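import Cfsg.Agent.Lib.LocalEven.CStar.BlockAct
import Cfsg.Agent.Lib.LocalEven.CStar.SLPlane
import Cfsg.Agent.Lib.LocalEven.PushUp.Transport
import Cfsg.Agent.Lib.LocalEven.PushUp.UniqueMax
import Cfsg.Agent.Lib.LocalEven.PushUp.Torus
import Cfsg.Agent.Lib.LocalEven.RankOne.Final
import Cfsg.Agent.S2961

/-!
The group generated by a linear block and the Baumann subgroup is in the pushing-up situation.
-/

set_option autoImplicit false

namespace CfsgLib.LocalEven.CStar

open Cfsg Subgroup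
open CfsgLib.LocalEven
open CfsgLib.LocalEven.SubBlock CfsgLib.LocalEven.BlockCentral
open CfsgLib.LocalEven.BlockBaumann.SemiLin
open scoped commutatorElement

variable {G : Type*} [Group G] [Finite G] {p : ℕ} [Fact p.Prime] {T : Sylow p G} {E : Subgroup G}
variable {K : Type} [Field K] [Fintype K] {n : ℕ}
variable {R : Rep p K E (bW p E) (bZ p E)} {v : Fin 2 → K} {g : Matrix.SpecialLinearGroup (Fin 2) K}

/-- `E B(T)`. -/
abbrev bH (p : ℕ) (T E : Subgroup G) : Subgroup G := E ⊔ baumannSubgroupOf p T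

theorem bH_le_normalizer (hE : IsBaumannBlock p (T : Subgroup G) E) :
    bH p (T : Subgroup G) E ≤ normalizer (E : Set G) :=
  sup_le le_normalizer (Block.baumann_le_normalizer hE)

theorem bH_decomp (hE : IsBaumannBlock p (T : Subgroup G) E) {h : G} (hh : h ∈ bH p (T : Subgroup G) E) :
    ∃ e ∈ E, ∃ b ∈ baumannSubgroupOf p (T : Subgroup G), h = e * b := by
  rw [← SetLike.mem_coe, coe_mul_of_right_le_normalizer_left E _ (Block.baumann_le_normalizer hE)] at hh
  obtain ⟨e, he, b, hb, rfl⟩ := hh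
  exact ⟨e, he, b, hb, rfl⟩

omit [Fintype K] in
theorem rho_eq_of_action {e : G} (he : e ∈ E) {M : Matrix.SpecialLinearGroup (Fin 2) K}
    (h : ∀ a ∈ bW p E, R.vec (e * a * e⁻¹) = Lin.act M (R.vec a)) : R.rho e = M :=
  Lin.act_ext fun x => by
    obtain ⟨a, ha, rfl⟩ := R.vec_surj x
    rw [← R.vec_conj e he a ha, h a ha]

/-- The representation of `E B(T)` on the section. -/
theorem exists_sigma (hE : IsBaumannBlock p (T : Subgroup G) E) (ra : RootAction T R v)
    (hg : Lin.act g ![1, 0] = v) :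
    ∃ σ : ↥(bH p (T : Subgroup G) E) →* Matrix.SpecialLinearGroup (Fin 2) K,
      (∀ h : ↥(bH p (T : Subgroup G) E), ∀ a ∈ bW p E,
        R.vec ((h : G) * a * (h : G)⁻¹) = Lin.act (σ h) (R.vec a)) ∧
      (∀ b : ↥(bH p (T : Subgroup G) E), (b : G) ∈ baumannSubgroupOf p (T : Subgroup G) →
        σ b ∈ (rootHom g).range) ∧ Function.Surjective σ := by
  classical
  set H := bH p (T : Subgroup G) E with hH
  have hHN := bH_le_normalizer hE
  have hbM : ∀ b ∈ baumannSubgroupOf p (T : Subgroup G), ∃ M ∈ (rootHom g).range,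
      ∀ a ∈ bW p E, R.vec (b * a * b⁻¹) = Lin.act M (R.vec a) := fun b hb => by
    obtain ⟨c, hc⟩ := ra.baumann b hb
    exact ⟨_, ⟨Multiplicative.ofAdd c, rfl⟩, fun a ha => by rw [hc a ha, rootHom_act hg]⟩
  have hex : ∀ h : ↥H, ∃ M : Matrix.SpecialLinearGroup (Fin 2) K,
      ∀ a ∈ bW p E, R.vec ((h : G) * a * (h : G)⁻¹) = Lin.act M (R.vec a) := fun h => by
    obtain ⟨e, he, b, hb, eh⟩ := bH_decomp hE h.2
    obtain ⟨M, -, hM⟩ := hbM b hb
    refine ⟨R.rho e * M, fun a ha => ?_⟩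
    rw [Lin.act_mul, ← hM a ha, ← R.vec_conj e he _ (conj_mem_bW_of (Block.baumann_le_normalizer hE hb) ha), eh]
    congr 1
    group
  choose M hM using hex
  let σ : ↥H →* Matrix.SpecialLinearGroup (Fin 2) K := MonoidHom.mk' M fun x y => Lin.act_ext fun w => by
    obtain ⟨a, ha, rfl⟩ := R.vec_surj w
    rw [Lin.act_mul, ← hM (x * y) a ha, ← hM y a ha, ← hM x _ (conj_mem_bW_of (hHN y.2) ha), Subgroup.coe_mul]
    congr 1
    group
  have hσ : ∀ (h : ↥H) (N : Matrix.SpecialLinearGroup (Fin 2) K),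
      (∀ a ∈ bW p E, R.vec ((h : G) * a * (h : G)⁻¹) = Lin.act N (R.vec a)) → σ h = N := fun h N hN =>
    Lin.act_ext fun w => by
      obtain ⟨a, ha, rfl⟩ := R.vec_surj w
      exact (hM h a ha).symm.trans (hN a ha)
  refine ⟨σ, hM, fun b hb => ?_, ?_⟩
  · obtain ⟨N, hN, hN'⟩ := hbM b hb
    rwa [hσ b N hN']
  · rw [← MonoidHom.range_eq_top]
    refine eq_top_of_root (g := g) (fun r hr => ?_) ?_
    · obtain ⟨e, he, rfl⟩ := R.rho_surj r hr
      exact ⟨⟨e, mem_sup_left he⟩, hσ _ _ fun a ha => R.vec_conj e he a ha⟩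
    · rintro _ ⟨c, rfl⟩
      obtain ⟨A, hA, hAT, hfull, -⟩ := ra.offender
      obtain ⟨a, ha, haa⟩ := hfull (Multiplicative.toAdd c)
      refine ⟨⟨a, mem_sup_right (Baumann.thompson_le_baumann _ (CfsgLib.Transfer.le_thompsonSubgroupOf hA hAT ha))⟩,
        hσ _ _ fun w hw => ?_⟩
      rw [show c = Multiplicative.ofAdd (Multiplicative.toAdd c) from rfl, rootHom_act hg]
      exact haa w hw

/-- The part of `E` acting as the root group of `B(T)`. -/
def rootPart (R : Rep p K E (bW p E) (bZ p E)) (g : Matrix.SpecialLinearGroup (Fin 2) K) : Subgroup G where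
  carrier := {e | e ∈ E ∧ R.rho e ∈ (rootHom g).range}
  one_mem' := ⟨one_mem E, by rw [R.rho_one]; exact one_mem _⟩
  mul_mem' := fun {a b} ha hb => ⟨mul_mem ha.1 hb.1, by rw [R.rho_mul a ha.1 b hb.1]; exact mul_mem ha.2 hb.2⟩
  inv_mem' := fun {a} ha => ⟨inv_mem ha.1, by rw [R.rho_inv ha.1]; exact inv_mem ha.2⟩

theorem rootPart_isPGroup (hn : Fintype.card K = p ^ n) : IsPGroup p ↥(rootPart R g) := by
  intro x
  have hc : IsPGroup p ↥(rootHom g).range := IsPGroup.of_card ((card_rootHom_range g).trans hn)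
  obtain ⟨k, hk⟩ := hc ⟨R.rho x, x.2.2⟩
  have h1 : R.rho ((x : G) ^ p ^ k) = 1 := by
    rw [R.rho_pow x.2.1]; exact congrArg Subtype.val hk
  obtain ⟨l, hl⟩ := CfsgLib.LocalEven.isPGroup_pCoreOf p E ⟨_, (R.rho_eq_one _ (pow_mem x.2.1 _)).1 h1⟩
  refine ⟨k + l, Subtype.ext ?_⟩
  rw [SubmonoidClass.coe_pow, pow_add, pow_mul]
  exact congrArg Subtype.val hl

omit [Fintype K] in
theorem baumann_le_normalizer_rootPart (hE : IsBaumannBlock p (T : Subgroup G) E) (ra : RootAction T R v)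
    (hg : Lin.act g ![1, 0] = v) :
    baumannSubgroupOf p (T : Subgroup G) ≤ normalizer (rootPart R g : Set G) := by
  intro b hb
  refine CfsgLib.LocalEven.mem_normalizer_of_conj_le ?_
  rintro _ ⟨e, ⟨he, c, hc⟩, rfl⟩
  have hbN := Block.baumann_le_normalizer hE hb
  have he' : b * e * b⁻¹ ∈ E := (mem_normalizer_iff.1 hbN e).1 he
  obtain ⟨d, hd⟩ := ra.baumann b hb
  refine ⟨he', c, (rho_eq_of_action he' fun a ha => ?_).symm⟩
  have hb' : ∀ w ∈ bW p E, R.vec (b * w * b⁻¹) = Lin.act (rootHom g (Multiplicative.ofAdd d)) (R.vec w) :=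
    fun w hw => by rw [hd w hw, rootHom_act hg]
  have h1 : b⁻¹ * a * b ∈ bW p E := by simpa using conj_mem_bW_of (inv_mem hbN) ha
  have h2 : Lin.act (rootHom g (Multiplicative.ofAdd d)) (R.vec (b⁻¹ * a * b)) = R.vec a := by
    rw [← hb' _ h1]; congr 1; group
  rw [show b * e * b⁻¹ * a * (b * e * b⁻¹)⁻¹ = b * (e * (b⁻¹ * a * b) * e⁻¹) * b⁻¹ by group,
    hb' _ (conj_mem_bW_of (le_normalizer he) h1), R.vec_conj e he _ h1, ← hc, ← h2, ← Lin.act_mul, ← Lin.act_mul,
    ← map_mul, ← map_mul, mul_comm]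

/-- The Sylow subgroup of `E B(T)` above `B(T)`, and the kernel of the action. -/
theorem exists_sylow_bH (hE : IsBaumannBlock p (T : Subgroup G) E) (hn : Fintype.card K = p ^ n)
    (ra : RootAction T R v) (hg : Lin.act g ![1, 0] = v)
    {σ : ↥(bH p (T : Subgroup G) E) →* Matrix.SpecialLinearGroup (Fin 2) K}
    (hσ : ∀ h : ↥(bH p (T : Subgroup G) E), ∀ a ∈ bW p E,
        R.vec ((h : G) * a * (h : G)⁻¹) = Lin.act (σ h) (R.vec a))
    (hσB : ∀ b : ↥(bH p (T : Subgroup G) E), (b : G) ∈ baumannSubgroupOf p (T : Subgroup G) →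
        σ b ∈ (rootHom g).range) (hσs : Function.Surjective σ) :
    ∃ S : Sylow p ↥(bH p (T : Subgroup G) E),
      (S : Subgroup ↥(bH p (T : Subgroup G) E)).map (bH p (T : Subgroup G) E).subtype =
        rootPart R g ⊔ baumannSubgroupOf p (T : Subgroup G) ∧ σ.ker ≤ (S : Subgroup ↥(bH p (T : Subgroup G) E)) := by
  set P := rootPart R g ⊔ baumannSubgroupOf p (T : Subgroup G) with hP
  have hPp : IsPGroup p ↥P := (rootPart_isPGroup hn).to_sup_of_normal_left'
    (T.2.to_le (Baumann.baumann_le _)) (baumann_le_normalizer_rootPart hE ra hg)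
  have hPH : P ≤ (bH p (T : Subgroup G) E) := sup_le (fun e he => mem_sup_left he.1) le_sup_right
  have hrho : ∀ e : ↥(bH p (T : Subgroup G) E), (e : G) ∈ E → σ e = R.rho e := fun e he =>
    (rho_eq_of_action he fun a ha => hσ e a ha).symm
  have hcomap : (rootHom g).range.comap σ = P.subgroupOf (bH p (T : Subgroup G) E) := by
    refine le_antisymm (fun h hh => ?_) ?_
    · obtain ⟨e, he, b, hb, eh⟩ := bH_decomp hE h.2
      have e1 : h = (⟨e, mem_sup_left he⟩ : ↥(bH p (T : Subgroup G) E)) * ⟨b, mem_sup_right hb⟩ := Subtype.ext eh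
      rw [mem_comap, e1, map_mul, Subgroup.mul_mem_cancel_right _ (hσB _ hb), hrho _ he] at hh
      rw [mem_subgroupOf, eh]
      exact mul_mem (mem_sup_left ⟨he, hh⟩) (mem_sup_right hb)
    · have hle : P ≤ ((rootHom g).range.comap σ).map (bH p (T : Subgroup G) E).subtype := sup_le
        (fun e he => ⟨⟨e, mem_sup_left he.1⟩, by rw [SetLike.mem_coe, mem_comap, hrho _ he.1]; exact he.2, rfl⟩)
        (fun b hb => ⟨⟨b, mem_sup_right hb⟩, hσB ⟨b, mem_sup_right hb⟩ hb, rfl⟩)
      intro h hh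
      obtain ⟨h', hh', e⟩ := hle hh
      rwa [← show h' = h from Subtype.ext e]
  have hp := (Fact.out : p.Prime)
  have hidx : ¬ p ∣ (P.subgroupOf (bH p (T : Subgroup G) E)).index := by
    rw [← hcomap, Subgroup.index_comap_of_surjective _ hσs]
    have h1 := Subgroup.card_mul_index (rootHom g).range
    rw [card_rootHom_range, CfsgLib.Classical.card_SL_two rfl] at h1
    rw [Nat.eq_of_mul_eq_mul_left Fintype.card_pos h1]
    have hn0 : n ≠ 0 := by rintro rfl; have := Fintype.one_lt_card (α := K); rw [hn, pow_zero] at this; omega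
    have hpn : p ∣ Fintype.card K := hn ▸ dvd_pow_self p hn0
    intro hd
    rcases hp.dvd_mul.1 hd with hd | hd
    · have h2 := Nat.dvd_sub hpn hd
      rw [Nat.sub_sub_self Fintype.card_pos] at h2
      exact hp.not_dvd_one h2
    · exact hp.not_dvd_one ((Nat.dvd_add_right hpn).1 hd)
  refine ⟨(hPp.of_equiv (subgroupOfEquivOfLe hPH).symm).toSylow hidx, ?_, ?_⟩
  · rw [IsPGroup.toSylow_coe]; exact map_subgroupOf_eq_of_le hPH
  · rw [IsPGroup.toSylow_coe, ← hcomap]
    intro x hx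
    rw [mem_comap, MonoidHom.mem_ker.1 hx]; exact one_mem _

/-- With `B(T)` a Sylow subgroup, the hypotheses of pushing up hold. -/
theorem hyp_bH (hG : centralizer (pCore p G : Set G) ≤ pCore p G)
    (hE : IsBaumannBlock p (T : Subgroup G) E) (hout : ¬ E ≤ cStarOf p (T : Subgroup G))
    (hn : Fintype.card K = p ^ n) (ra : RootAction T R v) (hg : Lin.act g ![1, 0] = v)
    (hroot : rootPart R g ≤ baumannSubgroupOf p (T : Subgroup G)) :
    ∃ (K₀ : Subgroup ↥(bH p (T : Subgroup G) E)) (_ : K₀.Normal) (S : Sylow p ↥(bH p (T : Subgroup G) E)),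
      (S : Subgroup ↥(bH p (T : Subgroup G) E)) =
        (baumannSubgroupOf p (T : Subgroup G)).subgroupOf (bH p (T : Subgroup G) E) ∧
      RankOne.Hyp n S K₀ ∧ PushUp.TorusComm p (↥(bH p (T : Subgroup G) E) ⧸ K₀) ∧ PushUp.NoChar S := by
  classical
  set H := bH p (T : Subgroup G) E with hH
  set B := baumannSubgroupOf p (T : Subgroup G) with hB
  obtain ⟨σ, hσ, hσB, hσs⟩ := exists_sigma hE ra hg
  obtain ⟨S, hS, hkS⟩ := exists_sylow_bH hE hn ra hg hσ hσB hσs
  have hBH : B ≤ H := le_sup_right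
  have hSB : (S : Subgroup ↥H) = B.subgroupOf H := by
    rw [← comap_map_eq_self_of_injective H.subtype_injective (S : Subgroup ↥H), hS, sup_eq_right.2 hroot]
    rfl
  have hn0 : n ≠ 0 := by rintro rfl; have := Fintype.one_lt_card (α := K); rw [hn, pow_zero] at this; omega
  set f : ↥H →* Matrix.ProjectiveSpecialLinearGroup (Fin 2) K :=
    (QuotientGroup.mk' (Subgroup.center (Matrix.SpecialLinearGroup (Fin 2) K))).comp σ with hf
  have hfs : Function.Surjective f := (QuotientGroup.mk'_surjective _).comp hσs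
  have heq : Nonempty (↥H ⧸ f.ker ≃* Matrix.ProjectiveSpecialLinearGroup (Fin 2) K) :=
    ⟨QuotientGroup.quotientKerEquivOfSurjective f hfs⟩
  have hcomm : ∀ k ∈ f.ker, ∀ h : ↥H, ⁅k, h⁆ ∈ σ.ker := fun k hk h => by
    have hc : σ k ∈ Subgroup.center (Matrix.SpecialLinearGroup (Fin 2) K) := (QuotientGroup.eq_one_iff _).1 hk
    rw [MonoidHom.mem_ker, map_commutatorElement, commutatorElement_eq_one_iff_mul_comm]
    exact (mem_center_iff.1 hc (σ h)).symm
  have hkM : ∀ M : Subgroup ↥H, IsCoatom M → (S : Subgroup ↥H) ≤ M → f.ker ≤ M := by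
    intro M hM hSM
    by_contra hcon
    have htop : M ⊔ f.ker = ⊤ := hM.2 _ (left_lt_sup.2 hcon)
    have hkN : f.ker ≤ normalizer (M : Set ↥H) := fun k hk => CfsgLib.LocalEven.mem_normalizer_of_conj_le (by
      rintro _ ⟨m, hm, rfl⟩
      show k * m * k⁻¹ ∈ M
      rw [show k * m * k⁻¹ = ⁅k, m⁆ * m by simp only [commutatorElement_def]; group]
      exact mul_mem (hSM (hkS (hcomm k hk m))) hm)
    haveI : M.Normal := normalizer_eq_top_iff.1 (top_le_iff.1 (htop.ge.trans (sup_le le_normalizer hkN)))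
    refine hM.1 (eq_top_iff.2 ?_)
    have hBM : B.subgroupOf H ≤ M := hSB ▸ hSM
    have hEM : E ≤ M.map H.subtype := by
      rw [← hE.2.1, commutator_le]
      intro e he b hb
      refine ⟨⁅(⟨e, mem_sup_left he⟩ : ↥H), (⟨b, hBH hb⟩ : ↥H)⁆, ?_, rfl⟩
      rw [SetLike.mem_coe, commutatorElement_def]
      exact mul_mem ((inferInstance : M.Normal).conj_mem _ (hBM hb) _) (inv_mem (hBM hb))
    intro x _
    obtain ⟨y, hy, e⟩ := (sup_le hEM fun b hb => ⟨⟨b, hBH hb⟩, hBM hb, rfl⟩ : H ≤ M.map H.subtype) x.2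
    rwa [← show y = x from Subtype.ext e]
  have huniq : ∃! M : Subgroup ↥H, IsCoatom M ∧ (S : Subgroup ↥H) ≤ M := by
    obtain ⟨M₀, ⟨hM₀, hSM₀⟩, hu⟩ := PushUp.psl_unique_coatom (p := p) (Nat.one_le_iff_ne_zero.2 hn0) hn
      (S.mapSurjective hfs)
    have key : ∀ M : Subgroup ↥H, IsCoatom M → (S : Subgroup ↥H) ≤ M → M = M₀.comap f := by
      intro M hM hSM
      have hk := hkM M hM hSM
      have hco : IsCoatom (M.map f) := by
        refine ⟨fun h => hM.1 (by rw [← comap_map_eq_self hk, h, comap_top]), fun X hlt => ?_⟩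
        have h1 : M < X.comap f := by
          refine lt_of_le_not_ge (map_le_iff_le_comap.1 hlt.le) fun hle => hlt.not_ge ?_
          rw [← map_comap_eq_self_of_surjective hfs X]
          exact Subgroup.map_mono hle
        rw [← map_comap_eq_self_of_surjective hfs X, hM.2 _ h1, map_top_of_surjective f hfs]
      rw [← hu (M.map f) ⟨hco, Subgroup.map_mono hSM⟩, comap_map_eq_self hk]
    rcases eq_top_or_exists_le_coatom (S : Subgroup ↥H) with hSt | ⟨M, hM, hSM⟩
    · refine absurd hM₀.1 (not_not.2 (eq_top_iff.2 ?_))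
      rw [← map_top_of_surjective f hfs, ← hSt]
      exact hSM₀
    · exact ⟨M, ⟨hM, hSM⟩, fun M' hM' => (key M' hM'.1 hM'.2).trans (key M hM hSM).symm⟩
  have hcE : centralizer (pCore p ↥H : Set ↥H) ≤ pCore p ↥H :=
    Cfsg.Agent.S2961.result hG T B (Baumann.baumann_le _) (Baumann.baumann_normalized T)
      (fun t ht => ⟨ht.1, mem_centralizer_iff.2 fun z hz => mem_centralizer_iff.1 ht.2 z
        ((Baumann.omegaCentre_thompson_le _).trans (Baumann.thompson_le_baumann _) hz)⟩) H hBH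
  refine ⟨f.ker, inferInstance, S, hSB,
    RankOne.hyp_of_equiv S hcE huniq f.ker K n (Nat.one_le_iff_ne_zero.2 hn0) hn heq,
    PushUp.torusComm_of_equiv f.ker K n (Nat.one_le_iff_ne_zero.2 hn0) hn heq, ?_⟩
  intro C hC hne hch hCn
  refine hout (le_trans ?_ (normalizer_char_le_cStar (C := C.map H.subtype) ?_
    (fun e => hne ((map_eq_bot_iff_of_injective _ H.subtype_injective).1 e)) ?_))
  · have h1 := le_normalizer_map (H := C) H.subtype
    rw [normalizer_eq_top_iff.2 hCn, ← MonoidHom.range_eq_map, range_subtype] at h1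
    exact le_sup_left.trans h1
  · rintro _ ⟨c, hc, rfl⟩
    exact hSB.le (hC hc)
  · let e : ↥(S : Subgroup ↥H) ≃* ↥B := (MulEquiv.subgroupCongr hSB).trans (subgroupOfEquivOfLe hBH)
    have : (C.map H.subtype).subgroupOf B = (C.subgroupOf (S : Subgroup ↥H)).map e.toMonoidHom := by
      ext b
      constructor
      · rintro ⟨c, hc, hce⟩
        exact ⟨⟨c, hC hc⟩, hc, Subtype.ext hce⟩
      · rintro ⟨c, hc, rfl⟩
        exact ⟨c.1, hc, rfl⟩
    rw [this]
    exact characteristic_iff_map_eq.2 fun φ => by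
      have h1 := characteristic_iff_map_eq.1 hch ((e.trans φ).trans e.symm)
      conv_rhs => rw [← h1]
      simp only [Subgroup.map_map]
      congr 1

/-- A maximal elementary abelian subgroup that moves the module yields one containing it. -/
theorem exists_centralizing_maxEA (hE : IsBaumannBlock p (T : Subgroup G) E)
    (hG : centralizer (pCore p G : Set G) ≤ pCore p G) (ra : RootAction T R v) {A : Subgroup G}
    (hA : A ∈ maxElementaryAbelianSubgroups p G) (hAT : A ≤ (T : Subgroup G))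
    (hfull : ∀ c : K, ∃ a ∈ A, ∀ w ∈ bW p E, R.vec (a * w * a⁻¹) = R.vec w + (c * dt v (R.vec w)) • v)
    (hfix : ∀ u ∈ bWE p E, (∀ a ∈ A, a * u = u * a) → ∃ x : K, R.vec u = x • v) :
    A ⊓ centralizer (bWE p E : Set G) ⊔ bWE p E ∈ maxElementaryAbelianSubgroups p G ∧
      A ⊓ centralizer (bWE p E : Set G) ⊔ bWE p E ≤ (T : Subgroup G) := by
  classical
  set U := bWE p E with hU
  set A₀ := A ⊓ centralizer (U : Set G) with hA₀
  have hAB : A ≤ baumannSubgroupOf p (T : Subgroup G) :=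
    (CfsgLib.Transfer.le_thompsonSubgroupOf hA hAT).trans (Baumann.thompson_le_baumann _)
  have hUab : IsElementaryAbelian p U :=
    CfsgLib.PGroup.elemAb_mono (Oz.elemAb (p := p) (pCoreOf p E)) (bWE_le E)
  have hUT : U ≤ (T : Subgroup G) :=
    (Block.block_position hG hE).2.1.trans ((Oz.le_self _).trans (CfsgLib.Cores.pCore_le_sylow T))
  have hel : IsElementaryAbelian p (A₀ ⊔ U) := BlockBaumann.elemAb_sup
    (CfsgLib.PGroup.elemAb_mono hA.1 inf_le_left) hUab
    fun a ha u hu => (mem_centralizer_iff.1 ha.2 u hu).symm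
  -- sizes
  have hAcard : Nat.card ↥A ≤ Fintype.card K * Nat.card ↥A₀ := by
    choose rep hrep hrepa using hfull
    have hco : ∀ a : ↥A, ∃ c : K, ∀ w ∈ bW p E,
        R.vec ((a : G) * w * (a : G)⁻¹) = R.vec w + (c * dt v (R.vec w)) • v := fun a => ra.baumann a (hAB a.2)
    choose c hc using hco
    rw [← Nat.card_eq_fintype_card, ← Nat.card_prod]
    refine Nat.card_le_card_of_injective
      (fun a => (c a, (⟨(rep (c a))⁻¹ * (a : G), ⟨A.mul_mem (A.inv_mem (hrep _)) a.2, ?_⟩⟩ : ↥A₀))) fun a b h => ?_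
    · have hN : ∀ x ∈ A, x ∈ normalizer (E : Set G) := fun x hx => Block.baumann_le_normalizer hE (hAB hx)
      refine centralizes_of_vec_fix (R := R) hE (mul_mem (inv_mem (hN _ (hrep _))) (hN _ a.2)) fun w hw => ?_
      set r := rep (c a) with hr
      set y := (a : G) * w * (a : G)⁻¹ with hy
      have h1 : r⁻¹ * y * r ∈ bW p E := by
        simpa using conj_mem_bW_of (inv_mem (hN _ (hrep _))) (conj_mem_bW_of (hN _ a.2) hw)
      have h2 := hrepa (c a) _ h1
      rw [← hr, show r * (r⁻¹ * y * r) * r⁻¹ = y by group, hy, hc a w hw] at h2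
      rw [show r⁻¹ * (a : G) * w * (r⁻¹ * a)⁻¹ = r⁻¹ * y * r by rw [hy]; group]
      have h3 : dt v (R.vec (r⁻¹ * y * r)) = dt v (R.vec w) := by
        have hd : ∀ (x : Fin 2 → K) (k : K), dt v (x + k • v) = dt v x := fun x k => by simp [dt]; ring
        have h4 := congrArg (dt v) h2
        rw [hd, hd] at h4
        exact h4.symm
      rw [h3] at h2
      exact (add_right_cancel h2).symm
    · simp only [Prod.ext_iff, Subtype.ext_iff] at h
      exact Subtype.ext (mul_left_cancel (h.2.trans (by rw [h.1])))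
  have hUC : Fintype.card K * Nat.card ↥(U ⊓ centralizer (A : Set G)) ≤ Nat.card ↥U := by
    obtain ⟨w₀, hw₀⟩ := exists_dt_ne ra.ne
    choose u hu huv using fun x : K => vec_surj_bWE (R := R) hE (x • w₀)
    rw [← Nat.card_eq_fintype_card, ← Nat.card_prod]
    refine Nat.card_le_card_of_injective (fun xc => (⟨u xc.1 * xc.2, mul_mem (hu _) xc.2.2.1⟩ : ↥U)) ?_
    rintro ⟨x, c⟩ ⟨y, d⟩ h
    have h' : u x * (c : G) = u y * d := congrArg Subtype.val h
    have hfixc : ∀ c : ↥(U ⊓ centralizer (A : Set G)), dt v (R.vec (c : G)) = 0 := fun c => by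
      obtain ⟨z, hz⟩ := hfix c c.2.1 fun a ha => mem_centralizer_iff.1 c.2.2 a ha
      rw [hz, dt_smul_right, dt_self, mul_zero]
    have h1 := congrArg (fun g => dt v (R.vec g)) h'
    simp only [R.vec_mul _ (bWE_le E (hu _)) _ (bWE_le E c.2.1), R.vec_mul _ (bWE_le E (hu _)) _ (bWE_le E d.2.1),
      huv] at h1
    have hadd : ∀ a b : Fin 2 → K, dt v (a + b) = dt v a + dt v b := fun a b => by simp [dt]; ring
    rw [hadd, hadd, hfixc, hfixc, dt_smul_right, dt_smul_right, add_zero, add_zero] at h1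
    obtain rfl : x = y := mul_right_cancel₀ hw₀ h1
    exact Prod.ext rfl (Subtype.ext (mul_left_cancel h'))
  have hmax : A₀ ⊔ U ∈ maxElementaryAbelianSubgroups p G := by
    refine ⟨hel, fun X hX => (hA.2 X hX).trans ?_⟩
    have h1 := CfsgLib.PGroup.card_mul_card_le_sup_inf A₀ U
    have h2 : Nat.card ↥(A₀ ⊓ U) ≤ Nat.card ↥(U ⊓ centralizer (A : Set G)) := card_le_of_le fun x hx =>
      ⟨hx.2, mem_centralizer_iff.2 fun a ha => CfsgLib.PGroup.elemAb_comm hA.1 ha hx.1.1⟩
    have hpos : 0 < Nat.card ↥(U ⊓ centralizer (A : Set G)) := Nat.card_pos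
    refine Nat.le_of_mul_le_mul_right ?_ hpos
    calc Nat.card ↥A * Nat.card ↥(U ⊓ centralizer (A : Set G))
        ≤ (Fintype.card K * Nat.card ↥A₀) * Nat.card ↥(U ⊓ centralizer (A : Set G)) := Nat.mul_le_mul_right _ hAcard
      _ = Nat.card ↥A₀ * (Fintype.card K * Nat.card ↥(U ⊓ centralizer (A : Set G))) := by ring
      _ ≤ Nat.card ↥A₀ * Nat.card ↥U := Nat.mul_le_mul_left _ hUC
      _ ≤ _ := h1
      _ ≤ _ := Nat.mul_le_mul_left _ h2
  exact ⟨hmax, sup_le (inf_le_left.trans hAT) hUT⟩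

/-- The module lies in the Thompson subgroup. -/
theorem bWE_le_thompson (hE : IsBaumannBlock p (T : Subgroup G) E)
    (hG : centralizer (pCore p G : Set G) ≤ pCore p G) (ra : RootAction T R v) :
    bWE p E ≤ thompsonSubgroupOf p (T : Subgroup G) := by
  obtain ⟨A, hA, hAT, hfull, hfix⟩ := ra.offender
  obtain ⟨h1, h2⟩ := exists_centralizing_maxEA hE hG ra hA hAT hfull hfix
  exact le_sup_right.trans (CfsgLib.Transfer.le_thompsonSubgroupOf h1 h2)

end CfsgLib.LocalEven.CStar
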