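import Cfsg.Agent.Lib.LocalEven.CStar.BlockH
import Cfsg.Agent.Lib.LocalEven.SubBlock.Section

/-!
The root group of a linear block lies in the Baumann subgroup.
-/

set_option autoImplicit false

namespace CfsgLib.LocalEven.CStar

open Cfsg Subgroup
open CfsgLib.LocalEven
open CfsgLib.LocalEven.SubBlock CfsgLib.LocalEven.BlockCentral
open CfsgLib.LocalEven.BlockBaumann.SemiLin
open scoped commutatorElement

variable {G : Type*} [Group G] [Finite G] {p : ℕ} [Fact p.Prime] {T : Sylow p G} {E : Subgroup G}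
variable {K : Type} [Field K] [Fintype K] {n : ℕ}
variable {R : Rep p K E (bW p E) (bZ p E)} {v : Fin 2 → K} {g : Matrix.SpecialLinearGroup (Fin 2) K}

/-- With at most three elements the root part is the core. -/
theorem rootPart_eq_core (hn : Fintype.card K = p ^ n) (h4 : ¬ 4 ≤ Fintype.card K) :
    rootPart R g = pCoreOf p E := by
  refine le_antisymm (fun e he => (R.rho_eq_one e he.1).1 (root_inf_commutator hn h4 he.2 (R.rho_mem e)))
    fun e he => ⟨CfsgLib.LocalEven.pCoreOf_le p E he, ?_⟩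
  rw [(R.rho_eq_one e (CfsgLib.LocalEven.pCoreOf_le p E he)).2 he]
  exact one_mem _

/-- An element acting trivially on the section moves `E` inside the core. -/
theorem comm_mem_core (R : Rep p K E (bW p E) (bZ p E)) (hE : IsBaumannBlock p (T : Subgroup G) E) {z : G} (hzN : z ∈ normalizer (E : Set G))
    (hz : z ∈ centralizer (bWE p E : Set G)) {e : G} (he : e ∈ E) : ⁅z, e⁆ ∈ pCoreOf p E := by
  have he' : z * e * z⁻¹ ∈ E := (mem_normalizer_iff.1 hzN e).1 he
  have h1 : R.rho (z * e * z⁻¹) = R.rho e := rho_eq_of_action he' fun a ha => by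
    have h2 : z⁻¹ * a * z ∈ bW p E := by simpa using conj_mem_bW_of (inv_mem hzN) ha
    rw [show z * e * z⁻¹ * a * (z * e * z⁻¹)⁻¹ = z * (e * (z⁻¹ * a * z) * e⁻¹) * z⁻¹ by group,
      vec_fix_of_centralizes hE hzN hz (conj_mem_bW_of (le_normalizer he) h2), R.vec_conj e he _ h2]
    congr 1
    rw [← vec_fix_of_centralizes hE hzN hz h2]
    congr 1
    group
  refine (R.rho_eq_one _ ?_).1 ?_
  · rw [commutatorElement_def]; exact mul_mem he' (inv_mem he)
  · rw [commutatorElement_def, R.rho_mul _ he' _ (inv_mem he), h1, R.rho_inv he, mul_inv_cancel]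

/-- The root part lies in `B(T)` as soon as it centralises `Ω₁Z(J(T))`. -/
theorem rootPart_le_of_comm (hE : IsBaumannBlock p (T : Subgroup G) E) (hn : Fintype.card K = p ^ n)
    (ra : RootAction T R v) (hg : Lin.act g ![1, 0] = v)
    (hc : ∀ s ∈ rootPart R g, ∀ z ∈ PushMin.zJ p (T : Subgroup G), s * z = z * s) :
    rootPart R g ≤ baumannSubgroupOf p (T : Subgroup G) := by
  obtain ⟨T', hT'⟩ := ((rootPart_isPGroup hn).to_sup_of_normal_left' (T.2.to_le (Baumann.baumann_le _))
    (baumann_le_normalizer_rootPart hE ra hg) :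
      IsPGroup p ↥(rootPart R g ⊔ baumannSubgroupOf p (T : Subgroup G))).exists_le_sylow
  have hBT' : baumannSubgroupOf p (T : Subgroup G) ≤ (T' : Subgroup G) := le_sup_right.trans hT'
  intro s hs
  rw [← Baumann.baumann_eq_of_le hBT']
  refine ⟨hT' (mem_sup_left hs), mem_centralizer_iff.2 fun z hz => (hc s hs z ?_).symm⟩
  have hJ := Baumann.thompson_eq_of_le (T := T) (T' := T') ((Baumann.thompson_le_baumann _).trans hBT')
  rw [PushMin.zJ, centerThompsonOf, ← hJ]
  exact hz

/-- The linear case. -/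
theorem rootPart_le_linear (hG : centralizer (pCore p G : Set G) ≤ pCore p G)
    (hE : IsBaumannBlock p (T : Subgroup G) E) (hn : Fintype.card K = p ^ n) (ra : RootAction T R v)
    (hg : Lin.act g ![1, 0] = v) (hQ : pCoreOf p E = bW p E) :
    rootPart R g ≤ baumannSubgroupOf p (T : Subgroup G) := by
  classical
  have hWU : bW p E = bWE p E := bW_eq_of_core hE hQ
  have hUJ := bWE_le_thompson hE hG ra
  by_cases h4 : 4 ≤ Fintype.card K
  swap
  · rw [rootPart_eq_core hn h4, hQ, hWU]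
    exact hUJ.trans (Baumann.thompson_le_baumann _)
  refine rootPart_le_of_comm hE hn ra hg fun s hs z hz => ?_
  obtain ⟨A, hA, hAT, hfull, -⟩ := ra.offender
  have hAJ : A ≤ thompsonSubgroupOf p (T : Subgroup G) := CfsgLib.Transfer.le_thompsonSubgroupOf hA hAT
  have hAB : A ≤ baumannSubgroupOf p (T : Subgroup G) := hAJ.trans (Baumann.thompson_le_baumann _)
  have hzJ := Oz.mem_iff.1 hz
  have hzU : z ∈ centralizer (bWE p E : Set G) :=
    mem_centralizer_iff.2 fun u hu => hzJ.2.1 u (hUJ hu)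
  have hzN : z ∈ normalizer (E : Set G) :=
    Block.baumann_le_normalizer hE (Baumann.thompson_le_baumann _ hzJ.1)
  have hf : ∀ e ∈ E, ⁅z, e⁆ ∈ bWE p E := fun e he => by
    have h := comm_mem_core R hE hzN hzU he
    rwa [hQ, hWU] at h
  have hUcomm : ∀ {x y : G}, x ∈ bWE p E → y ∈ bWE p E → Commute x y := fun hx hy =>
    bW_comm (bWE_le E hx) (bWE_le E hy)
  -- the value at an element of the root part centralises the block
  have hd : ∀ t ∈ rootPart R g, ∀ e ∈ E, Commute ⁅z, t⁆ e := by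
    intro t ht
    obtain ⟨c, hct⟩ := ht.2
    obtain ⟨a, ha, haa⟩ := hfull (Multiplicative.toAdd c)
    have haN : a ∈ normalizer (E : Set G) := Block.baumann_le_normalizer hE (hAB ha)
    have htN : t ∈ normalizer (E : Set G) := le_normalizer ht.1
    have hatW : ∀ x ∈ bW p E, R.vec (a * x * a⁻¹) = R.vec (t * x * t⁻¹) := fun x hx => by
      rw [haa x hx, R.vec_conj t ht.1 x hx, ← hct,
        show c = Multiplicative.ofAdd (Multiplicative.toAdd c) from rfl, rootHom_act hg]
      rfl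
    set m := a⁻¹ * t with hm
    have hmN : m ∈ normalizer (E : Set G) := mul_mem (inv_mem haN) htN
    have hmU : m ∈ centralizer (bWE p E : Set G) := by
      refine centralizes_of_vec_fix (R := R) hE hmN fun x hx => ?_
      obtain ⟨χ, hχ⟩ := R.exists_map (normalizer_le_bW (p := p) E (inv_mem haN))
        (normalizer_le_bZ (p := p) E (inv_mem haN))
      rw [show m * x * m⁻¹ = a⁻¹ * (t * x * t⁻¹) * a⁻¹⁻¹ by rw [hm]; group,
        ← hχ _ (conj_mem_bW_of htN hx), ← hatW x hx, hχ _ (conj_mem_bW_of haN hx)]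
      congr 1
      group
    intro e he
    -- evaluate at the conjugate of `e` by `t`
    suffices hkey : ∀ e ∈ E, Commute ⁅z, t⁆ (t * e * t⁻¹) by
      have h1 := hkey (t⁻¹ * e * t) (mul_mem (mul_mem (inv_mem ht.1) he) ht.1)
      rwa [show t * (t⁻¹ * e * t) * t⁻¹ = e by group] at h1
    intro e he
    set x := t * e * t⁻¹ with hx
    have hxE : x ∈ E := mul_mem (mul_mem ht.1 he) (inv_mem ht.1)
    set d := ⁅z, t⁆ with hd'
    set w := ⁅z, e⁆ with hw
    have hdU : d ∈ bWE p E := hf t ht.1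
    have hwU : w ∈ bWE p E := hf e he
    have hwx : t * w * t⁻¹ ∈ bWE p E :=
      (mem_normalizer_iff.1 (normalizer_le_bWE E htN) w).1 hwU
    -- `[z, a e a⁻¹] = a [z, e] a⁻¹ = t [z, e] t⁻¹`
    have hza : Commute a z := hzJ.2.1 a (hAJ ha)
    have h1 : ⁅z, a * e * a⁻¹⁆ = t * w * t⁻¹ := by
      have h2 : ⁅z, a * e * a⁻¹⁆ = a * w * a⁻¹ := by
        rw [hw]
        have h3 : z * a = a * z := hza.eq.symm
        have h4 : z⁻¹ * a = a * z⁻¹ := hza.symm.inv_left.eq
        simp only [commutatorElement_def]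
        calc z * (a * e * a⁻¹) * z⁻¹ * (a * e * a⁻¹)⁻¹
            = (z * a) * e * (a⁻¹ * z⁻¹) * a * e⁻¹ * a⁻¹ := by group
          _ = (a * z) * e * (a⁻¹ * (a * z⁻¹)) * e⁻¹ * a⁻¹ := by rw [h3, ← h4]; group
          _ = _ := by group
      rw [h2, show a * w * a⁻¹ = a * (m * w * m⁻¹) * a⁻¹ by
        rw [← mem_centralizer_iff.1 hmU w hwU, mul_inv_cancel_right], hm]
      group
    -- `a e a⁻¹ = w' * x` with `w'` in the module
    have hw' : a * e * a⁻¹ * x⁻¹ ∈ bWE p E := by
      have h2 := comm_mem_core R hE (inv_mem hmN) (inv_mem hmU) he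
      rw [hQ, hWU] at h2
      have h3 : t * ⁅m⁻¹, e⁆ * t⁻¹ ∈ bWE p E := (mem_normalizer_iff.1 (normalizer_le_bWE E htN) _).1 h2
      convert h3 using 1
      rw [hx, hm]
      simp only [commutatorElement_def]
      group
    set u := a * e * a⁻¹ * x⁻¹ with hu
    have h4 : ⁅z, x⁆ = t * w * t⁻¹ := by
      rw [← h1, show a * e * a⁻¹ = u * x by rw [hu]; group,
        show ⁅z, u * x⁆ = ⁅z, u⁆ * (u * ⁅z, x⁆ * u⁻¹) by simp only [commutatorElement_def]; group,
        commutatorElement_eq_one_iff_mul_comm.2 (mem_centralizer_iff.1 hzU u hw').symm, one_mul,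
        (hUcomm hw' (hf x hxE)).eq, mul_inv_cancel_right]
    have h5 : ⁅z, x⁆ = d * (t * w * t⁻¹) * (x * d⁻¹ * x⁻¹) := by
      rw [hd', hw, hx]
      simp only [commutatorElement_def]
      group
    rw [h4, (hUcomm hdU hwx).eq] at h5
    have h6 : d * (x * d⁻¹ * x⁻¹) = 1 :=
      mul_left_cancel (a := t * w * t⁻¹) (by rw [mul_one, ← mul_assoc]; exact h5.symm)
    refine commutatorElement_eq_one_iff_mul_comm.1 ?_
    rw [commutatorElement_def, mul_assoc, mul_assoc, ← mul_assoc x]
    exact h6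
  -- the values are invariant under a torus
  have hfix : ∀ t ∈ rootPart R g, ∀ e ∈ E, e * t * e⁻¹ ∈ rootPart R g → ⁅z, e * t * e⁻¹⁆ = ⁅z, t⁆ := by
    intro t ht e he hu
    set u := e * t * e⁻¹ with hu'
    set d := ⁅z, t⁆ with hd'
    set w := ⁅z, e⁆ with hw
    have hwU : w ∈ bWE p E := hf e he
    have hdU : d ∈ bWE p E := hf t ht.1
    have h1 : ⁅z, u⁆ = d * ⁅w, u⁆ := by
      have h2 : ⁅z, u⁆ = w * (e * d * e⁻¹) * (e * t * e⁻¹) * w⁻¹ * (e * t * e⁻¹)⁻¹ := by
        rw [hu', hd', hw]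
        simp only [commutatorElement_def]
        group
      rw [h2, ← (hd t ht e he).eq, mul_inv_cancel_right, (hUcomm hwU hdU).eq, ← hu', commutatorElement_def]
      group
    have h3 : ⁅w, u⁆ ∈ centralizer (E : Set G) := mem_centralizer_iff.2 fun x hx => by
      have h4 : Commute d x := hd t ht x hx
      have h5 : Commute ⁅z, u⁆ x := hd u hu x hx
      have h6 := (h4.inv_left.mul_left h5).eq.symm
      rwa [h1, inv_mul_cancel_left] at h6
    suffices hwu : Commute w u by
      rw [h1, commutatorElement_eq_one_iff_mul_comm.2 hwu.eq, mul_one]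
    obtain ⟨c, hcu⟩ := hu.2
    have huN : u ∈ normalizer (E : Set G) := le_normalizer hu.1
    by_cases hc0 : Multiplicative.toAdd c = 0
    · have hu1 : u ∈ pCoreOf p E := (R.rho_eq_one u hu.1).1 (by
        rw [← hcu, show c = 1 from Multiplicative.toAdd.injective (by simpa using hc0), map_one])
      exact (core_comm hu1 (bWE_le E hwU)).symm
    have huw : u * w * u⁻¹ ∈ bW p E := conj_mem_bW_of huN (bWE_le E hwU)
    have h7 : R.vec (u * w * u⁻¹) = R.vec w := by
      refine (R.vec_eq_iff huw (bWE_le E hwU)).2 ⟨(bW p E).mul_mem huw ((bW p E).inv_mem (bWE_le E hwU)), ?_⟩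
      have h8 := inv_mem h3
      rw [commutatorElement_inv, commutatorElement_def] at h8
      exact h8
    rw [R.vec_conj u hu.1 w (bWE_le E hwU), ← hcu,
      show c = Multiplicative.ofAdd (Multiplicative.toAdd c) from rfl, rootHom_act hg, add_eq_left,
      smul_eq_zero] at h7
    have h9 : dt v (R.vec w) = 0 := ((mul_eq_zero.1 (h7.resolve_right ra.ne)).resolve_left hc0)
    obtain ⟨y, hy⟩ := parallel ra.ne h9
    obtain ⟨a, ha, haa⟩ := hfull (Multiplicative.toAdd c)
    have haN : a ∈ normalizer (E : Set G) := Block.baumann_le_normalizer hE (hAB ha)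
    have hmU : a⁻¹ * u ∈ centralizer (bWE p E : Set G) := by
      obtain ⟨χ, hχ⟩ := R.exists_map (normalizer_le_bW (p := p) E (inv_mem haN))
        (normalizer_le_bZ (p := p) E (inv_mem haN))
      refine centralizes_of_vec_fix (R := R) hE (mul_mem (inv_mem haN) huN) fun x hx => ?_
      have h10 : R.vec (u * x * u⁻¹) = R.vec (a * x * a⁻¹) := by
        rw [haa x hx, R.vec_conj u hu.1 x hx, ← hcu,
          show c = Multiplicative.ofAdd (Multiplicative.toAdd c) from rfl, rootHom_act hg]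
        rfl
      rw [show a⁻¹ * u * x * (a⁻¹ * u)⁻¹ = a⁻¹ * (u * x * u⁻¹) * a⁻¹⁻¹ by group,
        ← hχ _ (conj_mem_bW_of huN hx), h10, hχ _ (conj_mem_bW_of haN hx)]
      congr 1
      group
    have h11 : Commute a w := ra.line w hwU ⟨y, hy⟩ a (hAB ha)
    have h12 : Commute (a⁻¹ * u) w := (mem_centralizer_iff.1 hmU w hwU).symm
    have h13 := h11.mul_left h12
    rw [mul_inv_cancel_left] at h13
    exact h13.symm
  -- a torus element separates
  obtain ⟨l, hl0, hl1⟩ : ∃ l : K, l ≠ 0 ∧ l * l ≠ 1 := by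
    by_contra hcon
    push Not at hcon
    have hsub : (Finset.univ : Finset K) ⊆ {0, 1, -1} := fun x _ => by
      by_cases hx : x = 0
      · simp [hx]
      rcases mul_self_eq_one_iff.1 (hcon x hx) with h | h <;> simp [h]
    have h3 := (Finset.card_le_card hsub).trans Finset.card_le_three
    rw [Finset.card_univ] at h3
    omega
  obtain ⟨c₀, hc₀⟩ := hs.2
  set c := Multiplicative.toAdd c₀ / (l * l - 1) with hc
  have hRR : ∀ r, r ∈ commutator (Matrix.SpecialLinearGroup (Fin 2) K) := fun r => by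
    rw [Lin.commutator_eq_top h4]; exact mem_top r
  let dg : Matrix.SpecialLinearGroup (Fin 2) K :=
    ⟨!![l, 0; 0, l⁻¹], by rw [Matrix.det_fin_two_of]; simp [hl0]⟩
  obtain ⟨e, he, hρe⟩ := R.rho_surj (g * dg * g⁻¹) (hRR _)
  obtain ⟨t, ht, hρt⟩ := R.rho_surj (rootHom g (Multiplicative.ofAdd c)) (hRR _)
  have htP : t ∈ rootPart R g := ⟨ht, hρt ▸ ⟨_, rfl⟩⟩
  have hmat : dg * FaithfulBound.upper c * dg⁻¹ = FaithfulBound.upper (l * l * c) := by
    rw [mul_inv_eq_iff_eq_mul]
    ext i j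
    fin_cases i <;> fin_cases j <;>
      simp only [FaithfulBound.sl_mul_apply] <;> simp [dg, FaithfulBound.upper] <;> field_simp
  have hu : e * t * e⁻¹ ∈ E := mul_mem (mul_mem he ht) (inv_mem he)
  have hρu : R.rho (e * t * e⁻¹) = rootHom g (Multiplicative.ofAdd (l * l * c)) := by
    rw [R.rho_mul _ (mul_mem he ht) _ (inv_mem he), R.rho_mul e he t ht, R.rho_inv he, hρe, hρt, rootHom_apply,
      rootHom_apply, ← hmat]
    group
  have huP : e * t * e⁻¹ ∈ rootPart R g := ⟨hu, hρu ▸ ⟨_, rfl⟩⟩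
  set q := e * t * e⁻¹ * t⁻¹ with hq
  have hqE : q ∈ E := mul_mem hu (inv_mem ht)
  have hqs : R.rho q = R.rho s := by
    rw [hq, R.rho_mul _ hu _ (inv_mem ht), R.rho_inv ht, hρu, hρt, ← hc₀, ← map_inv, ← map_mul,
      ← ofAdd_neg, ← ofAdd_add]
    congr 1
    refine Multiplicative.toAdd.injective ?_
    rw [toAdd_ofAdd, hc]
    have : l * l - 1 ≠ 0 := sub_ne_zero.2 hl1
    generalize Multiplicative.toAdd c₀ = x
    calc l * l * (x / (l * l - 1)) + -(x / (l * l - 1)) = (l * l - 1) * (x / (l * l - 1)) := by ring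
      _ = x := mul_div_cancel₀ x this
  have hqz : Commute z q := by
    have h1 := hfix t htP e he huP
    have h2 : ⁅z, q⁆ = 1 := by
      rw [hq, show ⁅z, e * t * e⁻¹ * t⁻¹⁆ = ⁅z, e * t * e⁻¹⁆ * ((e * t * e⁻¹ * t⁻¹) * ⁅z, t⁆⁻¹ *
        (e * t * e⁻¹ * t⁻¹)⁻¹) by simp only [commutatorElement_def]; group, h1,
        ← ((hd t htP q hqE).inv_left).eq, mul_inv_cancel_right, mul_inv_cancel]
    exact commutatorElement_eq_one_iff_mul_comm.1 h2
  have hk : q⁻¹ * s ∈ bWE p E := by
    rw [← hWU, ← hQ, ← R.rho_eq_one _ (mul_mem (inv_mem hqE) hs.1), R.rho_mul _ (inv_mem hqE) _ hs.1,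
      R.rho_inv hqE, hqs, inv_mul_cancel]
  have := hqz.mul_right (show Commute z (q⁻¹ * s) from (mem_centralizer_iff.1 hzU _ hk).symm)
  rw [mul_inv_cancel_left] at this
  exact this.eq.symm

end CfsgLib.LocalEven.CStar
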