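import Cfsg.Agent.Lib.LocalEven.CStar.BlockRoot
import Cfsg.Agent.Lib.LocalEven.BlockBaumann.Shrink

/-!
The core of an exceptional block over three elements lies in the Baumann subgroup.
-/

set_option autoImplicit false

namespace CfsgLib.LocalEven.CStar

open Cfsg Subgroup
open CfsgLib.LocalEven
open CfsgLib.LocalEven.SubBlock CfsgLib.LocalEven.BlockCentral
open CfsgLib.LocalEven.BlockBaumann.SemiLin
open scoped commutatorElement

variable {G : Type*} [Group G] [Finite G] {p : ℕ} [Fact p.Prime] {T : Sylow p G} {E : Subgroup G}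
variable {K : Type} [Field K] [Fintype K]

omit [Finite G] [Fact p.Prime] in
/-- An element of `p`-power order normalising a subgroup of order three centralises it, for `p = 3`. -/
theorem commute_of_card_three {Z : Subgroup G} (hZ : Nat.card ↥Z = 3) {x : G}
    (hx : x ∈ normalizer (Z : Set G)) {k : ℕ} (hk : x ^ 3 ^ k = 1) {z : G} (hz : z ∈ Z) : Commute x z := by
  by_cases hz1 : z = 1
  · rw [hz1]; exact Commute.one_right x
  haveI : Fact (Nat.Prime 3) := ⟨Nat.prime_three⟩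
  have hz3 : orderOf z = 3 := by
    have h1 := Subgroup.orderOf_dvd_natCard Z hz
    rw [hZ] at h1
    exact ((Nat.dvd_prime Nat.prime_three).1 h1).resolve_left fun h => hz1 (orderOf_eq_one_iff.1 h)
  have hmem : x * z * x⁻¹ ∈ Z := (mem_normalizer_iff.1 hx z).1 hz
  obtain ⟨j, hj⟩ : ∃ j : ℕ, z ^ j = x * z * x⁻¹ := by
    obtain ⟨j, hj⟩ := mem_powers_of_prime_card (g := (⟨z, hz⟩ : ↥Z)) (g' := ⟨_, hmem⟩) hZ
      (fun h => hz1 (congrArg Subtype.val h))
    exact ⟨j, congrArg Subtype.val hj⟩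
  have hiter : ∀ m : ℕ, x ^ m * z * (x ^ m)⁻¹ = z ^ (j ^ m) := by
    intro m
    induction m with
    | zero => simp
    | succ m ih =>
      rw [pow_succ', show x * x ^ m * z * (x * x ^ m)⁻¹ = x * (x ^ m * z * (x ^ m)⁻¹) * x⁻¹ by group, ih,
        ← conj_pow, ← hj, ← pow_mul, pow_succ']
  have h1 := hiter (3 ^ k)
  rw [hk, one_mul, inv_one, mul_one] at h1
  have h2 : (j : ZMod 3) ^ (3 ^ k) = 1 := by
    have h3 : z ^ (j ^ 3 ^ k) = z ^ 1 := by rw [pow_one]; exact h1.symm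
    rw [pow_eq_pow_iff_modEq, hz3] at h3
    have := (ZMod.natCast_eq_natCast_iff _ _ 3).2 h3
    rwa [Nat.cast_pow, Nat.cast_one] at this
  rw [ZMod.pow_card_pow] at h2
  have h4 : z ^ j = z ^ 1 := by
    rw [pow_eq_pow_iff_modEq, hz3]
    exact (ZMod.natCast_eq_natCast_iff _ _ 3).1 (by rw [h2, Nat.cast_one])
  rw [pow_one, hj] at h4
  exact mul_inv_eq_iff_eq_mul.1 h4

/-- The core of an exceptional block over three elements is covered by maximal elementary abelian subgroups of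
`J(T)`, hence lies in `B(T)`. -/
theorem rootPart_le_exc (hG : centralizer (pCore p G : Set G) ≤ pCore p G)
    (hE : IsBaumannBlock p (T : Subgroup G) E) (hx : Exc p (T : Subgroup G) E)
    {R : Rep p K E (bW p E) (bZ p E)} {v : Fin 2 → K} {g : Matrix.SpecialLinearGroup (Fin 2) K}
    (hK : Fintype.card K = 3) (ra : RootAction T R v) (hg : Lin.act g ![1, 0] = v)
    (hidx : ((bZ p E).subgroupOf (bW p E)).index = 3 ^ 2) :
    rootPart R g ≤ baumannSubgroupOf p (T : Subgroup G) := by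
  classical
  obtain rfl : p = 3 := hx.three
  have hn : Fintype.card K = 3 ^ 1 := by rw [hK, pow_one]
  have hroot : rootPart R g = (pCoreOf 3 E) := rootPart_eq_core hn (by omega)
  have hZ3 : Nat.card ↥(bZ 3 E) = 3 := by
    have h1 := hx.cardZ
    rw [hidx] at h1
    exact Nat.pow_left_injective (by norm_num) h1
  obtain ⟨A, hA, hAT, hfull, hfix⟩ := ra.offender
  have hAB : A ≤ baumannSubgroupOf 3 (T : Subgroup G) :=
    (CfsgLib.Transfer.le_thompsonSubgroupOf hA hAT).trans (Baumann.thompson_le_baumann _)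
  have hBN := Block.baumann_le_normalizer hE
  have hQp : IsPGroup 3 ↥(pCoreOf 3 E) := CfsgLib.LocalEven.isPGroup_pCoreOf 3 E
  have hQE : (pCoreOf 3 E) ≤ E := CfsgLib.LocalEven.pCoreOf_le 3 E
  have hWQ : (bW 3 E) ≤ (pCoreOf 3 E) := bW_le_core E
  have hQQ : ∀ x ∈ (pCoreOf 3 E), ∀ y ∈ (pCoreOf 3 E), ⁅x, y⁆ ∈ (bZ 3 E) := fun x hx' y hy =>
    hx.derived.le (commutator_mem_commutator hx' hy)
  have hEQ : E ≤ normalizer ((pCoreOf 3 E) : Set G) := le_normalizer.trans (Block.normalizer_le_pCoreOf E)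
  have hEW : E ≤ normalizer ((bW 3 E) : Set G) := le_normalizer_bW E
  have hQW : (pCoreOf 3 E) ≤ normalizer ((bW 3 E) : Set G) := hQE.trans hEW
  have hpel : ∀ x ∈ (T : Subgroup G), ∃ k, x ^ 3 ^ k = 1 := fun x hx' => by
    obtain ⟨k, hk⟩ := T.2 ⟨x, hx'⟩
    exact ⟨k, congrArg Subtype.val hk⟩
  have hcentW : ∀ z ∈ normalizer (E : Set G), z ∈ centralizer (bWE 3 E : Set G) → (∃ k, z ^ 3 ^ k = 1) →
      ∀ w ∈ (bW 3 E), Commute z w := by
    rintro z hzN hzU ⟨k, hk⟩ w hw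
    obtain ⟨u, hu, y, hy, rfl⟩ := exists_mul_of_sup (bWE_le E) ((bWE_sup hE).ge hw)
    exact (show Commute z u from (mem_centralizer_iff.1 hzU u hu).symm).mul_right
      (commute_of_card_three hZ3 (normalizer_le_bZ E hzN) hk hy)
  -- the commutators with the core
  have hφ : ∀ z ∈ normalizer (E : Set G), z ∈ centralizer (bWE 3 E : Set G) → (∃ k, z ^ 3 ^ k = 1) →
      ∀ q ∈ (pCoreOf 3 E), ⁅z, q⁆ ∈ (bW 3 E) := by
    rintro z hzN hzU ⟨k, hk⟩
    have hzQ : zpowers z ≤ normalizer ((pCoreOf 3 E) : Set G) :=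
      zpowers_le.2 (Block.normalizer_le_pCoreOf E hzN)
    have hzW : zpowers z ≤ normalizer ((bW 3 E) : Set G) := zpowers_le.2 (normalizer_le_bW E hzN)
    set Y := ⁅(pCoreOf 3 E), zpowers z⁆ ⊔ (bW 3 E) with hY
    have hYQ : Y ≤ (pCoreOf 3 E) := sup_le (commutator_le.2 fun a ha b hb => by
      rw [commutatorElement_def, mul_assoc, mul_assoc, ← mul_assoc b]
      exact mul_mem ha ((mem_normalizer_iff.1 (hzQ hb) a⁻¹).1 (inv_mem ha))) hWQ
    haveI hWn : ((bW 3 E).subgroupOf (normalizer ((bW 3 E) : Set G))).Normal :=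
      normal_subgroupOf_of_le_normalizer le_rfl
    have hEY : E ≤ normalizer (Y : Set G) := by
      intro e he
      refine CfsgLib.LocalEven.mem_normalizer_of_conj_le ?_
      rw [hY, Subgroup.map_sup]
      refine sup_le ?_ ((mem_normalizer_iff_map_conj_eq.1 (hEW he)).le.trans le_sup_right)
      rw [map_commutator, commutator_le]
      rintro _ ⟨q, hq, rfl⟩ _ ⟨b, hb, rfl⟩
      obtain ⟨i, rfl⟩ := mem_zpowers_iff.1 hb
      set b := z ^ i with hb'
      have hbN : b ∈ normalizer (E : Set G) := zpow_mem hzN i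
      have hbU : b ∈ centralizer (bWE 3 E : Set G) := zpow_mem hzU i
      have h1 : ⁅e, b⁆ ∈ (pCoreOf 3 E) := by
        rw [← commutatorElement_inv]
        exact inv_mem (comm_mem_core R hE hbN hbU he)
      have hq' : e * q * e⁻¹ ∈ (pCoreOf 3 E) := (mem_normalizer_iff.1 (hEQ he) q).1 hq
      show ⁅e * q * e⁻¹, e * b * e⁻¹⁆ ∈ Y
      rw [show e * b * e⁻¹ = ⁅e, b⁆ * b by simp only [commutatorElement_def]; group,
        show ⁅e * q * e⁻¹, ⁅e, b⁆ * b⁆ = ⁅e * q * e⁻¹, ⁅e, b⁆⁆ * (⁅e, b⁆ * ⁅e * q * e⁻¹, b⁆ * ⁅e, b⁆⁻¹) by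
          simp only [commutatorElement_def]; group]
      have h2 : ⁅e * q * e⁻¹, b⁆ ∈ ⁅(pCoreOf 3 E), zpowers z⁆ := commutator_mem_commutator hq' (zpow_mem (mem_zpowers z) i)
      have h3 : ⁅e * q * e⁻¹, b⁆ ∈ (pCoreOf 3 E) := hYQ (mem_sup_left h2)
      rw [show ⁅e, b⁆ * ⁅e * q * e⁻¹, b⁆ * ⁅e, b⁆⁻¹ = ⁅⁅e, b⁆, ⁅e * q * e⁻¹, b⁆⁆ * ⁅e * q * e⁻¹, b⁆ by
        simp only [commutatorElement_def]; group]
      exact mul_mem (mem_sup_right (hQQ _ hq' _ h1).1) (mul_mem (mem_sup_right (hQQ _ h1 _ h3).1) (mem_sup_left h2))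
    intro q hq
    rcases hx.irr Y le_sup_right hYQ hEY with h | h
    · rw [← commutatorElement_inv]
      exact inv_mem (h.le (mem_sup_left (commutator_mem_commutator hq (mem_zpowers z))))
    · exfalso
      have hzp : IsPGroup 3 ↥(zpowers z) := by
        intro y
        obtain ⟨i, hi⟩ := mem_zpowers_iff.1 y.2
        refine ⟨k, Subtype.ext ?_⟩
        rw [SubmonoidClass.coe_pow, ← hi, ← zpow_natCast, ← zpow_mul, mul_comm, zpow_mul, zpow_natCast, hk,
          one_zpow]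
        rfl
      have h1 : (pCoreOf 3 E) ≤ (bW 3 E) := le_of_le_commutator_sup hQp hzp hzQ hQW hzW h.ge
      obtain ⟨a, ha, b, hb, hab⟩ : ∃ a ∈ (pCoreOf 3 E), ∃ b ∈ (pCoreOf 3 E), ⁅a, b⁆ ≠ 1 := by
        by_contra hcon
        push Not at hcon
        have h2 : (bZ 3 E) = ⊥ := hx.derived.symm.trans (eq_bot_iff.2 (commutator_le.2 fun a ha b hb =>
          mem_bot.2 (hcon a ha b hb)))
        rw [h2, card_bot] at hZ3
        omega
      exact hab (commutatorElement_eq_one_iff_mul_comm.2 (core_comm ha (h1 hb)))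
  -- the centraliser of an element outside the module modulo the centre
  have hkerQ : ∀ z ∈ normalizer (E : Set G), z ∈ centralizer (bWE 3 E : Set G) → (∃ k, z ^ 3 ^ k = 1) →
      ∀ q₀ ∈ (pCoreOf 3 E), q₀ ∉ (bW 3 E) → ⁅z, q₀⁆ ∈ (bZ 3 E) → ∀ q ∈ (pCoreOf 3 E), ⁅z, q⁆ ∈ (bZ 3 E) := by
    intro z hzN hzU hzp q₀ hq₀ hq₀W hz₀
    have hwQ : ∀ q ∈ (pCoreOf 3 E), ∀ w ∈ (bW 3 E), Commute q w := fun q hq w hw => core_comm hq hw
    let Y : Subgroup G :=
      { carrier := {q | q ∈ (pCoreOf 3 E) ∧ ⁅z, q⁆ ∈ (bZ 3 E)}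
        one_mem' := ⟨one_mem (pCoreOf 3 E), by rw [commutatorElement_one_right]; exact one_mem (bZ 3 E)⟩
        mul_mem' := fun {a b} ha hb => ⟨mul_mem ha.1 hb.1, by
          rw [show ⁅z, a * b⁆ = ⁅z, a⁆ * (a * ⁅z, b⁆ * a⁻¹) by simp only [commutatorElement_def]; group,
            (hwQ a ha.1 _ hb.2.1).eq, mul_inv_cancel_right]
          exact mul_mem ha.2 hb.2⟩
        inv_mem' := fun {a} ha => ⟨inv_mem ha.1, by
          rw [show ⁅z, a⁻¹⁆ = a⁻¹ * ⁅z, a⁆⁻¹ * a by simp only [commutatorElement_def]; group,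
            (hwQ _ (inv_mem ha.1) _ (inv_mem ha.2.1)).eq, inv_mul_cancel_right]
          exact inv_mem ha.2⟩ }
    have hWY : (bW 3 E) ≤ Y := fun w hw => ⟨hWQ hw, by
      rw [commutatorElement_eq_one_iff_mul_comm.2 (hcentW z hzN hzU hzp w hw).eq]; exact one_mem (bZ 3 E)⟩
    have hEY : E ≤ normalizer (Y : Set G) := fun e he => CfsgLib.LocalEven.mem_normalizer_of_conj_le (by
      rintro _ ⟨q, ⟨hq, hqz⟩, rfl⟩
      have hq' : e * q * e⁻¹ ∈ (pCoreOf 3 E) := (mem_normalizer_iff.1 (hEQ he) q).1 hq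
      refine ⟨hq', ?_⟩
      show ⁅z, e * q * e⁻¹⁆ ∈ (bZ 3 E)
      set c := ⁅z, e⁆ with hc
      have hcQ : c ∈ (pCoreOf 3 E) := comm_mem_core R hE hzN hzU he
      have h1 : e * ⁅z, q⁆ * e⁻¹ ∈ (bZ 3 E) := (mem_normalizer_iff.1 (le_normalizer_bZ E he) _).1 hqz
      have h2 : c * (e * ⁅z, q⁆ * e⁻¹) * c⁻¹ = e * ⁅z, q⁆ * e⁻¹ := by
        rw [(hwQ c hcQ _ h1.1).eq, mul_inv_cancel_right]
      rw [show ⁅z, e * q * e⁻¹⁆ = c * (e * ⁅z, q⁆ * e⁻¹) * c⁻¹ * ⁅c, e * q * e⁻¹⁆ by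
        rw [hc]; simp only [commutatorElement_def]; group, h2]
      exact mul_mem h1 (hQQ c hcQ _ hq'))
    rcases hx.irr Y hWY (fun y hy => hy.1) hEY with h | h
    · exact absurd (h.le ⟨hq₀, hz₀⟩) hq₀W
    · exact fun q hq => (h.ge hq).2
  -- elements of order three
  obtain ⟨s, hs⟩ : ∃ s, Solv 3 E s := by
    rcases perf_or_solv hE with hp | hs
    · exfalso
      haveI := CfsgLib.Cores.pCore_characteristic (G := ↥E) 3
      obtain ⟨-, -, -, -, hc⟩ := id hE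
      rcases hc with ⟨F', _, _, m, hm, ⟨f⟩, hsec, -⟩ | ⟨h2, -⟩
      · have h1 := (irreducible_of_action hsec).2
        have h3 : Fintype.card F' = 3 := Nat.pow_left_injective (by norm_num) (h1.symm.trans hidx)
        have h4 := hp.2
        rw [Nat.card_congr f.toEquiv, SL3.card_commutator h3] at h4
        norm_num at h4
      · omega
    · exact hs
  have hexp : ∀ q ∈ (pCoreOf 3 E), q ^ 3 = 1 := by
    set i := s * s with hi
    have hiE : i ∈ E := hs.pow_data.1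
    have hinv : ∀ q ∈ (pCoreOf 3 E), i * q * i⁻¹ * q ∈ (bW 3 E) := by
      let π := QuotientGroup.mk' ((bW 3 E).subgroupOf (normalizer ((bW 3 E) : Set G)))
      haveI : ((bW 3 E).subgroupOf (normalizer ((bW 3 E) : Set G))).Normal := normal_subgroupOf_of_le_normalizer le_rfl
      let Y : Subgroup G :=
        { carrier := {q | q ∈ (pCoreOf 3 E) ∧ ⁅i, q⁆ ∈ (bW 3 E)}
          one_mem' := ⟨one_mem (pCoreOf 3 E), by rw [commutatorElement_one_right]; exact one_mem (bW 3 E)⟩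
          mul_mem' := fun {a b} ha hb => ⟨mul_mem ha.1 hb.1, by
            rw [show ⁅i, a * b⁆ = ⁅i, a⁆ * (a * ⁅i, b⁆ * a⁻¹) by simp only [commutatorElement_def]; group]
            exact mul_mem ha.2 ((mem_normalizer_iff.1 (hQW ha.1) _).1 hb.2)⟩
          inv_mem' := fun {a} ha => ⟨inv_mem ha.1, by
            rw [show ⁅i, a⁻¹⁆ = a⁻¹ * ⁅i, a⁆⁻¹ * a⁻¹⁻¹ by simp only [commutatorElement_def]; group]
            exact (mem_normalizer_iff.1 (hQW (inv_mem ha.1)) _).1 (inv_mem ha.2)⟩ }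
      have hWY : (bW 3 E) ≤ Y := fun w hw => ⟨hWQ hw, by
        rw [commutatorElement_def]; exact mul_mem ((mem_normalizer_iff.1 (hEW hiE) w).1 hw) (inv_mem hw)⟩
      have hEY : E ≤ normalizer (Y : Set G) := fun e he => CfsgLib.LocalEven.mem_normalizer_of_conj_le (by
        rintro _ ⟨q, ⟨hq, hqz⟩, rfl⟩
        have hq' : e * q * e⁻¹ ∈ (pCoreOf 3 E) := (mem_normalizer_iff.1 (hEQ he) q).1 hq
        refine ⟨hq', ?_⟩
        show ⁅i, e * q * e⁻¹⁆ ∈ (bW 3 E)
        have hc : ⁅i, e⁆ ∈ (pCoreOf 3 E) := by rw [← commutatorElement_inv]; exact inv_mem (hs.central e he)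
        set c := ⁅i, e⁆ with hc'
        have h1 : e * ⁅i, q⁆ * e⁻¹ ∈ (bW 3 E) := (mem_normalizer_iff.1 (hEW he) _).1 hqz
        rw [show ⁅i, e * q * e⁻¹⁆ = c * (e * ⁅i, q⁆ * e⁻¹) * c⁻¹ * ⁅c, e * q * e⁻¹⁆ by
          rw [hc']; simp only [commutatorElement_def]; group]
        exact mul_mem ((mem_normalizer_iff.1 (hQW hc) _).1 h1) (hQQ c hc _ hq').1)
      have hYW : Y = (bW 3 E) := by
        refine (hx.irr Y hWY (fun y hy => hy.1) hEY).resolve_right fun h => hs.notQ (hx.free i hiE fun q hq => ?_)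
        rw [← commutatorElement_inv]
        exact inv_mem (h.ge hq).2
      intro q hq
      have hiq : i * q * i⁻¹ ∈ (pCoreOf 3 E) := (mem_normalizer_iff.1 (hEQ hiE) q).1 hq
      refine hYW.le ⟨mul_mem hiq hq, ?_⟩
      -- the product is fixed by `i` modulo `(bW 3 E)`
      have hq2 : i * (i * q * i⁻¹) * i⁻¹ * q⁻¹ ∈ (bZ 3 E) := by
        have h1 : ⁅i * i, q⁆ ∈ (bZ 3 E) := hQQ _ (hs.inv2 rfl) q hq
        convert h1 using 1
        simp only [commutatorElement_def]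
        group
      have e1 : ⁅i, i * q * i⁻¹ * q⁆ = (i * (i * q * i⁻¹) * i⁻¹ * q⁻¹) *
          ⁅q, i * q * i⁻¹⁆ := by
        simp only [commutatorElement_def]; group
      rw [e1]
      exact mul_mem hq2.1 (hQQ q hq _ hiq).1
    intro q hq
    have h3 : q ^ 3 ∈ (bZ 3 E) := by
      rw [show q ^ 3 = (q ^ 3 : G) from rfl, ← hx.frat]
      refine ⟨(⟨q, hq⟩ : ↥(pCoreOf 3 E)) ^ 3, ?_, rfl⟩
      exact CfsgLib.PGroup.pow_mem_frattini hQp _
    set w := i * q * i⁻¹ * q with hw'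
    have hw : w ∈ (bW 3 E) := hinv q hq
    have hwq : Commute q⁻¹ w := core_comm (inv_mem hq) hw
    have hw3 : w ^ 3 = 1 := (Oz.elemAb (p := 3) (pCoreOf 3 E)).2 w hw
    have hcj : i * q * i⁻¹ = w * q⁻¹ := by rw [hw', mul_inv_cancel_right]
    have h4 : (q ^ 3)⁻¹ = q ^ 3 := by
      have hiZ : Commute i (q ^ 3) := (mem_centralizer_iff.1 h3.2 i hiE)
      have h5 : (i * q * i⁻¹) ^ 3 = q ^ 3 := by
        rw [conj_pow, hiZ.eq, mul_inv_cancel_right]
      rw [hcj, hwq.symm.mul_pow, hw3, one_mul, inv_pow] at h5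
      exact h5
    have h6 : (q ^ 3) * (q ^ 3) = 1 := by nth_rewrite 1 [← h4]; exact inv_mul_cancel _
    have h7 : (q ^ 3) ^ 3 = 1 := (Oz.elemAb (p := 3) (pCoreOf 3 E)).2 _ h3.1
    calc q ^ 3 = (q ^ 3) ^ 3 * ((q ^ 3) * (q ^ 3))⁻¹ := by group
      _ = 1 := by rw [h7, h6, inv_one, mul_one]
  -- a maximal elementary abelian subgroup centralising the module
  obtain ⟨hA₁, hA₁T⟩ := exists_centralizing_maxEA hE hG ra hA hAT hfull hfix
  set A₁ := A ⊓ centralizer (bWE 3 E : Set G) ⊔ bWE 3 E with hA₁def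
  have hA₁N : A₁ ≤ normalizer (E : Set G) ⊓
      centralizer (bWE 3 E : Set G) := le_inf
    (sup_le ((inf_le_left.trans hAB).trans hBN) (((bWE_le E).trans (bW_le E)).trans le_normalizer))
    (sup_le inf_le_right fun u hu => mem_centralizer_iff.2 fun u' hu' => bW_comm (bWE_le E hu') (bWE_le E hu))
  -- the element `q'`
  obtain ⟨a, ha, haa⟩ := hfull 1
  have haN : a ∈ normalizer (E : Set G) := hBN (hAB ha)
  obtain ⟨q₀, hq₀, hq₁⟩ : ∃ q₀ ∈ (pCoreOf 3 E), ⁅q₀, a⁆ ∉ (bW 3 E) := by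
    by_contra hcon
    push Not at hcon
    -- then `a` commutes with the image of `E`
    have hcomm : ∀ e ∈ E, R.rho (a * e * a⁻¹) = R.rho e := by
      intro e he
      have he' : a * e * a⁻¹ ∈ E := (mem_normalizer_iff.1 haN e).1 he
      have h1 : a * e * a⁻¹ * e⁻¹ ∈ (pCoreOf 3 E) := hx.free _ (mul_mem he' (inv_mem he)) fun q hq => by
        have hq' : e⁻¹ * q * e ∈ (pCoreOf 3 E) := by simpa using (mem_normalizer_iff.1 (hEQ (inv_mem he)) q).1 hq
        have hq'' : a⁻¹ * (e⁻¹ * q * e) * a ∈ (pCoreOf 3 E) := by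
          simpa using (mem_normalizer_iff.1 (Block.normalizer_le_pCoreOf E (inv_mem haN)) _).1 hq'
        haveI : ((bW 3 E).subgroupOf (normalizer ((bW 3 E) : Set G))).Normal := normal_subgroupOf_of_le_normalizer le_rfl
        set π := QuotientGroup.mk' ((bW 3 E).subgroupOf (normalizer ((bW 3 E) : Set G))) with hπ
        have hmk : ∀ y : ↥(normalizer ((bW 3 E) : Set G)), π y = 1 ↔ (y : G) ∈ (bW 3 E) := fun y => QuotientGroup.eq_one_iff y
        set A' : ↥(normalizer ((bW 3 E) : Set G)) := ⟨a, normalizer_le_bW E haN⟩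
        set E' : ↥(normalizer ((bW 3 E) : Set G)) := ⟨e, hEW he⟩
        have hc : ∀ y : ↥(normalizer ((bW 3 E) : Set G)), (y : G) ∈ (pCoreOf 3 E) → Commute (π y) (π A') := fun y hy => by
          rw [commute_iff_eq, ← commutatorElement_eq_one_iff_mul_comm, ← map_commutatorElement, hmk]
          exact hcon _ hy
        set Y' : ↥(normalizer ((bW 3 E) : Set G)) := ⟨q, hQW hq⟩
        have k1 := hc Y' hq
        have k2 : Commute (π (E'⁻¹ * Y' * E')) (π A') := hc _ hq'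
        have hgoal : π ⁅Y', A' * E' * A'⁻¹ * E'⁻¹⁆ = 1 := by
          simp only [map_commutatorElement, map_mul, map_inv] at k2 ⊢
          rw [commutatorElement_eq_one_iff_mul_comm]
          set x := π Y'
          set α := π A'
          set ε := π E'
          have k3 : Commute (ε⁻¹ * x * ε) α⁻¹ := k2.inv_right
          calc x * (α * ε * α⁻¹ * ε⁻¹) = α * x * ε * α⁻¹ * ε⁻¹ := by rw [← mul_assoc, ← mul_assoc, ← mul_assoc, k1.eq]
            _ = α * ε * ((ε⁻¹ * x * ε) * α⁻¹) * ε⁻¹ := by group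
            _ = α * ε * (α⁻¹ * (ε⁻¹ * x * ε)) * ε⁻¹ := by rw [k3.eq]
            _ = _ := by group
        exact (hmk _).1 hgoal
      have h2 := (R.rho_eq_one _ (mul_mem he' (inv_mem he))).2 h1
      rwa [R.rho_mul _ he' _ (inv_mem he), R.rho_inv he, mul_inv_eq_one] at h2
    have hline : ∀ e ∈ E, ∃ y : K, Lin.act (R.rho e) v = y • v := by
      intro e he
      obtain ⟨x, hx0⟩ := exists_dt_ne ra.ne
      obtain ⟨w, hw, hwx⟩ := R.vec_surj x
      have h1 : R.vec ((a * e * a⁻¹) * (a * w * a⁻¹) * (a * e * a⁻¹)⁻¹) = R.vec (a * (e * w * e⁻¹) * a⁻¹) := by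
        congr 1; group
      rw [R.vec_conj _ ((mem_normalizer_iff.1 haN e).1 he) _ (conj_mem_bW_of haN hw), haa w hw, hcomm e he,
        haa _ (conj_mem_bW_of (le_normalizer he) hw), R.vec_conj e he w hw, hwx] at h1
      rw [Lin.act, Matrix.mulVec_add, Matrix.mulVec_smul, add_right_inj, one_mul, one_mul] at h1
      refine ⟨(dt v x)⁻¹ * dt v (Lin.act (R.rho e) x), ?_⟩
      rw [mul_smul]
      exact (eq_inv_smul_iff₀ hx0).2 h1
    let N : AddSubgroup (Fin 2 → K) :=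
      { carrier := {x | ∃ y : K, x = y • v}
        add_mem' := fun {x x'} ⟨y, hy⟩ ⟨y', hy'⟩ => ⟨y + y', by rw [hy, hy', add_smul]⟩
        zero_mem' := ⟨0, (zero_smul K v).symm⟩
        neg_mem' := fun {x} ⟨y, hy⟩ => ⟨-y, by rw [hy, neg_smul]⟩ }
    rcases BlockModule.irreducible_sl2 N (fun r hr x hxN => by
      obtain ⟨e, he, rfl⟩ := R.rho_surj r hr
      obtain ⟨y, rfl⟩ := hxN
      obtain ⟨y', hy'⟩ := hline e he
      rw [Lin.act] at hy'
      exact ⟨y * y', by rw [Matrix.mulVec_smul, hy', smul_smul]⟩) with h | h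
    · exact ra.ne (AddSubgroup.mem_bot.1 (h.le (⟨1, (one_smul K v).symm⟩ : v ∈ N)))
    · obtain ⟨x, hx0⟩ := exists_dt_ne ra.ne
      obtain ⟨y, rfl⟩ := h.ge (AddSubgroup.mem_top x)
      rw [dt_smul_right, dt_self, mul_zero] at hx0
      exact hx0 rfl
  set q' := ⁅q₀, a⁆ with hq'def
  have hq'Q : q' ∈ (pCoreOf 3 E) := by
    rw [hq'def, commutatorElement_def, mul_assoc, mul_assoc, ← mul_assoc a]
    exact mul_mem hq₀ ((mem_normalizer_iff.1 (Block.normalizer_le_pCoreOf E haN) _).1 (inv_mem hq₀))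
  -- a maximal subgroup containing `q'`
  have hfin : ∀ (M : Subgroup G), M ∈ maxElementaryAbelianSubgroups 3 G →
      M ≤ normalizer (E : Set G) ⊓ centralizer (bWE 3 E : Set G) → M ≤ (pCoreOf 3 E) ⊔ baumannSubgroupOf 3 (T : Subgroup G) →
      ∀ q ∈ (pCoreOf 3 E), ∀ Λ : Subgroup G, Nat.card ↥Λ ≤ 3 → (∀ m ∈ M, ⁅m, q⁆ ∈ Λ) → Λ ≤ (bW 3 E) →
        ∃ M' ∈ maxElementaryAbelianSubgroups 3 G, q ∈ M' ∧ M' ≤ normalizer (E : Set G) ⊓
          centralizer (bWE 3 E : Set G) ∧ M' ≤ (pCoreOf 3 E) ⊔ baumannSubgroupOf 3 (T : Subgroup G) ∧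
          ∀ m ∈ M', Commute m q := by
    intro M hM hMN hMQ q hq Λ hΛ hMΛ hΛW
    set C := M ⊓ centralizer ({q} : Set G) with hC
    have hCq : ∀ x ∈ C, Commute x q := fun x hx' => mem_centralizer_singleton_iff.1 hx'.2
    by_cases hqM : q ∈ M
    · exact ⟨M, hM, hqM, hMN, hMQ, fun m hm => CfsgLib.PGroup.elemAb_comm hM.1 hm hqM⟩
    have hqE : IsElementaryAbelian 3 (zpowers q) := CfsgLib.PGroup.isElementaryAbelian_mk
      (fun x hx' y hy => by
        obtain ⟨i, rfl⟩ := mem_zpowers_iff.1 hx'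
        obtain ⟨j, rfl⟩ := mem_zpowers_iff.1 hy
        exact (Commute.zpow_zpow_self _ i j).eq)
      fun x hx' => by
        obtain ⟨i, rfl⟩ := mem_zpowers_iff.1 hx'
        rw [← zpow_natCast, ← zpow_mul, mul_comm, zpow_mul, zpow_natCast, hexp q hq, one_zpow]
    have hel : IsElementaryAbelian 3 (C ⊔ zpowers q) := BlockBaumann.elemAb_sup
      (CfsgLib.PGroup.elemAb_mono hM.1 inf_le_left) hqE fun x hx' y hy => by
        obtain ⟨i, rfl⟩ := mem_zpowers_iff.1 hy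
        exact ((hCq x hx').zpow_right i).eq
    have hcard : Nat.card ↥M ≤ 3 * Nat.card ↥C := by
      rw [Subgroup.card_eq_card_quotient_mul_card_subgroup (C.subgroupOf M),
        Nat.card_congr (subgroupOfEquivOfLe (show C ≤ M from inf_le_left)).toEquiv]
      refine Nat.mul_le_mul_right _ (le_trans ?_ hΛ)
      have hcent : ∀ m ∈ M, ∀ l ∈ Λ, Commute m l := fun m hm l hl => by
        obtain ⟨k, hk⟩ : ∃ k, m ^ 3 ^ k = 1 := ⟨1, by rw [pow_one]; exact hM.1.2 m hm⟩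
        exact hcentW m (hMN hm).1 (hMN hm).2 ⟨k, hk⟩ l (hΛW hl)
      let φ : ↥M →* ↥Λ := MonoidHom.mk' (fun m => ⟨⁅(m : G), q⁆, hMΛ m m.2⟩) fun x y => Subtype.ext (by
        show ⁅(x : G) * y, q⁆ = ⁅(x : G), q⁆ * ⁅(y : G), q⁆
        rw [show ⁅(x : G) * y, q⁆ = x * ⁅(y : G), q⁆ * (x : G)⁻¹ * ⁅(x : G), q⁆ by
          simp only [commutatorElement_def]; group,
          (hcent x x.2 _ (hMΛ y y.2)).eq, mul_inv_cancel_right]
        exact (bW_comm (hΛW (hMΛ x x.2)) (hΛW (hMΛ y y.2))).symm)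
      have hker : φ.ker = C.subgroupOf M := by
        ext m
        rw [MonoidHom.mem_ker, mem_subgroupOf, hC, Subgroup.mem_inf, mem_centralizer_singleton_iff,
          ← commutatorElement_eq_one_iff_mul_comm, Subtype.ext_iff]
        exact ⟨fun h => ⟨m.2, h⟩, fun h => h.2⟩
      rw [← hker, Nat.card_congr (QuotientGroup.quotientKerEquivRange φ).toEquiv]
      exact Subgroup.card_le_card_group _
    have hq3 : Nat.card ↥(zpowers q) = 3 := by
      rw [Nat.card_zpowers]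
      haveI : Fact (Nat.Prime 3) := ⟨Nat.prime_three⟩
      exact orderOf_eq_prime (hexp q hq) fun h => hqM (h ▸ one_mem M)
    have hdis : Nat.card ↥(C ⊓ zpowers q : Subgroup G) = 1 := by
      rw [card_eq_one, eq_bot_iff]
      rintro x ⟨hxC, hxq⟩
      rw [mem_bot]
      by_contra hx1
      haveI : Fact (Nat.Prime 3) := ⟨Nat.prime_three⟩
      obtain ⟨i, hi⟩ := mem_powers_of_prime_card (g := (⟨x, hxq⟩ : ↥(zpowers q))) (g' := ⟨q, mem_zpowers q⟩) hq3
        (fun h => hx1 (congrArg Subtype.val h))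
      have e : x ^ i = q := congrArg Subtype.val hi
      exact hqM (e ▸ pow_mem hxC.1 i)
    refine ⟨C ⊔ zpowers q, ⟨hel, fun X hX => (hM.2 X hX).trans (hcard.trans ?_)⟩,
      mem_sup_right (mem_zpowers q), sup_le (inf_le_left.trans hMN) (zpowers_le.2 ?_),
      sup_le (inf_le_left.trans hMQ) (zpowers_le.2 (mem_sup_left hq)),
      fun m hm => CfsgLib.PGroup.elemAb_comm hel hm (mem_sup_right (mem_zpowers q))⟩
    · have h1 := CfsgLib.PGroup.card_mul_card_le_sup_inf C (zpowers q)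
      rw [hq3, hdis, mul_one, mul_comm] at h1
      exact h1
    · exact ⟨le_normalizer (hQE hq), mem_centralizer_iff.2 fun u hu => (core_comm hq (bWE_le E hu)).symm⟩
  -- `q'` lies in such a subgroup
  have hBW : ∀ x ∈ baumannSubgroupOf 3 (T : Subgroup G), ∃ k, x ^ 3 ^ k = 1 := fun x hx' =>
    hpel x (Baumann.baumann_le _ hx')
  let D : ↥(bW 3 E) →* ↥(bW 3 E) := MonoidHom.mk' (fun w => ⟨⁅(w : G), a⁆, by
      rw [commutatorElement_def, mul_assoc, mul_assoc, ← mul_assoc a]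
      exact mul_mem w.2 (conj_mem_bW_of haN (inv_mem w.2))⟩) fun x y => Subtype.ext (by
    show ⁅(x : G) * y, a⁆ = ⁅(x : G), a⁆ * ⁅(y : G), a⁆
    have hy : ⁅(y : G), a⁆ ∈ (bW 3 E) := by
      rw [commutatorElement_def, mul_assoc, mul_assoc, ← mul_assoc a]
      exact mul_mem y.2 (conj_mem_bW_of haN (inv_mem y.2))
    have hx' : ⁅(x : G), a⁆ ∈ (bW 3 E) := by
      rw [commutatorElement_def, mul_assoc, mul_assoc, ← mul_assoc a]
      exact mul_mem x.2 (conj_mem_bW_of haN (inv_mem x.2))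
    rw [show ⁅(x : G) * y, a⁆ = x * ⁅(y : G), a⁆ * (x : G)⁻¹ * ⁅(x : G), a⁆ by
      simp only [commutatorElement_def]; group, bW_comm x.2 hy, mul_inv_cancel_right, bW_comm hy hx'])
  set Λ := D.range.map (bW 3 E).subtype with hΛdef
  have hΛcard : Nat.card ↥Λ ≤ 3 := by
    rw [hΛdef, card_map_of_injective (bW 3 E).subtype_injective]
    refine le_trans ?_ (Nat.card_eq_fintype_card.trans hK).le
    choose w hw using fun l : ↥D.range => l.2
    refine Nat.card_le_card_of_injective (fun l => dt v (R.vec (w l : G))) fun l l' h => ?_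
    rw [← sub_eq_zero] at h
    have h1 : dt v (R.vec ((w l : G) * (w l' : G)⁻¹)) = 0 := by
      rw [R.vec_mul _ (w l).2 _ (inv_mem (w l').2), R.vec_inv (w l').2]
      simp only [dt, Pi.add_apply, Pi.neg_apply] at h ⊢
      linear_combination h
    obtain ⟨u, hu, y, hy, huy⟩ := exists_mul_of_sup (bWE_le E)
      ((bWE_sup hE).ge (mul_mem (w l).2 (inv_mem (w l').2)))
    obtain ⟨c, hc⟩ := parallel ra.ne h1
    have hvu : R.vec u = c • v := by
      rw [← hc, huy, R.vec_mul u (bWE_le E hu) y hy.1, (R.vec_eq_zero y hy.1).2 hy, add_zero]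
    have hcu : Commute a u := ra.line u hu ⟨c, hvu⟩ a (hAB ha)
    obtain ⟨k, hk⟩ := hBW a (hAB ha)
    have hcy : Commute a y := commute_of_card_three hZ3 (normalizer_le_bZ E haN) hk hy
    have hker : w l * (w l')⁻¹ ∈ D.ker := by
      rw [MonoidHom.mem_ker]
      refine Subtype.ext ?_
      show ⁅(w l : G) * (w l' : G)⁻¹, a⁆ = 1
      rw [huy, commutatorElement_eq_one_iff_mul_comm]
      exact (hcu.mul_right hcy).eq.symm
    refine Subtype.ext ?_
    rw [← hw l, ← hw l']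
    rw [MonoidHom.mem_ker, map_mul, map_inv, mul_inv_eq_one] at hker
    exact hker
  have hΛW : Λ ≤ (bW 3 E) := map_subtype_le _
  have hA₁Q : A₁ ≤ (pCoreOf 3 E) ⊔ baumannSubgroupOf 3 (T : Subgroup G) :=
    sup_le ((inf_le_left.trans hAB).trans le_sup_right) (((bWE_le E).trans hWQ).trans le_sup_left)
  have hmem₁ : ∀ m ∈ A₁, ⁅m, q'⁆ ∈ Λ := by
    let Ym : Subgroup G :=
      { carrier := {m | m ∈ A₁ ∧ ⁅m, q'⁆ ∈ Λ}
        one_mem' := ⟨one_mem _, by rw [commutatorElement_one_left]; exact one_mem _⟩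
        mul_mem' := fun {x y} hx' hy => ⟨mul_mem hx'.1 hy.1, by
          rw [show ⁅x * y, q'⁆ = x * ⁅y, q'⁆ * x⁻¹ * ⁅x, q'⁆ by simp only [commutatorElement_def]; group]
          have hc : Commute x ⁅y, q'⁆ := hcentW x (hA₁N hx'.1).1 (hA₁N hx'.1).2
            ⟨1, by rw [pow_one]; exact hA₁.1.2 x hx'.1⟩ _ (hΛW hy.2)
          rw [hc.eq, mul_inv_cancel_right]
          exact mul_mem hy.2 hx'.2⟩
        inv_mem' := fun {x} hx' => ⟨inv_mem hx'.1, by
          have hc : Commute x⁻¹ ⁅x, q'⁆⁻¹ := hcentW x⁻¹ (hA₁N (inv_mem hx'.1)).1 (hA₁N (inv_mem hx'.1)).2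
            ⟨1, by rw [pow_one]; exact hA₁.1.2 _ (inv_mem hx'.1)⟩ _ (hΛW (inv_mem hx'.2))
          rw [show ⁅x⁻¹, q'⁆ = x⁻¹ * ⁅x, q'⁆⁻¹ * x by simp only [commutatorElement_def]; group, hc.eq,
            inv_mul_cancel_right]
          exact inv_mem hx'.2⟩ }
    suffices hle : A₁ ≤ Ym from fun m hm => (hle hm).2
    refine sup_le (fun x hx' => ⟨mem_sup_left hx', ?_⟩) (fun u hu => ⟨mem_sup_right hu, ?_⟩)
    · have hxa : Commute x a := CfsgLib.PGroup.elemAb_comm hA.1 hx'.1 ha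
      have hxN : x ∈ normalizer (E : Set G) := hBN (hAB hx'.1)
      have hφq : ⁅x, q₀⁆ ∈ (bW 3 E) := hφ x hxN hx'.2 ⟨1, by rw [pow_one]; exact hA.1.2 x hx'.1⟩ q₀ hq₀
      refine ⟨D ⟨_, hφq⟩, ⟨_, rfl⟩, ?_⟩
      show ⁅⁅x, q₀⁆, a⁆ = ⁅x, q'⁆
      set φq := ⁅x, q₀⁆ with hφq'
      have h1 : x * q' * x⁻¹ = ⁅φq * q₀, a⁆ := by
        rw [hq'def, show φq * q₀ = x * q₀ * x⁻¹ by rw [hφq', commutatorElement_def, inv_mul_cancel_right]]
        conv_rhs => rw [show a = x * a * x⁻¹ by rw [hxa.eq, mul_inv_cancel_right]]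
        simp only [commutatorElement_def]; group
      have hφa : ⁅φq, a⁆ ∈ (bW 3 E) := (D ⟨_, hφq⟩).2
      calc ⁅φq, a⁆ = φq * q' * φq⁻¹ * ⁅φq, a⁆ * q'⁻¹ := by
            rw [← (show Commute q' φq from core_comm hq'Q hφq).eq, mul_inv_cancel_right,
              (show Commute q' ⁅φq, a⁆ from core_comm hq'Q hφa).eq, mul_inv_cancel_right]
        _ = ⁅φq * q₀, a⁆ * q'⁻¹ := by rw [hq'def]; simp only [commutatorElement_def]; group
        _ = ⁅x, q'⁆ := by rw [← h1, commutatorElement_def]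
    · rw [commutatorElement_eq_one_iff_mul_comm.2 (core_comm hq'Q (bWE_le E hu)).symm]
      exact one_mem _
  obtain ⟨A', hA', hq'A', hA'N, hA'Q, hA'q⟩ := hfin A₁ hA₁ hA₁N hA₁Q q' hq'Q Λ hΛcard hmem₁ hΛW
  have hA'Z : ∀ m ∈ A', ∀ q ∈ (pCoreOf 3 E), ⁅m, q⁆ ∈ (bZ 3 E) := fun m hm => hkerQ m (hA'N hm).1 (hA'N hm).2
    ⟨1, by rw [pow_one]; exact hA'.1.2 m hm⟩ q' hq'Q hq₁
    (by rw [commutatorElement_eq_one_iff_mul_comm.2 (hA'q m hm).eq]; exact one_mem (bZ 3 E))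
  -- every element of the core lies in a maximal subgroup inside a Sylow subgroup above `B(T)`
  obtain ⟨T', hT'⟩ := ((rootPart_isPGroup hn).to_sup_of_normal_left' (T.2.to_le (Baumann.baumann_le _))
    (baumann_le_normalizer_rootPart hE ra hg) :
      IsPGroup 3 ↥(rootPart R g ⊔ baumannSubgroupOf 3 (T : Subgroup G))).exists_le_sylow
  rw [hroot] at hT' ⊢
  have hBT' : baumannSubgroupOf 3 (T : Subgroup G) ≤ (T' : Subgroup G) := le_sup_right.trans hT'
  intro q hq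
  obtain ⟨M, hM, hqM, -, hMQ, -⟩ := hfin A' hA' hA'N hA'Q q hq (bZ 3 E) hZ3.le (fun m hm => hA'Z m hm q hq) inf_le_left
  rw [← Baumann.baumann_eq_of_le hBT']
  exact Baumann.thompson_le_baumann _ (CfsgLib.Transfer.le_thompsonSubgroupOf hM (hMQ.trans hT') hqM)

end CfsgLib.LocalEven.CStar
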