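import Cfsg.Agent.Lib.LocalEven.CStar.Separate

/-!
The members with solvable top: `C*(G,T)` induces the centre on `E / O_p(E)`.
-/

set_option autoImplicit false

namespace CfsgLib.LocalEven.CStar

open Cfsg Subgroup
open CfsgLib.LocalEven CfsgLib.LocalEven.SubBlock
open scoped commutatorElement

/-- A fixed difference of coprime order vanishes. -/
theorem fix_of_coprime {Γ : Type*} [Group Γ] (α : Γ →* Γ) {m n : ℕ} (hm : ∀ x, (⇑α)^[m] x = x) {f : Γ}
    (hc : α (α f * f⁻¹) = α f * f⁻¹) (hn : (α f * f⁻¹) ^ n = 1) (hmn : m.Coprime n) : α f = f := by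
  set c := α f * f⁻¹ with hcd
  have hαf : α f = c * f := by rw [hcd, inv_mul_cancel_right]
  have hstep : ∀ i : ℕ, (⇑α)^[i] f = c ^ i * f := by
    intro i
    induction i with
    | zero => simp
    | succ i ih =>
      rw [Function.iterate_succ_apply', ih, map_mul, map_pow, hc, pow_succ, mul_assoc (c ^ i) c f, ← hαf]
  have h1 : c ^ m = 1 := by simpa [hm f] using (hstep m).symm
  have h2 : c = 1 := by
    have := pow_gcd_eq_one.2 ⟨h1, hn⟩
    rwa [hmn.gcd_eq_one, pow_one] at this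
  rwa [hcd, mul_inv_eq_one] at h2

section Quat
variable {Γ : Type*} [Group Γ]

theorem mem_center_quat {z : Γ} (hz1 : z ≠ 1) (hz : ∀ q, q * z = z * q) (hzz : z * z = 1)
    (h3 : ∀ q : Γ, q = 1 ∨ q = z ∨ q * q = z) (hnc : ∃ a b : Γ, a * b ≠ b * a) {c : Γ}
    (hc : c ∈ Subgroup.center Γ) : c = 1 ∨ c = z := by
  rcases h3 c with h | h | h
  · exact Or.inl h
  · exact Or.inr h
  exfalso
  have hcc := Subgroup.mem_center_iff.1 hc
  have hzc : z ∈ Subgroup.center Γ := Subgroup.mem_center_iff.2 hz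
  have hall : ∀ q : Γ, q ∈ Subgroup.center Γ := by
    intro q
    rcases h3 q with e | e | e
    · rw [e]; exact one_mem _
    · rw [e]; exact hzc
    · have h1 : (q * c) * (q * c) = 1 := by
        rw [show q * c * (q * c) = q * (c * q) * c by group, ← hcc q,
          show q * (q * c) * c = (q * q) * (c * c) by group, e, h, hzz]
      have h2 : q * c ∈ Subgroup.center Γ := by
        rcases h3 (q * c) with e' | e' | e'
        · rw [e']; exact one_mem _
        · rw [e']; exact hzc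
        · exact absurd (e'.symm.trans h1) hz1
      simpa using mul_mem h2 (inv_mem hc)
  obtain ⟨a, b, hab⟩ := hnc
  exact hab (Subgroup.mem_center_iff.1 (hall b) a)

end Quat

variable {G : Type*} [Group G] [Finite G] {p : ℕ} [Fact p.Prime] {T : Sylow p G} {E : Subgroup G}

/-- Conjugation on `E / O_p(E)`. -/
theorem exists_act {a : G} (ha : a ∈ normalizer (E : Set G)) :
    ∃ α : ↥E ⧸ pCore p ↥E →* ↥E ⧸ pCore p ↥E, Function.Injective α ∧
      (∀ (x : ↥E) (hx : a * (x : G) * a⁻¹ ∈ E), α (QuotientGroup.mk x) = QuotientGroup.mk ⟨_, hx⟩) ∧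
      ∀ m : ℕ, a ^ m = 1 → ∀ q, (⇑α)^[m] q = q := by
  haveI := CfsgLib.Cores.pCore_characteristic (G := ↥E) p
  let c : ↥E →* ↥E := MonoidHom.mk' (fun x => ⟨a * (x : G) * a⁻¹, (mem_normalizer_iff.1 ha x).1 x.2⟩)
    (fun x y => Subtype.ext (by simp [mul_assoc]))
  have hQ : a ∈ normalizer (pCoreOf p E : Set G) := Block.normalizer_le_pCoreOf E ha
  have hcQ : ∀ x, c x ∈ pCore p ↥E ↔ x ∈ pCore p ↥E := fun x => by
    rw [← QuotientGroup.eq_one_iff, ← QuotientGroup.eq_one_iff (N := pCore p ↥E), ← mem_core_iff, ← mem_core_iff]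
    exact ((mem_normalizer_iff.1 hQ x).symm)
  let α : ↥E ⧸ pCore p ↥E →* ↥E ⧸ pCore p ↥E :=
    QuotientGroup.map (pCore p ↥E) (pCore p ↥E) c (fun x hx => (hcQ x).2 hx)
  have hαc : ∀ x : ↥E, α (QuotientGroup.mk x) = QuotientGroup.mk (c x) := fun x => rfl
  refine ⟨α, ?_, fun x hx => rfl, fun m hm q => ?_⟩
  · refine (injective_iff_map_eq_one _).2 fun q hq => ?_
    induction q using QuotientGroup.induction_on with
    | H x =>
      exact (QuotientGroup.eq_one_iff x).2 ((hcQ x).1 ((QuotientGroup.eq_one_iff (c x)).1 ((hαc x).symm.trans hq)))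
  · induction q using QuotientGroup.induction_on with
    | H x =>
      have hit : ∀ i : ℕ, ∃ y : ↥E, (y : G) = a ^ i * (x : G) * (a ^ i)⁻¹ ∧
          (⇑α)^[i] (QuotientGroup.mk x) =
            QuotientGroup.mk y := by
        intro i
        induction i with
        | zero => exact ⟨x, by simp, rfl⟩
        | succ i ih =>
          obtain ⟨y, hy, hy'⟩ := ih
          refine ⟨c y, ?_, by rw [Function.iterate_succ_apply', hy', hαc]⟩
          show a * (y : G) * a⁻¹ = _
          rw [hy, pow_succ']; group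
      obtain ⟨y, hy, hy'⟩ := hit m
      rw [hm, one_mul, inv_one, mul_one] at hy
      rw [hy', Subtype.ext hy]

/-- A `p`-element trivial on `E / O_p(E)` centralises `W_E`. -/
theorem centralizes_of_trivial_top (hE : IsBaumannBlock p (T : Subgroup G) E) {s : G} (hs : Solv p E s) {a : G}
    (ha : a ∈ normalizer (E : Set G)) (hap : ∃ k : ℕ, a ^ p ^ k = 1)
    (htriv : ∀ x ∈ E, ⁅a, x⁆ ∈ pCoreOf p E) : a ∈ centralizer (bWE p E : Set G) := by
  have haW := normalizer_le_bWE (p := p) E ha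
  set Y := bWE p E ⊓ centralizer ({a} : Set G) with hY
  have hne : bWE p E ≠ ⊥ := fun h => bWE_not_le hE (h ▸ bot_le)
  have hYn : E ≤ normalizer (Y : Set G) := fun e he => CfsgLib.LocalEven.mem_normalizer_of_conj_le (by
    rintro _ ⟨y, hy, rfl⟩
    have h1 : e * y * e⁻¹ ∈ bWE p E := (mem_normalizer_iff.1 (le_normalizer_bWE E he) y).1 hy.1
    refine ⟨h1, mem_centralizer_singleton_iff.2 ?_⟩
    have h2 : a * y * a⁻¹ = y := by
      rw [← (mem_centralizer_singleton_iff.1 hy.2), mul_inv_cancel_right]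
    have h3 := core_comm (htriv e he) (bWE_le E h1)
    show e * y * e⁻¹ * a = a * (e * y * e⁻¹)
    calc e * y * e⁻¹ * a = ⁅a, e⁆ * (e * y * e⁻¹) * ⁅a, e⁆⁻¹ * a := by rw [h3, mul_inv_cancel_right]
      _ = (a * e * a⁻¹) * (a * y * a⁻¹)⁻¹⁻¹ * (a * e * a⁻¹)⁻¹ * a := by
          rw [h2, commutatorElement_def]; group
      _ = a * (e * y * e⁻¹) := by group)
  rcases hs.irr hE Y inf_le_left hYn with h | h
  · exact absurd h (inf_centralizer_singleton_ne_bot ((isPGroup_bW E).to_le (bWE_le E)) hne haW hap)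
  · exact mem_centralizer_iff.2 fun w hw => mem_centralizer_singleton_iff.1 (h.ge hw).2

section
variable (hG : centralizer (pCore p G : Set G) ≤ pCore p G)

theorem core_le_cStar (hEs : E.IsSubnormal) : pCoreOf p E ≤ cStarOf p (T : Subgroup G) :=
  ((core_le_pCore hEs).trans (CfsgLib.Cores.pCore_le_sylow T)).trans (sylow_le_cStar T)

/-- `C*(G,T) ∩ E` is inside `O_p(E)` when `|E/O_p(E)| = 3`. -/
theorem c3_le_core (hE : E ∈ members p (T : Subgroup G)) (h3 : Nat.card (↥E ⧸ pCore p ↥E) = 3) :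
    cStarOf p (T : Subgroup G) ⊓ E ≤ pCoreOf p E := by
  haveI := CfsgLib.Cores.pCore_characteristic (G := ↥E) p
  haveI : Fact (Nat.Prime 3) := ⟨Nat.prime_three⟩
  intro x hx
  by_contra hxQ
  refine hE.2.2 fun e he => ?_
  obtain ⟨k, hk⟩ := mem_powers_of_prime_card h3
    (g := (QuotientGroup.mk (⟨x, hx.2⟩ : ↥E) : ↥E ⧸ pCore p ↥E)) (g' := QuotientGroup.mk (⟨e, he⟩ : ↥E))
    (fun h => hxQ ((mem_core_iff ⟨x, hx.2⟩).2 h))
  simp only [← QuotientGroup.mk_pow] at hk
  rw [QuotientGroup.eq] at hk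
  have h1 : (x ^ k)⁻¹ * e ∈ cStarOf p (T : Subgroup G) := core_le_cStar hE.2.1 ⟨_, hk, by simp⟩
  simpa using mul_mem (pow_mem hx.1 k) h1

/-- The facts for `|E/O_p(E)| = 3`. -/
theorem c3_facts (hE : E ∈ members p (T : Subgroup G)) (hp : p = 2) (h3 : Nat.card (↥E ⧸ pCore p ↥E) = 3) :
    (p = 2 ∧ ∃ m : ℕ, Nonempty (↥E ⧸ pCore p ↥E ≃* ↥(alternatingGroup (Fin (2 * m + 1)))) ∧
      Nonempty (↥(((cStarOf p (T : Subgroup G) ⊓ E).subgroupOf E).map (QuotientGroup.mk' (pCore p ↥E))) ≃*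
        ↥(alternatingGroup (Fin (2 * m))))) := by
  haveI := CfsgLib.Cores.pCore_characteristic (G := ↥E) p
  haveI : Fact (Nat.Prime 3) := ⟨Nat.prime_three⟩
  have hA : Nat.card ↥(alternatingGroup (Fin (2 * 1 + 1))) = 3 := by
    haveI : Nontrivial (Fin (2 * 1 + 1)) := Fin.nontrivial_iff_two_le.2 (by omega)
    rw [nat_card_alternatingGroup, Nat.card_fin]; rfl
  have hbot : ((cStarOf p (T : Subgroup G) ⊓ E).subgroupOf E).map (QuotientGroup.mk' (pCore p ↥E)) = ⊥ := by
    rw [Subgroup.map_eq_bot_iff, QuotientGroup.ker_mk']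
    intro x hx
    exact (QuotientGroup.eq_one_iff x).1 ((mem_core_iff x).1 (c3_le_core hE h3 hx))
  haveI : Subsingleton ↥(alternatingGroup (Fin (2 * 1))) := by
    haveI : Nontrivial (Fin (2 * 1)) := Fin.nontrivial_iff_two_le.2 (by omega)
    refine (Nat.card_eq_one_iff_unique.1 ?_).1
    rw [nat_card_alternatingGroup, Nat.card_fin]; rfl
  haveI : Subsingleton ↥(⊥ : Subgroup (↥E ⧸ pCore p ↥E)) := inferInstance
  refine ⟨hp, 1, ⟨mulEquivOfPrimeCardEq h3 hA⟩, ⟨(MulEquiv.subgroupCongr hbot).trans ?_⟩⟩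
  exact { toFun := fun _ => 1, invFun := fun _ => 1, left_inv := fun _ => Subsingleton.elim _ _,
          right_inv := fun _ => Subsingleton.elim _ _, map_mul' := fun _ _ => Subsingleton.elim _ _ }

variable {K : Type} [Field K] [Fintype K]

/-- The quotient of a quaternion member. -/
theorem q8_quot {s : G} (hs : Solv p E s) (hp : p = 3) [(pCore p ↥E).Normal] :
    ∃ z : ↥E ⧸ pCore p ↥E, z ≠ 1 ∧ (∀ q, q * z = z * q) ∧ z * z = 1 ∧ (∀ q, q = 1 ∨ q = z ∨ q * q = z) ∧
      (∃ a b : ↥E ⧸ pCore p ↥E, a * b ≠ b * a) := by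
  haveI := CfsgLib.Cores.pCore_characteristic (G := ↥E) p
  set y : ↥E := ⟨s, hs.mem⟩ * ⟨s, hs.mem⟩ with hy
  refine ⟨QuotientGroup.mk y, fun h => hs.notQ ((mem_core_iff y).2 h), fun q => ?_, ?_, fun q => ?_, ?_⟩
  · induction q using QuotientGroup.induction_on with
    | H x =>
      have h := (mem_core_iff ⁅x, y⁆).1 (hs.central x x.2)
      rwa [← QuotientGroup.mk'_apply, map_commutatorElement, commutatorElement_eq_one_iff_mul_comm] at h
  · exact (mem_core_iff (y * y)).1 (hs.inv2 hp)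
  · induction q using QuotientGroup.induction_on with
    | H x =>
      rcases hs.quat hp x x.2 with h | h | h
      · exact Or.inl ((mem_core_iff x).1 h)
      · have h1 := (mem_core_iff (x * y⁻¹)).1 h
        rw [QuotientGroup.mk_mul, QuotientGroup.mk_inv, mul_inv_eq_one] at h1
        exact Or.inr (Or.inl h1)
      · have h1 := (mem_core_iff (x * x * y⁻¹)).1 h
        rw [QuotientGroup.mk_mul, QuotientGroup.mk_inv, mul_inv_eq_one, QuotientGroup.mk_mul] at h1
        exact Or.inr (Or.inr h1)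
  · obtain ⟨a, ha, b, hb, hab⟩ := hs.noncomm hp
    refine ⟨QuotientGroup.mk ⟨a, ha⟩, QuotientGroup.mk ⟨b, hb⟩, fun h => hab ?_⟩
    refine (mem_core_iff ⁅(⟨a, ha⟩ : ↥E), ⟨b, hb⟩⁆).2 ?_
    rwa [← QuotientGroup.mk'_apply, map_commutatorElement, commutatorElement_eq_one_iff_mul_comm]

include hG

/-- The facts for a quaternion member. -/
theorem q8_facts (hB : baumannSubgroupOf p (T : Subgroup G) ≠ ⊥) (hcov : Covered p (T : Subgroup G))
    (hbel : Below p (T : Subgroup G)) (hE : E ∈ members p (T : Subgroup G)) {s : G} (hs : Solv p E s)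
    (hp : p = 3) [(pCore p ↥E).Normal] :
    ((cStarOf p (T : Subgroup G) ⊓ E).subgroupOf E).map (QuotientGroup.mk' (pCore p ↥E)) =
      Subgroup.center (↥E ⧸ pCore p ↥E) := by
  classical
  haveI := CfsgLib.Cores.pCore_characteristic (G := ↥E) p
  haveI : (pCore p ↥E).Normal := inferInstance
  obtain ⟨z, hz1, hzc, hzz, h3, hnc⟩ := q8_quot hs hp
  set π := QuotientGroup.mk' (pCore p ↥E) with hπd
  have hπ : Function.Surjective π := QuotientGroup.mk'_surjective _
  set CS := cStarOf p (T : Subgroup G) with hCS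
  set D := ((Subgroup.center (↥E ⧸ pCore p ↥E)).comap π).map E.subtype with hD
  have hmemD : ∀ x : ↥E, (x : G) ∈ D ↔ π x ∈ Subgroup.center (↥E ⧸ pCore p ↥E) := fun x =>
    ⟨by rintro ⟨y, hy, hyx⟩; rwa [← Subtype.ext (show (y : G) = x from hyx)], fun h => ⟨x, h, rfl⟩⟩
  have hDE : D ≤ E := map_subtype_le _
  have hED : ¬ E ≤ D := fun h => by
    obtain ⟨a, b, hab⟩ := hnc
    obtain ⟨b', rfl⟩ := hπ b
    exact hab (Subgroup.mem_center_iff.1 ((hmemD b').1 (h b'.2)) a)
  have hno : ∀ F : Subgroup G, IsBaumannBlock p (T : Subgroup G) F → F ≤ D → (F.subgroupOf D).IsSubnormal → False := by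
    intro F hF hFD _
    have hFE : F ≤ E := hFD.trans hDE
    haveI := CfsgLib.Cores.pCore_characteristic (G := ↥F) p
    have hcore : pCoreOf p E ⊓ F ≤ pCoreOf p F := CfsgLib.LocalEven.le_pCoreOf inf_le_right
      ((CfsgLib.LocalEven.isPGroup_pCoreOf p E).to_le inf_le_left)
      ((le_inf (hFE.trans (le_normalizer.trans (Block.normalizer_le_pCoreOf E))) le_normalizer).trans
        (Baumann.normalizer_inf_le _ _))
    have htwo : Nat.card (↥F ⧸ pCore p ↥F) ≤ 2 := by
      let g : ↥F ⧸ pCore p ↥F → Bool := fun q => decide (q = 1)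
      have hg : Function.Injective g := by
        intro a b hab
        induction a using QuotientGroup.induction_on with
        | H x =>
          induction b using QuotientGroup.induction_on with
          | H y =>
            simp only [g, decide_eq_decide] at hab
            by_cases hx : (QuotientGroup.mk x : ↥F ⧸ pCore p ↥F) = 1
            · rw [hx, hab.1 hx]
            · have hy : (QuotientGroup.mk y : ↥F ⧸ pCore p ↥F) ≠ 1 := fun h => hx (hab.2 h)
              have key : ∀ w : ↥F, (QuotientGroup.mk w : ↥F ⧸ pCore p ↥F) ≠ 1 → π ⟨w, hFE w.2⟩ = z := by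
                intro w hw
                rcases mem_center_quat hz1 hzc hzz h3 hnc ((hmemD ⟨w, hFE w.2⟩).1 (hFD w.2)) with h | h
                · exact absurd ((mem_core_iff w).1 (hcore ⟨(mem_core_iff (⟨w, hFE w.2⟩ : ↥E)).2 h, w.2⟩)) hw
                · exact h
              have h1 : π ((⟨x, hFE x.2⟩ : ↥E)⁻¹ * ⟨y, hFE y.2⟩) = 1 := by
                rw [map_mul, map_inv, key x hx, key y hy, inv_mul_cancel]
              rw [QuotientGroup.eq]
              exact (QuotientGroup.eq_one_iff _).1 ((mem_core_iff (x⁻¹ * y)).1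
                (hcore ⟨(mem_core_iff ((⟨x, hFE x.2⟩ : ↥E)⁻¹ * (⟨y, hFE y.2⟩ : ↥E))).2 h1, (x⁻¹ * y).2⟩))
      exact (Nat.card_le_card_of_injective g hg).trans (le_of_eq (by simp))
    rcases perf_or_solv hF with hP | ⟨t, ht⟩
    · have := Nat.le_of_dvd Nat.card_pos hP.2
      omega
    · rcases ht.type with ⟨h, -⟩ | ⟨-, h⟩ <;> omega
  have hDCS : D ≤ CS := le_cStar_of_cap hG hB hcov hbel hE hDE
    (fun x hx => (hmemD ⟨x, hx.1⟩).2 (Subgroup.mem_center_iff.2 fun q => by
      obtain ⟨w, rfl⟩ := hπ q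
      rw [← map_mul, ← map_mul]
      exact congrArg π (Subtype.ext (mem_centralizer_iff.1 hx.2 (w : G) w.2))))
    hED
    (fun t ht htE => by
      rintro _ ⟨x, hxD, rfl⟩
      obtain ⟨α, hinj, hα, -⟩ := exists_act (p := p) htE
      have hxE : t * x * t⁻¹ ∈ E := (mem_normalizer_iff.1 htE x).1 (hDE hxD)
      refine (hmemD ⟨_, hxE⟩).2 (Subgroup.mem_center_iff.2 fun q => ?_)
      obtain ⟨q', rfl⟩ := Finite.injective_iff_surjective.1 hinj q
      show α q' * QuotientGroup.mk ⟨_, hxE⟩ = QuotientGroup.mk ⟨_, hxE⟩ * α q'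
      rw [← hα ⟨x, hDE hxD⟩ hxE, ← map_mul, ← map_mul]
      exact congrArg α (Subgroup.mem_center_iff.1 ((hmemD ⟨x, hDE hxD⟩).1 hxD) q'))
    hno
  set X := (CS ⊓ E).subgroupOf E with hX
  set Xb := X.map π with hXb
  refine le_antisymm ?_ ?_
  swap
  · intro q hq
    obtain ⟨x, rfl⟩ := hπ q
    exact mem_map_of_mem _ (show x ∈ X from ⟨hDCS ((hmemD x).2 hq), x.2⟩)
  intro q hq
  by_contra hqc
  have hker : π.ker ≤ X := by
    rw [QuotientGroup.ker_mk']
    intro x hx
    exact ⟨core_le_cStar hE.2.1 ((mem_core_iff x).2 ((QuotientGroup.eq_one_iff x).2 hx)), x.2⟩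
  have hXne : X ≠ ⊤ := fun h => hE.2.2 ((subgroupOf_eq_top.1 h).trans inf_le_left)
  have hz : z ∈ Subgroup.center (↥E ⧸ pCore p ↥E) := Subgroup.mem_center_iff.2 hzc
  have hzX : z ∈ Xb := by
    obtain ⟨x, rfl⟩ := hπ z
    exact mem_map_of_mem _ (show x ∈ X from ⟨hDCS ((hmemD x).2 hz), x.2⟩)
  have hidx : X.index = 2 := by
    have e : Xb.index = X.index := by
      rw [← index_comap_of_surjective Xb hπ, hXb, comap_map_eq_self hker]
    have h8 : Nat.card (↥E ⧸ pCore p ↥E) = 8 := by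
      rcases hs.type with ⟨h, -⟩ | ⟨-, h⟩
      · omega
      · exact h
    have hge : 3 ≤ Nat.card ↥Xb := by
      let g : Fin 3 → ↥Xb := ![1, ⟨z, hzX⟩, ⟨q, hq⟩]
      have hq1 : q ≠ 1 := fun h => hqc (h ▸ one_mem _)
      have hqz : q ≠ z := fun h => hqc (h ▸ hz)
      have hg : Function.Injective g := by
        intro i j hij
        fin_cases i <;> fin_cases j <;> simp [g, Subtype.ext_iff, hz1, hz1.symm, hq1, hq1.symm, hqz, hqz.symm] at hij ⊢
      simpa using Nat.card_le_card_of_injective g hg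
    have hmul := Xb.card_mul_index
    rw [h8, e] at hmul
    have h1 : X.index ≠ 1 := fun h => hXne (index_eq_one.1 h)
    have h2 : X.index ≠ 0 := index_ne_zero_of_finite
    have h3' : X.index ≤ 2 := by nlinarith
    omega
  have hBN : baumannSubgroupOf p (T : Subgroup G) ≤ normalizer (E : Set G) := Block.baumann_le_normalizer hE.1
  have hcomm : ⁅E, baumannSubgroupOf p (T : Subgroup G)⁆ ≤ CS ⊓ E := commutator_le.2 fun x hx b hb => by
    have hbC : b ∈ CS := sylow_le_cStar T (Baumann.baumann_le _ hb)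
    have hy : b * x⁻¹ * b⁻¹ ∈ E := (mem_normalizer_iff.1 (hBN hb) x⁻¹).1 (inv_mem hx)
    have hyX : (⟨_, hy⟩ : ↥E) ∈ X ↔ (⟨x, hx⟩ : ↥E) ∈ X := by
      constructor
      · intro h
        refine ⟨?_, hx⟩
        have := inv_mem (mul_mem (mul_mem (inv_mem hbC) h.1) hbC)
        simpa [mul_assoc] using this
      · exact fun h => ⟨CS.mul_mem (CS.mul_mem hbC (CS.inv_mem h.1)) (CS.inv_mem hbC), hy⟩
    have := (mul_mem_iff_of_index_two hidx).2 hyX.symm
    rw [commutatorElement_def]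
    refine Subgroup.mem_inf.2 ⟨?_, ?_⟩
    · simpa [mul_assoc] using this.1
    · simpa [mul_assoc] using this.2
  rw [hE.1.2.1] at hcomm
  exact hE.2.2 (hcomm.trans inf_le_left)

/-- The commutator step of the splitting. -/
theorem solv_step (hB : baumannSubgroupOf p (T : Subgroup G) ≠ ⊥) (hcov : Covered p (T : Subgroup G))
    (hbel : Below p (T : Subgroup G)) (hE : E ∈ members p (T : Subgroup G)) {s : G} (hs : Solv p E s)
    {a : G} (haT : a ∈ (T : Subgroup G)) (haE : a ∈ normalizer (E : Set G))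
    (hmove : a ∉ centralizer (bWE p E : Set G)) {e : G} (he : e ∈ E)
    (hc : ⁅a, e⁆ ∈ cStarOf p (T : Subgroup G)) : e ∈ cStarOf p (T : Subgroup G) := by
  classical
  haveI := CfsgLib.Cores.pCore_characteristic (G := ↥E) p
  haveI : (pCore p ↥E).Normal := inferInstance
  by_contra hne
  obtain ⟨k, hk⟩ : ∃ k : ℕ, a ^ p ^ k = 1 := by
    obtain ⟨k, hk⟩ := T.2 ⟨a, haT⟩
    exact ⟨k, congrArg Subtype.val hk⟩
  obtain ⟨α, hinj, hα, hiter⟩ := exists_act (p := p) haE
  have hm : ∀ q, (⇑α)^[p ^ k] q = q := hiter _ hk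
  have hmk : ∀ x : ↥E, ∀ h : ⁅a, (x : G)⁆ ∈ E,
      α (QuotientGroup.mk x) * (QuotientGroup.mk x)⁻¹ = QuotientGroup.mk (⟨_, h⟩ : ↥E) := fun x h => by
    rw [hα x ((mem_normalizer_iff.1 haE x).1 x.2), ← QuotientGroup.mk_inv, ← QuotientGroup.mk_mul]
    rfl
  have hcommE : ∀ x ∈ E, ⁅a, x⁆ ∈ E := fun x hx => by
    rw [commutatorElement_def]; exact mul_mem ((mem_normalizer_iff.1 haE x).1 hx) (inv_mem hx)
  -- it suffices that `α` fixes everything
  suffices htriv : ∀ q, α q = q by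
    refine hmove (centralizes_of_trivial_top hE.1 hs haE ⟨k, hk⟩ fun x hx => (mem_core_iff ⟨_, hcommE x hx⟩).2 ?_)
    rw [← hmk ⟨x, hx⟩ (hcommE x hx), htriv, mul_inv_cancel]
  set K := α.eqLocus (MonoidHom.id _) with hK
  have hKmem : ∀ q, q ∈ K ↔ α q = q := fun q => Iff.rfl
  suffices hKt : K = ⊤ from fun q => (hKmem q).1 (hKt ▸ mem_top q)
  set eb : ↥E ⧸ pCore p ↥E := QuotientGroup.mk ⟨e, he⟩ with heb
  rcases hs.type with ⟨hp, h3⟩ | ⟨hp, h8⟩
  · haveI : Fact (Nat.Prime 3) := ⟨Nat.prime_three⟩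
    have hfix : α eb = eb := by
      rw [← mul_inv_eq_one, hmk ⟨e, he⟩ (hcommE e he), ← mem_core_iff]
      exact c3_le_core hE h3 ⟨hc, hcommE e he⟩
    refine eq_top_iff.2 fun q _ => ?_
    obtain ⟨i, rfl⟩ := mem_powers_of_prime_card h3 (g := eb) (g' := q) fun h =>
      hne (core_le_cStar hE.2.1 ((mem_core_iff ⟨e, he⟩).2 h))
    exact pow_mem ((hKmem eb).2 hfix) i
  · obtain ⟨z, hz1, hzc, hzz, h3, hnc⟩ := q8_quot hs hp
    have hcen := q8_facts hG hB hcov hbel hE hs hp
    have hzcen : z ∈ Subgroup.center (↥E ⧸ pCore p ↥E) := Subgroup.mem_center_iff.2 hzc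
    have hαz : α z = z := by
      have h1 : α z ∈ Subgroup.center (↥E ⧸ pCore p ↥E) := Subgroup.mem_center_iff.2 fun q => by
        obtain ⟨q', rfl⟩ := Finite.injective_iff_surjective.1 hinj q
        rw [← map_mul, ← map_mul, hzc]
      rcases mem_center_quat hz1 hzc hzz h3 hnc h1 with h | h
      · exact absurd (hinj (h.trans (map_one α).symm)) hz1
      · exact h
    have hfix : α eb = eb := by
      have hce : α eb * eb⁻¹ ∈ Subgroup.center (↥E ⧸ pCore p ↥E) := by
        rw [← hcen, hmk ⟨e, he⟩ (hcommE e he)]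
        exact mem_map_of_mem _ (mem_subgroupOf.2 (Subgroup.mem_inf.2 ⟨hc, hcommE e he⟩))
      refine fix_of_coprime α (n := 2) hm ?_ ?_ ?_
      · rcases mem_center_quat hz1 hzc hzz h3 hnc hce with h | h
        · rw [h, map_one]
        · rw [h, hαz]
      · rcases mem_center_quat hz1 hzc hzz h3 hnc hce with h | h <;> rw [pow_two, h] <;> simp [hzz]
      · exact Nat.Coprime.pow_left k (by rw [hp]; norm_num)
    have hebc : eb ∉ Subgroup.center (↥E ⧸ pCore p ↥E) := fun h => hne (by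
      rw [← hcen] at h
      obtain ⟨x, hx, hxe⟩ := h
      rw [QuotientGroup.mk'_apply, heb, QuotientGroup.eq] at hxe
      have h2 : (x : G)⁻¹ * e ∈ cStarOf p (T : Subgroup G) := core_le_cStar hE.2.1 ⟨_, hxe, by simp⟩
      simpa using mul_mem hx.1 h2)
    by_contra hKne
    have hidx : K.index = 2 := by
      let g : Fin 3 → ↥K := ![1, ⟨z, (hKmem z).2 hαz⟩, ⟨eb, (hKmem eb).2 hfix⟩]
      have he1 : eb ≠ 1 := fun h => hebc (h ▸ one_mem _)
      have hez : eb ≠ z := fun h => hebc (h ▸ hzcen)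
      have hg : Function.Injective g := by
        intro i j hij
        fin_cases i <;> fin_cases j <;> simp [g, Subtype.ext_iff, hz1, hz1.symm, he1, he1.symm, hez, hez.symm] at hij ⊢
      have hge : 3 ≤ Nat.card ↥K := by simpa using Nat.card_le_card_of_injective g hg
      have hmul := K.card_mul_index
      rw [h8] at hmul
      have h1 : K.index ≠ 1 := fun h => hKne (index_eq_one.1 h)
      have h2 : K.index ≠ 0 := index_ne_zero_of_finite
      have h3' : K.index ≤ 2 := by nlinarith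
      omega
    have hK4 : Nat.card ↥K = 4 := by
      have hmul := K.card_mul_index
      rw [h8, hidx] at hmul
      omega
    refine hKne (eq_top_iff.2 fun f _ => ?_)
    by_contra hf
    have hαf : α f ∉ K := fun h => hf ((hKmem f).2 (hinj ((hKmem (α f)).1 h)))
    have hcK : α f * f⁻¹ ∈ K := (mul_mem_iff_of_index_two hidx).2
      (iff_of_false hαf fun h => hf (by simpa using inv_mem h))
    refine hf ((hKmem f).2 (fix_of_coprime α (n := 4) hm ((hKmem _).1 hcK) ?_ ?_))
    · have := congrArg Subtype.val (pow_card_eq_one' (x := (⟨_, hcK⟩ : ↥K)))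
      rwa [hK4] at this
    · exact Nat.Coprime.pow_left k (by rw [hp]; norm_num)

end

end CfsgLib.LocalEven.CStar
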