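import Cfsg.Agent.Lib.LocalEven.CStar.CapLinear
import Cfsg.Agent.Lib.LocalEven.CStar.AltFacts
import Cfsg.Agent.Lib.LocalEven.CStar.CapSolv

/-!
A member with `E / O_2(E) ≅ Alt(2m+1)`, `m ≥ 2`: `C*(G,T)` induces the stabiliser of the point fixed by `T ∩ E`.
-/

set_option autoImplicit false

namespace CfsgLib.LocalEven.CStar

open Cfsg Subgroup
open CfsgLib.LocalEven CfsgLib.LocalEven.SubBlock CfsgLib.LocalEven.BlockCentral
open scoped commutatorElement

variable {G : Type*} [Group G] [Finite G]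

theorem four_elts : ∀ x : Equiv.Perm (Fin 4), Equiv.Perm.sign x = 1 → x * x = 1 ∨ x * x * x = 1 := by decide +kernel

theorem four_mul : ∀ x y : Equiv.Perm (Fin 4), Equiv.Perm.sign x = 1 → Equiv.Perm.sign y = 1 →
    x * x = 1 → y * y = 1 → x * y * (x * y) = 1 := by decide +kernel

theorem four_comm : ∀ x y : Equiv.Perm (Fin 4), Equiv.Perm.sign x = 1 → Equiv.Perm.sign y = 1 →
    (x * y * x⁻¹ * y⁻¹) * (x * y * x⁻¹ * y⁻¹) = 1 := by decide +kernel

theorem four_cover : ∀ x : Equiv.Perm (Fin 4), Equiv.Perm.sign x = 1 → x * x ≠ 1 →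
    ∀ y : Equiv.Perm (Fin 4), Equiv.Perm.sign y = 1 → ∃ g : Equiv.Perm (Fin 4), Equiv.Perm.sign g = 1 ∧
      (y = g * x * g⁻¹ * x⁻¹ ∨ y = g * x * g⁻¹ * x⁻¹ * x ∨ y = g * x * g⁻¹ * x⁻¹ * (x * x)) := by decide +kernel

/-- The squares trivial part of `A₄`. -/
def fourV : Subgroup ↥(alternatingGroup (Fin 4)) where
  carrier := {x | x * x = 1}
  one_mem' := one_mul 1
  mul_mem' := fun {a b} ha hb => Subtype.ext (four_mul a b (Equiv.Perm.mem_alternatingGroup.1 a.2)
    (Equiv.Perm.mem_alternatingGroup.1 b.2) (congrArg Subtype.val ha) (congrArg Subtype.val hb))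
  inv_mem' := fun {a} (ha : a * a = 1) => by
    show a⁻¹ * a⁻¹ = 1
    rw [← _root_.mul_inv_rev, ha, inv_one]

theorem fourV_ne_top : (fourV : Subgroup ↥(alternatingGroup (Fin 4))) ≠ ⊤ := fun h => by
  have h1 : (⟨Known.AltAut.cyc 0 1 2, (Known.AltAut.isThreeCycle_cyc (by decide) (by decide) (by decide)).mem_alternatingGroup⟩ :
      ↥(alternatingGroup (Fin 4))) ∈ fourV := h ▸ mem_top _
  exact absurd (congrArg Subtype.val h1) (by decide +kernel)

/-- A proper subnormal subgroup of `A₄` lies in the four-group. -/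
theorem le_fourV_of_subnormal {H : Subgroup ↥(alternatingGroup (Fin 4))} (hH : H.IsSubnormal) (hne : H ≠ ⊤) :
    H ≤ fourV := by
  obtain ⟨N, hN, hle, hlt⟩ := hH.exists_normal_and_le_and_lt_top_of_ne hne
  refine hle.trans fun x hx => ?_
  by_contra hx2
  refine hlt.ne (eq_top_iff.2 fun y _ => ?_)
  obtain ⟨g, hg, hy⟩ := four_cover x (Equiv.Perm.mem_alternatingGroup.1 x.2)
    (fun h => hx2 (Subtype.ext h)) y (Equiv.Perm.mem_alternatingGroup.1 y.2)
  set g' : ↥(alternatingGroup (Fin 4)) := ⟨g, Equiv.Perm.mem_alternatingGroup.2 hg⟩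
  have hc : g' * x * g'⁻¹ * x⁻¹ ∈ N := mul_mem (hN.conj_mem x hx g') (inv_mem hx)
  rcases hy with h | h | h
  · rwa [show y = g' * x * g'⁻¹ * x⁻¹ from Subtype.ext h]
  · rw [show y = g' * x * g'⁻¹ * x⁻¹ * x from Subtype.ext h]; exact mul_mem hc hx
  · rw [show y = g' * x * g'⁻¹ * x⁻¹ * (x * x) from Subtype.ext h]; exact mul_mem hc (mul_mem hx hx)

variable {T : Sylow 2 G} {E : Subgroup G}

/-- No block is subnormal in the stabiliser. -/
theorem alt_no_block (hE : IsBaumannBlock 2 (T : Subgroup G) E) (hEs : E.IsSubnormal) {m : ℕ} (hm : 2 ≤ m)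
    (π : ↥E →* ↥(alternatingGroup (Fin (2 * m + 1)))) (hπ : Function.Surjective π)
    (hker : ∀ e : ↥E, π e = 1 ↔ (e : G) ∈ pCoreOf 2 E) (hQW : pCoreOf 2 E = bW 2 E)
    (ψ : ↥(bW 2 E) →* Multiplicative (Fin (2 * m + 1) → ZMod 2))
    (hsum : ∀ u, ∑ i, Multiplicative.toAdd (ψ u) i = 0) (hψ : ∀ u, ψ u = 1 ↔ (u : G) ∈ bZ 2 E)
    (heq : ∀ (e : ↥E) (u : ↥(bW 2 E)), ∃ w : ↥(bW 2 E), (w : G) = (e : G) * (u : G) * (e : G)⁻¹ ∧
      ∀ i, Multiplicative.toAdd (ψ w) i =
        Multiplicative.toAdd (ψ u) (((π e : Equiv.Perm (Fin (2 * m + 1))))⁻¹ i))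
    (ω : Fin (2 * m + 1)) {F : Subgroup G} (hF : IsBaumannBlock 2 (T : Subgroup G) F)
    (hFD : F ≤ ((altStab ω).comap π).map E.subtype)
    (hFs : (F.subgroupOf (((altStab ω).comap π).map E.subtype)).IsSubnormal) : False := by
  classical
  obtain ⟨θ⟩ := altStab_equiv ω
  set D := ((altStab ω).comap π).map E.subtype with hD
  have hDE : D ≤ E := map_subtype_le _
  have hDmem : ∀ x : ↥D, π ⟨x, hDE x.2⟩ ∈ altStab ω := fun x => by
    obtain ⟨y, hy, hyx⟩ := x.2
    rwa [show (⟨(x : G), hDE x.2⟩ : ↥E) = y from Subtype.ext hyx.symm]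
  let σ : ↥D →* ↥(alternatingGroup (Fin (2 * m))) :=
    θ.toMonoidHom.comp ((π.comp (inclusion hDE)).codRestrict (altStab ω) hDmem)
  have hσker : ∀ x : ↥D, σ x = 1 ↔ (x : G) ∈ pCoreOf 2 E := fun x => by
    rw [← hker ⟨x, hDE x.2⟩]
    show θ _ = 1 ↔ _
    rw [θ.map_eq_one_iff]
    exact ⟨fun h => congrArg Subtype.val h, fun h => Subtype.ext h⟩
  have hσ : Function.Surjective σ := θ.surjective.comp fun y => by
    obtain ⟨e, he⟩ := hπ y.1
    exact ⟨⟨e, e, by show π e ∈ altStab ω; rw [he]; exact y.2, rfl⟩, Subtype.ext he⟩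
  have hFE : F ≤ E := hFD.trans hDE
  set H := (F.subgroupOf D).map σ with hH
  have hHs : H.IsSubnormal := hFs.map hσ
  set τ : ↥F →* ↥(alternatingGroup (Fin (2 * m))) := σ.comp (inclusion hFD) with hτ
  haveI := CfsgLib.Cores.pCore_characteristic (G := ↥F) 2
  have hτker : τ.ker ≤ pCore 2 ↥F := by
    intro x hx
    have h1 : (x : G) ∈ pCoreOf 2 E ⊓ F := ⟨(hσker _).1 hx, x.2⟩
    refine (QuotientGroup.eq_one_iff x).1 ((mem_core_iff x).1 (CfsgLib.LocalEven.le_pCoreOf inf_le_right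
      ((CfsgLib.LocalEven.isPGroup_pCoreOf 2 E).to_le inf_le_left) ?_ h1))
    exact (le_inf (hFE.trans (le_normalizer.trans (Block.normalizer_le_pCoreOf E))) le_normalizer).trans
      (Baumann.normalizer_inf_le _ _)
  have hrange : τ.range = H := by
    ext y
    constructor
    · rintro ⟨x, rfl⟩; exact ⟨⟨x, hFD x.2⟩, x.2, rfl⟩
    · rintro ⟨x, hx, rfl⟩; exact ⟨⟨x, hx⟩, rfl⟩
  -- a subgroup of exponent two has no image of `F`
  have hnot2 : ¬ ∀ y ∈ H, y * y = 1 := by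
    intro h
    refine not_isPGroup hF ((CfsgLib.LocalEven.isPGroup_pCoreOf 2 E).to_le ?_)
    intro x hx
    rw [← hF.1] at hx
    have hle : pResidual 2 ↥F ≤ τ.ker := by
      refine (closure_le _).2 fun z hz => MonoidHom.mem_ker.2 ?_
      have h1 := h (τ z) (hrange ▸ ⟨z, rfl⟩)
      exact orderOf_eq_one_iff.1 (Nat.eq_one_of_dvd_coprimes hz (orderOf_map_dvd τ z)
        (orderOf_dvd_of_pow_eq_one (by rw [pow_two]; exact h1)))
    obtain ⟨z, hz, rfl⟩ := hx
    exact (hσker ⟨z, hFD z.2⟩).1 (hle hz)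
  rcases Nat.lt_or_ge m 3 with hm3 | hm3
  · -- `A₄`
    obtain rfl : m = 2 := by omega
    have hHtop : H = ⊤ := by
      by_contra hne
      exact hnot2 fun y hy => le_fourV_of_subnormal hHs hne hy
    have hτs : Function.Surjective τ := MonoidHom.range_eq_top.1 (hrange.trans hHtop)
    have hQV : (pCore 2 ↥F).map τ ≤ fourV := by
      rintro _ ⟨x, hx, rfl⟩
      obtain ⟨k, hk⟩ := CfsgLib.Cores.isPGroup_pCore (G := ↥F) 2 ⟨x, hx⟩
      rcases four_elts (τ x) (Equiv.Perm.mem_alternatingGroup.1 (τ x).2) with h | h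
      · exact Subtype.ext h
      · have h1 : τ x = 1 := by
          refine orderOf_eq_one_iff.1 (Nat.eq_one_of_dvd_coprimes (Nat.Coprime.pow_left k (by norm_num : Nat.Coprime 2 3))
            (orderOf_dvd_of_pow_eq_one ?_) (orderOf_dvd_of_pow_eq_one ?_))
          · rw [← map_pow, show x ^ 2 ^ k = 1 from congrArg Subtype.val hk, map_one]
          · exact Subtype.ext (by rw [pow_succ, pow_two]; exact h)
        rw [h1]; exact one_mem _
    rcases perf_or_solv hF with hP | ⟨s, hs⟩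
    · refine fourV_ne_top (eq_top_iff.2 fun y _ => ?_)
      obtain ⟨x, rfl⟩ := hτs y
      have hx := BlockBaumann.Perf_le_commutator_sup hP x.2
      have hle : ⁅F, F⁆ ⊔ pCoreOf 2 F ≤ (fourV.comap τ).map F.subtype := by
        refine sup_le (commutator_le.2 fun a ha b hb => ⟨⁅(⟨a, ha⟩ : ↥F), ⟨b, hb⟩⁆, ?_, rfl⟩) ?_
        · show τ _ * τ _ = 1
          rw [map_commutatorElement, commutatorElement_def]
          exact Subtype.ext (four_comm _ _ (Equiv.Perm.mem_alternatingGroup.1 (τ _).2)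
            (Equiv.Perm.mem_alternatingGroup.1 (τ _).2))
        · rintro _ ⟨a, ha, rfl⟩
          exact ⟨a, hQV (mem_map_of_mem _ ha), rfl⟩
      obtain ⟨z, hz, hzx⟩ := hle hx
      rwa [← Subtype.ext (show (z : G) = x from hzx)]
    · have h3 : Nat.card (↥F ⧸ pCore 2 ↥F) = 3 := by
        rcases hs.type with ⟨-, h⟩ | ⟨h, -⟩
        · exact h
        · omega
      have hQ4 : Nat.card ↥(pCore 2 ↥F) = 4 := by
        rw [← Subgroup.card_map_of_injective (f := F.subtype) F.subtype_injective, ← pCoreOf,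
          BlockBaumann.Solv.core_eq rfl hF, hs.card_bWE hF]
        rfl
      have h12 : Nat.card ↥(alternatingGroup (Fin (2 * 2))) = 12 := by
        haveI : Nontrivial (Fin (2 * 2)) := Fin.nontrivial_iff_two_le.2 (by omega)
        rw [nat_card_alternatingGroup, Nat.card_fin]; rfl
      have hcard : Nat.card ↥F = 12 := by
        rw [Subgroup.card_eq_card_quotient_mul_card_subgroup (pCore 2 ↥F), h3, hQ4]
      have hinj : Function.Injective τ :=
        (hτs.bijective_of_nat_card_le (by rw [hcard, h12])).1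
      refine not_isPGroup hF ((CfsgLib.LocalEven.isPGroup_pCoreOf 2 E).to_le fun x hx => ?_)
      refine (BlockModule.isBlockModule_of_block hE).2 x (hFE hx) fun w hw => ?_
      have hwN : w ∈ normalizer (F : Set G) :=
        Block.pCore_le_normalizer hF (core_le_pCore hEs (bW_le_core E hw))
      have h1 : ⁅w, x⁆ ∈ F := by
        rw [commutatorElement_def]; exact mul_mem ((mem_normalizer_iff.1 hwN x).1 hx) (inv_mem hx)
      have h2 : ⁅w, x⁆ ∈ pCoreOf 2 E := by
        rw [hQW, commutatorElement_def, mul_assoc, mul_assoc, ← mul_assoc x]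
        exact mul_mem hw (conj_mem_normalizer (le_normalizer_bW E (hFE hx)) (inv_mem hw))
      have h3' : (⟨_, h1⟩ : ↥F) = 1 := hinj (((hσker ⟨_, hFD h1⟩).2 h2).trans (map_one τ).symm)
      exact (commutatorElement_eq_one_iff_mul_comm.1 (congrArg Subtype.val h3')).symm
  -- `A_{2m}` simple
  have h5 : 5 ≤ Nat.card (Fin (2 * m)) := by simp; omega
  haveI : Nontrivial (Fin (2 * m)) := Fin.nontrivial_iff_two_le.2 (by omega)
  have hsimp := alternatingGroup.isSimpleGroup h5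
  have hHtop : H = ⊤ := by
    refine (hHs.eq_bot_or_top_of_isSimpleGroup hsimp).resolve_left fun h => hnot2 fun y hy => ?_
    rw [h, mem_bot] at hy
    rw [hy, one_mul]
  have hτs : Function.Surjective τ := MonoidHom.range_eq_top.1 (hrange.trans hHtop)
  have hcardA : 2 * Nat.card ↥(alternatingGroup (Fin (2 * m))) = (2 * m).factorial := by
    rw [two_mul_nat_card_alternatingGroup, Nat.card_perm, Nat.card_fin]
  have hQker : pCore 2 ↥F ≤ τ.ker := by
    have hn : ((pCore 2 ↥F).map τ).Normal := Subgroup.Normal.map inferInstance τ hτs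
    rcases hsimp.eq_bot_or_eq_top_of_normal _ hn with h | h
    · exact (Subgroup.map_eq_bot_iff _).1 h
    · exfalso
      obtain ⟨k, hk⟩ := IsPGroup.iff_card.1 ((CfsgLib.Cores.isPGroup_pCore (G := ↥F) 2).map τ)
      rw [h, Subgroup.card_top] at hk
      rw [hk] at hcardA
      have h3 : 3 ∣ 2 * 2 ^ k := hcardA.symm ▸ Nat.dvd_factorial (by norm_num) (by omega)
      rw [← pow_succ'] at h3
      exact absurd (Nat.prime_three.dvd_of_dvd_pow h3) (by norm_num)
  have hquot : Nonempty (↥F ⧸ pCore 2 ↥F ≃* ↥(alternatingGroup (Fin (2 * m)))) :=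
    ⟨(QuotientGroup.quotientMulEquivOfEq (le_antisymm hQker hτker)).trans
      (QuotientGroup.quotientKerEquivOfSurjective τ hτs)⟩
  obtain ⟨g⟩ := hquot
  have hcardF := Nat.card_congr g.toEquiv
  have h720 : 720 ≤ (2 * m).factorial := le_trans (le_of_eq (by rfl : 720 = Nat.factorial 6)) (Nat.factorial_le (by omega))
  obtain ⟨-, -, -, -, hcases⟩ := id hF
  rcases hcases with ⟨K, _, _, n, hn, iso, hFsec, -⟩ | ⟨-, k, ⟨f⟩, -, -⟩
  swap
  · have h1 : Nat.card ↥(alternatingGroup (Fin (2 * k + 1))) = Nat.card ↥(alternatingGroup (Fin (2 * m))) := by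
      rw [← Nat.card_congr f.toEquiv, hcardF]
    rcases Nat.eq_zero_or_pos k with rfl | hk
    · haveI : Subsingleton ↥(alternatingGroup (Fin (2 * 0 + 1))) :=
        ⟨fun a b => Subtype.ext (Equiv.ext fun i => Subsingleton.elim (α := Fin 1) _ _)⟩
      rw [Nat.card_of_subsingleton (1 : ↥(alternatingGroup (Fin (2 * 0 + 1))))] at h1
      omega
    haveI : Nontrivial (Fin (2 * k + 1)) := Fin.nontrivial_iff_two_le.2 (by omega)
    have h2 : (2 * k + 1).factorial = (2 * m).factorial := by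
      rw [← hcardA, ← h1, two_mul_nat_card_alternatingGroup, Nat.card_perm, Nat.card_fin]
    have := (Nat.factorial_inj (by omega)).1 h2
    omega
  rcases Nat.lt_or_ge (Fintype.card K) 4 with hK | hK
  · obtain ⟨f⟩ := iso
    have hb : Nat.card (↥F ⧸ pCore 2 ↥F) ≤ 8 := by
      rw [Nat.card_congr f.toEquiv]
      have := Fintype.one_lt_card (α := K)
      rcases (by omega : Fintype.card K = 2 ∨ Fintype.card K = 3) with h | h
      · rw [SL3.card_commutator_two h]; norm_num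
      · rw [SL3.card_commutator h]
    omega
  haveI := charP_of_card (p := 2) hn
  have hQW' : ∀ e ∈ pCoreOf 2 F, ∀ u ∈ bW 2 F, ⁅u, e⁆ ∈ bZ 2 F := fun e he u hu => by
    rw [commutatorElement_eq_one_iff_mul_comm.2 (core_comm he hu).symm]; exact one_mem _
  obtain ⟨R⟩ := nonempty_rep hFsec (free_of_action hFsec iso hQW' ((bW_le F).trans (le_normalizer_bZ F))) hQW'
  have hQE : pCoreOf 2 F ≤ bW 2 E := by
    rintro _ ⟨x, hx, rfl⟩
    exact hQW ▸ (hσker _).1 (hQker hx)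
  -- an element over a three-cycle
  obtain ⟨a, b, c, hab, hac, hbc, ha, hb, hc⟩ : ∃ a b c : Fin (2 * m + 1),
      a ≠ b ∧ a ≠ c ∧ b ≠ c ∧ a ≠ ω ∧ b ≠ ω ∧ c ≠ ω := by
    have hex : ∀ s : Finset (Fin (2 * m + 1)), s.card ≤ 3 → ∃ x, x ∉ s := fun s hs => by
      by_contra h
      push Not at h
      have := Finset.card_le_card (s := Finset.univ) (fun z _ => h z)
      simp at this
      omega
    obtain ⟨a, ha⟩ := hex {ω} (by simp)
    obtain ⟨b, hb⟩ := hex {ω, a} (Finset.card_le_two.trans (by norm_num))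
    obtain ⟨c, hc⟩ := hex {ω, a, b} Finset.card_le_three
    simp only [Finset.mem_insert, Finset.mem_singleton, not_or] at ha hb hc
    exact ⟨a, b, c, Ne.symm hb.2, Ne.symm hc.2.1, Ne.symm hc.2.2, ha, hb.1, hc.1⟩
  set t : ↥(altStab ω) := ⟨⟨Known.AltAut.cyc a b c, (Known.AltAut.isThreeCycle_cyc hab hac hbc).mem_alternatingGroup⟩,
    Known.AltAut.cyc_other (Ne.symm ha) (Ne.symm hb) (Ne.symm hc)⟩ with ht
  obtain ⟨x₀, hx₀⟩ := hτs (θ t)
  obtain ⟨k, r, hr, hkr⟩ := Nat.exists_eq_pow_mul_and_not_dvd (orderOf_pos x₀).ne' 2 (by norm_num)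
  set x := x₀ ^ 2 ^ k with hx
  have hxc : (orderOf x).Coprime 2 := by
    rw [hx, orderOf_pow' _ (pow_ne_zero k two_ne_zero), hkr, Nat.gcd_mul_right_left,
      Nat.mul_div_cancel_left _ (pow_pos two_pos k)]
    exact ((Fact.out : (2 : ℕ).Prime).coprime_iff_not_dvd.2 hr).symm
  have hxE : (x : G) ∈ E := hFE x.2
  have hτx : (π ⟨x, hxE⟩ : Equiv.Perm (Fin (2 * m + 1))) = Known.AltAut.cyc a b c ^ 2 ^ k := by
    have h1 : τ x = θ (t ^ 2 ^ k) := by rw [hx, map_pow, map_pow, hx₀]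
    have h2 := congrArg (fun z : ↥(altStab ω) => ((z : ↥(alternatingGroup (Fin (2 * m + 1)))) : Equiv.Perm (Fin (2 * m + 1))))
      (θ.injective (show θ _ = θ (t ^ 2 ^ k) from h1))
    exact h2.trans (by simp [ht])
  have hfix : ∀ i, i ≠ a → i ≠ b → i ≠ c →
      ((π ⟨x, hxE⟩ : Equiv.Perm (Fin (2 * m + 1))))⁻¹ i = i := fun i h1 h2 h3 => by
    rw [hτx, Equiv.Perm.inv_def, Equiv.symm_apply_eq]
    exact (Equiv.Perm.pow_apply_eq_self_of_apply_eq_self (Known.AltAut.cyc_other h1 h2 h3) _).symm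
  have hM1 : R.rho x ≠ 1 := fun h => by
    have h1 : τ x = 1 := MonoidHom.mem_ker.1 (hQker ((QuotientGroup.eq_one_iff x).1
      ((mem_core_iff x).1 ((R.rho_eq_one x x.2).1 h))))
    have h2 : (π ⟨x, hxE⟩ : Equiv.Perm (Fin (2 * m + 1))) = 1 := by
      have h3 := (hσker ⟨x, hFD x.2⟩).1 h1
      rw [(hker ⟨x, hxE⟩).2 h3]; rfl
    rw [hτx] at h2
    have h4 := orderOf_dvd_of_pow_eq_one h2
    rw [(Known.AltAut.isThreeCycle_cyc hab hac hbc).orderOf] at h4
    exact absurd (Nat.prime_three.dvd_of_dvd_pow h4) (by norm_num)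
  have hMc : (orderOf (R.rho x)).Coprime 2 := hxc.coprime_dvd_left (orderOf_dvd_of_pow_eq_one (by
    rw [← R.rho_pow x.2, ← SubgroupClass.coe_pow, pow_orderOf_eq_one, Subgroup.coe_one, R.rho_one]))
  let δ : (Fin 2 → K) → (Fin 2 → K) := fun v => Lin.act (R.rho x) v - v
  have hδ : Function.Surjective δ := by
    refine Finite.injective_iff_surjective.1 fun v w hvw => ?_
    by_contra hne
    refine hM1 (sl2_eq_one_of_fixed hMc (sub_ne_zero.2 hne) ?_)
    show (R.rho x).1.mulVec (v - w) = v - w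
    rw [Matrix.mulVec_sub]
    exact sub_eq_sub_iff_sub_eq_sub.1 hvw
  have hWW : ∀ u ∈ bW 2 F, u ∈ bW 2 E := fun u hu => hQE (bW_le_core F hu)
  have hstep : ∀ v, ∃ u ∈ bW 2 F, ∃ hu : ⁅(x : G), u⁆ ∈ bW 2 F, R.vec ⁅(x : G), ⁅(x : G), u⁆⁆ = v := by
    intro v
    obtain ⟨w, rfl⟩ := hδ v
    obtain ⟨u', rfl⟩ := hδ w
    obtain ⟨u, hu, rfl⟩ := R.vec_surj u'
    have hv : ∀ z ∈ bW 2 F, ⁅(x : G), z⁆ ∈ bW 2 F ∧ R.vec ⁅(x : G), z⁆ = δ (R.vec z) := fun z hz => by
      have h1 : (x : G) * z * (x : G)⁻¹ ∈ bW 2 F := conj_mem_normalizer (le_normalizer_bW F x.2) hz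
      rw [commutatorElement_def]
      exact ⟨mul_mem h1 (inv_mem hz), by rw [R.vec_mul _ h1 _ (inv_mem hz), R.vec_conj x x.2 z hz, R.vec_inv hz,
        ← sub_eq_add_neg]⟩
    exact ⟨u, hu, (hv u hu).1, by rw [(hv _ (hv u hu).1).2, (hv u hu).2]⟩
  choose u hu hu1 hu2 using hstep
  -- the image depends only on two coordinates
  let g' : (Fin 2 → K) → ZMod 2 × ZMod 2 := fun v =>
    (Multiplicative.toAdd (ψ ⟨_, hWW _ (hu1 v)⟩) a, Multiplicative.toAdd (ψ ⟨_, hWW _ (hu1 v)⟩) b)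
  have hg' : Function.Injective g' := by
    intro v w hvw
    have hzero : ∀ v i, i ≠ a → i ≠ b → i ≠ c → Multiplicative.toAdd (ψ ⟨_, hWW _ (hu1 v)⟩) i = 0 := by
      intro v i h1 h2 h3
      obtain ⟨w', hw', hwi⟩ := heq ⟨x, hxE⟩ ⟨u v, hWW _ (hu v)⟩
      have e : (⟨_, hWW _ (hu1 v)⟩ : ↥(bW 2 E)) = w' * (⟨u v, hWW _ (hu v)⟩ : ↥(bW 2 E))⁻¹ := Subtype.ext (by
        rw [Subgroup.coe_mul, InvMemClass.coe_inv, hw']; rfl)
      rw [e, map_mul, map_inv, toAdd_mul, toAdd_inv, Pi.add_apply, Pi.neg_apply, hwi i, hfix i h1 h2 h3,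
        add_neg_cancel]
    have hpsi : ψ ⟨_, hWW _ (hu1 v)⟩ = ψ ⟨_, hWW _ (hu1 w)⟩ := by
      refine Multiplicative.toAdd.injective (funext fun i => ?_)
      have e3 : ∀ v, ∑ i, Multiplicative.toAdd (ψ ⟨_, hWW _ (hu1 v)⟩) i =
          Multiplicative.toAdd (ψ ⟨_, hWW _ (hu1 v)⟩) a + Multiplicative.toAdd (ψ ⟨_, hWW _ (hu1 v)⟩) b +
            Multiplicative.toAdd (ψ ⟨_, hWW _ (hu1 v)⟩) c := fun v => by
        rw [← Finset.sum_subset (Finset.subset_univ ({a, b, c} : Finset (Fin (2 * m + 1)))) (fun i _ hi => by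
          simp only [Finset.mem_insert, Finset.mem_singleton, not_or] at hi
          exact hzero v i hi.1 hi.2.1 hi.2.2), Finset.sum_insert (by simp [hab, hac]),
          Finset.sum_insert (by simp [hbc]), Finset.sum_singleton, add_assoc]
      have ea := congrArg Prod.fst hvw
      have eb := congrArg Prod.snd hvw
      simp only [g'] at ea eb
      by_cases h1 : i = a
      · rw [h1]; exact ea
      by_cases h2 : i = b
      · rw [h2]; exact eb
      by_cases h3 : i = c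
      · rw [h3]
        have e4 := (hsum ⟨_, hWW _ (hu1 v)⟩).symm.trans (e3 v)
        have e5 := (hsum ⟨_, hWW _ (hu1 w)⟩).symm.trans (e3 w)
        rw [ea, eb] at e4
        exact add_left_cancel (e4.symm.trans e5)
      · rw [hzero v i h1 h2 h3, hzero w i h1 h2 h3]
    have hz : ⁅(x : G), u v⁆ * ⁅(x : G), u w⁆⁻¹ ∈ bZ 2 E := by
      refine (hψ ⟨_, mul_mem (hWW _ (hu1 v)) (inv_mem (hWW _ (hu1 w)))⟩).1 ?_
      rw [show (⟨_, mul_mem (hWW _ (hu1 v)) (inv_mem (hWW _ (hu1 w)))⟩ : ↥(bW 2 E)) =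
        ⟨_, hWW _ (hu1 v)⟩ * (⟨_, hWW _ (hu1 w)⟩ : ↥(bW 2 E))⁻¹ from rfl, map_mul, map_inv, hpsi, mul_inv_cancel]
    rw [← hu2 v, ← hu2 w]
    congr 1
    have hW2 : ⁅(x : G), ⁅(x : G), u w⁆⁆ ∈ bW 2 E := by
      rw [commutatorElement_def (x : G) ⁅(x : G), u w⁆]
      exact mul_mem (conj_mem_normalizer (le_normalizer_bW E hxE) (hWW _ (hu1 w))) (inv_mem (hWW _ (hu1 w)))
    have hc : (x : G) * (⁅(x : G), u v⁆ * ⁅(x : G), u w⁆⁻¹) = ⁅(x : G), u v⁆ * ⁅(x : G), u w⁆⁻¹ * (x : G) :=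
      mem_centralizer_iff.1 (Subgroup.mem_inf.1 hz).2 x hxE
    have hz2 := bW_comm (Subgroup.mem_inf.1 hz).1 hW2
    generalize ⁅(x : G), u v⁆ = p₁ at hc hz2 ⊢
    generalize ⁅(x : G), u w⁆ = p₂ at hc hz2 ⊢
    generalize hzdef : p₁ * p₂⁻¹ = z at hc hz2
    rw [show p₁ = z * p₂ by rw [← hzdef, inv_mul_cancel_right],
      show ⁅(x : G), z * p₂⁆ = (x : G) * z * (x : G)⁻¹ * ⁅(x : G), p₂⁆ * z⁻¹ by
        simp only [commutatorElement_def]; group,
      hc, mul_inv_cancel_right, hz2, mul_inv_cancel_right]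
  have hfin := Nat.card_le_card_of_injective g' hg'
  rw [Nat.card_eq_fintype_card, Fintype.card_fun, Fintype.card_fin, Nat.card_prod, Nat.card_zmod] at hfin
  nlinarith

section
variable (hG : centralizer (pCore 2 G : Set G) ≤ pCore 2 G)
include hG

/-- The facts for an alternating member. -/
theorem alt_facts (hB : baumannSubgroupOf 2 (T : Subgroup G) ≠ ⊥) (hcov : Covered 2 (T : Subgroup G))
    (hbel : Below 2 (T : Subgroup G)) (hE : E ∈ members 2 (T : Subgroup G)) {m : ℕ} (hm : 2 ≤ m)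
    (f : ↥E ⧸ pCore 2 ↥E ≃* ↥(alternatingGroup (Fin (2 * m + 1))))
    (hsec : ActsAsOddPermModuleOnSection (2 * m + 1) (alternatingGroup (Fin (2 * m + 1))) E (bW 2 E) (bZ 2 E))
    (hQW : pCoreOf 2 E = bW 2 E) [(pCore 2 ↥E).Normal] :
    (∃ π : ↥E →* ↥(alternatingGroup (Fin (2 * m + 1))), ∃ ω : Fin (2 * m + 1), Function.Surjective π ∧
      (∀ e : ↥E, π e = 1 ↔ (e : G) ∈ pCoreOf 2 E) ∧
      ((T : Subgroup G) ⊓ E).subgroupOf E ≤ (altStab ω).comap π ∧
      cStarOf 2 (T : Subgroup G) ⊓ E = ((altStab ω).comap π).map E.subtype) ∧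
    Nonempty (↥(((cStarOf 2 (T : Subgroup G) ⊓ E).subgroupOf E).map (QuotientGroup.mk' (pCore 2 ↥E))) ≃*
      ↥(alternatingGroup (Fin (2 * m)))) ∧
    ∀ e ∈ E, e ∈ normalizer ((cStarOf 2 (T : Subgroup G) ⊓ E : Subgroup G) : Set G) →
      e ∈ cStarOf 2 (T : Subgroup G) := by
  classical
  obtain ⟨-, -, ρ, ψ, hρ, hψ1, -, hψ, heq⟩ := hsec
  let π : ↥E →* ↥(alternatingGroup (Fin (2 * m + 1))) := ρ.codRestrict _ fun e => hρ.le ⟨e, rfl⟩
  have hπ : Function.Surjective π := fun y => by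
    obtain ⟨e, he⟩ := MonoidHom.mem_range.1 (hρ.ge y.2)
    exact ⟨e, Subtype.ext he⟩
  have hkerle : π.ker ≤ pCore 2 ↥E := fun e he => by
    refine (QuotientGroup.eq_one_iff e).1 ((mem_core_iff e).1 (BlockBaumann.stab_inf_le_core hE.1
      (Subgroup.mem_inf.2 ⟨e.2, mem_stab_of_le inf_le_left (le_normalizer_bW E e.2) fun a ha => ?_⟩)))
    obtain ⟨w, hw, hw'⟩ := heq e ⟨a, ha⟩
    have he1 : ρ e = 1 := congrArg Subtype.val (MonoidHom.mem_ker.1 he)
    have h1 : ψ w = ψ ⟨a, ha⟩ := Multiplicative.toAdd.injective (funext fun i => by rw [hw' i, he1]; rfl)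
    have h2 : ψ (⟨a, ha⟩ * w⁻¹) = 1 := by rw [map_mul, map_inv, h1, mul_inv_cancel]
    have h3 := (hψ _).1 h2
    rw [Subgroup.coe_mul, InvMemClass.coe_inv, hw] at h3
    convert h3 using 1
    rw [commutatorElement_def]; group
  have hkereq : π.ker = pCore 2 ↥E := by
    have h1 : π.ker.index = (pCore 2 ↥E).index := by
      rw [index_ker, MonoidHom.range_eq_top.2 hπ, Subgroup.card_top, Subgroup.index, Nat.card_congr f.toEquiv]
    refine eq_of_le_of_card_ge hkerle (Nat.le_of_mul_le_mul_right (le_of_eq ?_)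
      (Nat.pos_of_ne_zero (index_ne_zero_of_finite (H := π.ker))))
    rw [π.ker.card_mul_index, h1, Subgroup.card_mul_index]
  have hker : ∀ e : ↥E, π e = 1 ↔ (e : G) ∈ pCoreOf 2 E := fun e => by
    rw [← MonoidHom.mem_ker, hkereq, mem_core_iff, QuotientGroup.eq_one_iff]
  obtain ⟨Q, hQ⟩ := exists_sylow_eq_inf_of_isSubnormal T hE.2.1
  have hQS : (Q : Subgroup ↥E) = ((T : Subgroup G) ⊓ E).subgroupOf E := by rw [hQ, inf_subgroupOf_right]
  obtain ⟨ω, hω, huniq⟩ := exists_unique_fixed hm (Q.mapSurjective hπ)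
  rw [Sylow.coe_mapSurjective] at hω
  set CS := cStarOf 2 (T : Subgroup G) with hCS
  set D := ((altStab ω).comap π).map E.subtype with hD
  have hDE : D ≤ E := map_subtype_le _
  have hmemD : ∀ x : ↥E, (x : G) ∈ D ↔ π x ∈ altStab ω := fun x =>
    ⟨by rintro ⟨y, hy, hyx⟩; rwa [← Subtype.ext (show (y : G) = x from hyx)], fun h => ⟨x, h, rfl⟩⟩
  have hED : ¬ E ≤ D := fun h => altStab_ne_top (by omega) ω (eq_top_iff.2 fun y _ => by
    obtain ⟨e, rfl⟩ := hπ y
    exact (hmemD e).1 (h e.2))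
  have hZ : E ⊓ centralizer (E : Set G) ≤ D := fun x hx => by
    refine (hmemD ⟨x, hx.1⟩).2 ?_
    have hz : π ⟨x, hx.1⟩ ∈ Subgroup.center ↥(alternatingGroup (Fin (2 * m + 1))) := by
      refine Subgroup.mem_center_iff.2 fun q => ?_
      obtain ⟨w, rfl⟩ := hπ q
      rw [← map_mul, ← map_mul]
      exact congrArg π (Subtype.ext (mem_centralizer_iff.1 hx.2 (w : G) w.2))
    rw [alternatingGroup.center_eq_bot (by simp; omega), mem_bot] at hz
    rw [hz]; exact one_mem _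
  have hinv : ∀ t ∈ (T : Subgroup G), t ∈ normalizer (E : Set G) → D.map (MulAut.conj t).toMonoidHom ≤ D := by
    intro t ht htE
    obtain ⟨α, hinj, hα, -⟩ := exists_act (p := 2) htE
    let β : MulAut ↥(alternatingGroup (Fin (2 * m + 1))) :=
      ((QuotientGroup.quotientMulEquivOfEq hkereq.symm).trans (QuotientGroup.quotientKerEquivOfSurjective π hπ)).symm.trans
        ((MulEquiv.ofBijective α ⟨hinj, Finite.injective_iff_surjective.1 hinj⟩).trans
          ((QuotientGroup.quotientMulEquivOfEq hkereq.symm).trans (QuotientGroup.quotientKerEquivOfSurjective π hπ)))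
    have hβ : ∀ (x : ↥E) (hx : t * (x : G) * t⁻¹ ∈ E), β (π x) = π ⟨_, hx⟩ := fun x hx => by
      have e : ((QuotientGroup.quotientMulEquivOfEq hkereq.symm).trans
          (QuotientGroup.quotientKerEquivOfSurjective π hπ)).symm (π x) = QuotientGroup.mk x :=
        (MulEquiv.symm_apply_eq _).2 rfl
      simp only [β, MulEquiv.trans_apply, e]
      show (QuotientGroup.quotientKerEquivOfSurjective π hπ)
        ((QuotientGroup.quotientMulEquivOfEq hkereq.symm) (α (QuotientGroup.mk x))) = _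
      rw [hα x hx]
      rfl
    rintro _ ⟨x, hxD, rfl⟩
    have hxE : t * x * t⁻¹ ∈ E := (mem_normalizer_iff.1 htE x).1 (hDE hxD)
    refine (hmemD ⟨_, hxE⟩).2 ?_
    rw [← hβ ⟨x, hDE hxD⟩ hxE]
    refine altStab_aut hm (P := Q.mapSurjective hπ) (by rw [Sylow.coe_mapSurjective]; exact hω) huniq β ?_
      ((hmemD ⟨x, hDE hxD⟩).1 hxD)
    rw [Sylow.coe_mapSurjective]
    rintro _ ⟨y, hy, rfl⟩
    have hyE : t * (y : G) * t⁻¹ ∈ E := (mem_normalizer_iff.1 htE y).1 y.2
    rw [hβ y hyE]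
    rw [hQ] at hy ⊢
    exact mem_map_of_mem _ (show (⟨_, hyE⟩ : ↥E) ∈ (T : Subgroup G).subgroupOf E from
      (T : Subgroup G).mul_mem ((T : Subgroup G).mul_mem ht hy) ((T : Subgroup G).inv_mem ht))
  have hDCS : D ≤ CS := le_cStar_of_cap hG hB hcov hbel hE hDE hZ hED hinv
    fun F hF hFD hFs => alt_no_block hE.1 hE.2.1 hm π hπ hker hQW ψ hψ1 hψ (fun e u => heq e u) ω hF hFD hFs
  have hmax : ∀ X : Subgroup G, X ≤ E → D ≤ X → X = D ∨ X = E := by
    intro X hXE hDX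
    have hle : (altStab ω).comap π ≤ X.subgroupOf E := fun x hx => hDX ((hmemD x).2 hx)
    have hkX : π.ker ≤ X.subgroupOf E := (MonoidHom.ker_le_comap π _).trans hle
    have hmap : altStab ω ≤ (X.subgroupOf E).map π := by
      rw [← map_comap_eq_self_of_surjective hπ (altStab ω)]; exact map_mono hle
    rcases altStab_max (by omega) hmap with h | h
    · left
      have h1 := congrArg (Subgroup.comap π) h
      rw [comap_map_eq_self hkX] at h1
      rw [← map_subgroupOf_eq_of_le hXE, h1]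
    · right
      have h1 := congrArg (Subgroup.comap π) h
      rw [comap_map_eq_self hkX, comap_top] at h1
      exact le_antisymm hXE (subgroupOf_eq_top.1 h1)
  have hshape : CS ⊓ E = D := by
    rcases hmax (CS ⊓ E) inf_le_right (le_inf hDCS hDE) with h | h
    · exact h
    · exact absurd (h.ge.trans inf_le_left) hE.2.2
  refine ⟨⟨π, ω, hπ, hker, ?_, hshape⟩, ?_, fun e he hen => ?_⟩
  · rw [← hQS]; exact map_le_iff_le_comap.1 hω
  · obtain ⟨θ⟩ := altStab_equiv ω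
    let φ := (QuotientGroup.quotientMulEquivOfEq hkereq.symm).trans (QuotientGroup.quotientKerEquivOfSurjective π hπ)
    have himg : (((CS ⊓ E).subgroupOf E).map (QuotientGroup.mk' (pCore 2 ↥E))).map φ.toMonoidHom = altStab ω := by
      rw [hshape, hD, show (((altStab ω).comap π).map E.subtype).subgroupOf E = (altStab ω).comap π from
        comap_map_eq_self_of_injective E.subtype_injective _, Subgroup.map_map]
      exact map_comap_eq_self_of_surjective hπ _
    exact ⟨((Subgroup.equivMapOfInjective _ φ.toMonoidHom φ.injective).trans (MulEquiv.subgroupCongr himg)).trans θ⟩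
  · rw [hshape] at hen
    refine (hshape.ge ((hmemD ⟨e, he⟩).2 ?_)).1
    refine mem_altStab.2 (eq_of_altStab_fixes (n := 2 * m + 1) (by omega) fun y hy => ?_)
    obtain ⟨x, rfl⟩ := hπ y
    have hconj : (e⁻¹ * (x : G) * e) ∈ D := by
      have := conj_mem_normalizer (inv_mem hen) ((hmemD x).2 hy)
      simpa using this
    have h1 := (hmemD (⟨e, he⟩⁻¹ * x * ⟨e, he⟩)).1 hconj
    rw [mem_altStab, map_mul, map_mul, map_inv, Subgroup.coe_mul, Subgroup.coe_mul, InvMemClass.coe_inv,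
      Equiv.Perm.mul_apply, Equiv.Perm.mul_apply, Equiv.Perm.inv_def, Equiv.symm_apply_eq] at h1
    exact h1

end

end CfsgLib.LocalEven.CStar
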