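import Cfsg.Agent.Lib.LocalEven.NaturalFrame
import Cfsg.Agent.Lib.Solvable.Basic

/-!
Two facts on `SL₂(F)`: the maximality of the normaliser of a Sylow subgroup, and the semisimple elements have no fixed vector.
-/

set_option autoImplicit false

namespace CfsgLib.LocalEven.CStar

open Matrix CfsgLib.LocalEven.QdOver

variable {F : Type*} [Field F] [Finite F] {p : ℕ} [Fact p.Prime] [CharP F p]

local notation "SL2" => Matrix.SpecialLinearGroup (Fin 2) F

/-- The normaliser of a Sylow subgroup is the only proper subgroup containing it. -/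
theorem sl2_normalizer_max (P : Sylow p SL2) {X : Subgroup SL2}
    (hX : Subgroup.normalizer ((P : Subgroup SL2) : Set SL2) ≤ X) :
    X = Subgroup.normalizer ((P : Subgroup SL2) : Set SL2) ∨ X = ⊤ := by
  obtain ⟨U, hU⟩ := NatFrame.exists_sylow_upRange (p := p) (F := F)
  obtain ⟨g, rfl⟩ := MulAction.exists_smul_eq SL2 U P
  rw [Sylow.coe_subgroup_smul, hU, CfsgLib.Solvable.conj_smul_eq_map] at hX ⊢
  set φ := (MulAut.conj g).toMonoidHom with hφ
  have hN : Subgroup.normalizer (((NatFrame.upRange : Subgroup SL2).map φ : Subgroup SL2) : Set SL2) =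
      (Subgroup.normalizer ((NatFrame.upRange : Subgroup SL2) : Set SL2)).map φ :=
    (Subgroup.map_equiv_normalizer_eq _ (MulAut.conj g)).symm
  rw [hN] at hX ⊢
  have hX' : Subgroup.normalizer ((NatFrame.upRange : Subgroup SL2) : Set SL2) ≤ X.comap φ :=
    Subgroup.map_le_iff_le_comap.1 hX
  have hback : (X.comap φ).map φ = X := Subgroup.map_comap_eq_self_of_surjective (f := φ) (MulAut.conj g).surjective X
  by_cases h : ∀ A ∈ X.comap φ, A.1 1 0 = 0
  · refine Or.inl (le_antisymm ?_ hX)
    rw [← hback]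
    refine Subgroup.map_mono fun A hA => CfsgLib.LocalEven.mem_normalizer_of_conj_le ?_
    rintro _ ⟨_, ⟨a, rfl⟩, rfl⟩
    refine ⟨A.1 0 0 * A.1 0 0 * a, ?_⟩
    show upSL _ = A * upSL a * A⁻¹
    rw [eq_mul_inv_iff_mul_eq]
    have hd := A.2
    rw [Matrix.det_fin_two, h A hA, mul_zero, sub_zero] at hd
    apply Subtype.ext
    ext i j
    fin_cases i <;> fin_cases j <;> simp [Matrix.mul_apply, Fin.sum_univ_two, h A hA]
    linear_combination (A.1 0 0 * a) * hd
  · push Not at h
    obtain ⟨A, hA, h10⟩ := h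
    refine Or.inr ?_
    rw [← hback, eq_top_of_up_mem (X.comap φ) (fun a => hX' (Subgroup.le_normalizer ⟨a, rfl⟩)) hA h10]
    exact Subgroup.map_top_of_surjective φ (MulAut.conj g).surjective

/-- An element of order prime to `p` fixing a nonzero vector is trivial. -/
theorem sl2_eq_one_of_fixed {M : SL2} (hM : (orderOf M).Coprime p) {v : Fin 2 → F} (hv : v ≠ 0)
    (h : M.1.mulVec v = v) : M = 1 := by
  obtain ⟨a, b, c, d, hentry⟩ : ∃ a b c d, M.1 = !![a, b; c, d] :=
    ⟨_, _, _, _, Matrix.eta_fin_two M.1⟩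
  have hd := M.2
  rw [hentry, Matrix.det_fin_two] at hd
  simp at hd
  have hdet : ((M.1 - 1).det) = 0 := Matrix.exists_mulVec_eq_zero_iff.1
    ⟨v, hv, by rw [Matrix.sub_mulVec, h, Matrix.one_mulVec, sub_self]⟩
  have htr : a + d = 2 := by
    rw [hentry, Matrix.det_fin_two] at hdet
    simp at hdet
    linear_combination -hdet + hd
  have hsq : (M.1 - 1) ^ 2 = 0 := by
    rw [pow_two, hentry]
    ext i j
    fin_cases i <;> fin_cases j <;> simp [Matrix.mul_apply, Fin.sum_univ_two]
    · linear_combination a * htr - hd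
    · linear_combination b * htr
    · linear_combination c * htr
    · linear_combination d * htr - hd
  have hp : M ^ p = 1 := by
    apply Subtype.ext
    rw [Matrix.SpecialLinearGroup.coe_pow, Matrix.SpecialLinearGroup.coe_one,
      show M.1 = (M.1 - 1) + 1 by rw [sub_add_cancel], add_pow_char_of_commute _ (Commute.one_right _),
      one_pow, pow_eq_zero_of_le (Fact.out : p.Prime).two_le hsq, zero_add]
  exact orderOf_eq_one_iff.1 (Nat.eq_one_of_dvd_coprimes hM dvd_rfl (orderOf_dvd_of_pow_eq_one hp))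

end CfsgLib.LocalEven.CStar
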