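import Cfsg.Agent.Lib.LocalEven.CStar.Members
import Cfsg.Agent.Lib.LocalEven.CStar.SLFacts

/-!
A member with `E / O_p(E) ≅ SL₂(q)`, `q ≥ 4`, meets `C*(G,T)` in `N_E(T ∩ E)`.
-/

set_option autoImplicit false

namespace CfsgLib.LocalEven.CStar

open Cfsg Subgroup
open CfsgLib.LocalEven CfsgLib.LocalEven.SubBlock CfsgLib.LocalEven.BlockCentral
open scoped commutatorElement

variable {G : Type*} [Group G] [Finite G] {p : ℕ} [Fact p.Prime] {T : Sylow p G} {E : Subgroup G}

theorem conj_mem_normalizer {g : G} {H : Subgroup G} (hg : g ∈ normalizer (H : Set G)) {x : G} (hx : x ∈ H) :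
    g * x * g⁻¹ ∈ H := (mem_normalizer_iff.1 hg x).1 hx

/-- The `p`-elements of `N_E(T ∩ E)` lie in `T ∩ E`. -/
theorem mem_inf_of_pElem (hEs : E.IsSubnormal) {x : G} (hxE : x ∈ E) {k : ℕ} (hk : x ^ p ^ k = 1)
    (hxN : x ∈ normalizer (((T : Subgroup G) ⊓ E : Subgroup G) : Set G)) : x ∈ (T : Subgroup G) ⊓ E := by
  obtain ⟨Q, hQ⟩ := exists_sylow_eq_inf_of_isSubnormal T hEs
  set y : ↥E := ⟨x, hxE⟩
  have hN : zpowers y ≤ normalizer ((Q : Subgroup ↥E) : Set ↥E) := zpowers_le.2 (mem_normalizer_iff.2 fun z => by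
    rw [hQ, mem_subgroupOf, mem_subgroupOf]
    constructor
    · intro hz
      exact ((mem_normalizer_iff.1 hxN z).1 ⟨hz, z.2⟩).1
    · intro hz
      exact ((mem_normalizer_iff.1 hxN z).2 ⟨hz, by exact (y * z * y⁻¹).2⟩).1)
  have hy : IsPGroup p ↥(zpowers y) := by
    rintro ⟨_, i, rfl⟩
    refine ⟨k, Subtype.ext ?_⟩
    show (y ^ i) ^ (p ^ k) = 1
    rw [← zpow_natCast (y ^ i), ← zpow_mul, mul_comm, zpow_mul, zpow_natCast,
      show y ^ p ^ k = 1 from Subtype.ext hk, one_zpow]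
  have h := Q.is_maximal' (hy.to_sup_of_normal_right' Q.2 hN) le_sup_right
  have h1 : y ∈ (Q : Subgroup ↥E) := h ▸ mem_sup_left (mem_zpowers y)
  rw [hQ] at h1
  exact ⟨h1, hxE⟩

theorem charP_of_card {K : Type*} [Field K] [Fintype K] {n : ℕ} (hn : Fintype.card K = p ^ n) : CharP K p := by
  refine (CharP.charP_iff_prime_eq_zero (Fact.out : p.Prime)).2 ?_
  have h0 : ((Fintype.card K : ℕ) : K) = 0 := FiniteField.cast_card_eq_zero K
  rw [hn, Nat.cast_pow] at h0
  exact eq_zero_of_pow_eq_zero h0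

/-- An element of a `p`-subgroup of order prime to `p` is trivial. -/
theorem eq_one_of_coprime_core {X : Subgroup G} (hX : IsPGroup p ↥X) {s : G} (hs : s ∈ X)
    (hc : (orderOf s).Coprime p) : s = 1 := by
  obtain ⟨k, hk⟩ := hX ⟨s, hs⟩
  exact orderOf_eq_one_iff.1 (Nat.eq_one_of_dvd_coprimes (Nat.Coprime.pow_right k hc) dvd_rfl
    (orderOf_dvd_of_pow_eq_one (congrArg Subtype.val hk)))

section
variable {K : Type} [Field K] [Fintype K] {n : ℕ} (hn : Fintype.card K = p ^ n) (h4 : 4 ≤ Fintype.card K)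
include hn h4

/-- A block with solvable top does not lie in a linear member. -/
theorem no_solv_le_linear (hE : IsBaumannBlock p (T : Subgroup G) E) (hEs : E.IsSubnormal)
    (iso : Nonempty (↥E ⧸ pCore p ↥E ≃* ↥(commutator (Matrix.SpecialLinearGroup (Fin 2) K))))
    (hsec : ActsAsSL2OnSection K (commutator (Matrix.SpecialLinearGroup (Fin 2) K)) E (bW p E) (bZ p E))
    {F : Subgroup G} (hF : IsBaumannBlock p (T : Subgroup G) F) (hFE : F ≤ E) {s : G} (hs : Solv p F s) :
    False := by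
  haveI := charP_of_card hn
  have hQW : ∀ e ∈ pCoreOf p E, ∀ u ∈ bW p E, ⁅u, e⁆ ∈ bZ p E := fun e he u hu => by
    rw [commutatorElement_eq_one_iff_mul_comm.2 (core_comm he hu).symm]; exact one_mem _
  obtain ⟨R⟩ := nonempty_rep hsec (free_of_action hsec iso hQW ((bW_le E).trans (le_normalizer_bZ E))) hQW
  have hsE : s ∈ E := hFE hs.mem
  have hM1 : R.rho s ≠ 1 := fun h => hs.notQ (by
    rw [eq_one_of_coprime_core (CfsgLib.LocalEven.isPGroup_pCoreOf p E) ((R.rho_eq_one s hsE).1 h) hs.cop,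
      one_mul]
    exact one_mem _)
  have hMc : (orderOf (R.rho s)).Coprime p := hs.cop.coprime_dvd_left (orderOf_dvd_of_pow_eq_one (by
    rw [← R.rho_pow hsE, pow_orderOf_eq_one, R.rho_one]))
  let δ : (Fin 2 → K) → (Fin 2 → K) := fun v => Lin.act (R.rho s) v - v
  have hδ : Function.Surjective δ := by
    refine Finite.injective_iff_surjective.1 fun v w hvw => ?_
    by_contra hne
    refine hM1 (sl2_eq_one_of_fixed hMc (sub_ne_zero.2 hne) ?_)
    show (R.rho s).1.mulVec (v - w) = v - w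
    rw [Matrix.mulVec_sub]
    exact sub_eq_sub_iff_sub_eq_sub.1 hvw
  have hpN : pCoreOf p E ≤ normalizer (F : Set G) := (core_le_pCore hEs).trans (Block.pCore_le_normalizer hF)
  set X := bW p E ⊓ F with hX
  have hFX : F ≤ normalizer (X : Set G) :=
    (le_inf (hFE.trans (le_normalizer_bW E)) le_normalizer).trans (Baumann.normalizer_inf_le _ _)
  have hXQ : X ≤ pCoreOf p F :=
    CfsgLib.LocalEven.le_pCoreOf inf_le_right ((isPGroup_bW E).to_le inf_le_left) hFX
  have hXW : X ≤ bW p F := by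
    rcases core_eq_or_exc hF with hc | hx
    · exact hXQ.trans hc.le
    rcases hx.irr (X ⊔ bW p F) le_sup_right (sup_le hXQ (bW_le_core F))
        (fun g hg => mem_normalizer_of_conj_le (by
          rw [Subgroup.map_sup]
          exact sup_le_sup (mem_normalizer_iff_map_conj_eq.1 (hFX hg)).le
            (mem_normalizer_iff_map_conj_eq.1 (le_normalizer_bW F hg)).le)) with h | h
    · exact le_sup_left.trans h.le
    exfalso
    have hc : pCoreOf p F ≤ centralizer (pCoreOf p F : Set G) := by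
      refine le_centralizer_iff.1 ?_
      rw [← h]
      refine sup_le (fun x hx => mem_centralizer_iff.2 fun q hq => ?_) (fun x hx => mem_centralizer_iff.2 fun q hq => ?_)
      · rw [SetLike.mem_coe, h] at hq
        have hq' : q ∈ X ⊔ bW p F := h.ge hq
        have hle : X ⊔ bW p F ≤ centralizer ({x} : Set G) := sup_le
          (fun y hy => mem_centralizer_iff.2 fun z hz => by
            rw [Set.mem_singleton_iff.1 hz]; exact bW_comm hx.1 hy.1)
          (fun y hy => mem_centralizer_iff.2 fun z hz => by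
            rw [Set.mem_singleton_iff.1 hz]; exact core_comm (hXQ hx) hy)
        exact (mem_centralizer_iff.1 (hle hq') x rfl).symm
      · exact core_comm (h.le hq) hx
    have hd : ⁅pCoreOf p F, pCoreOf p F⁆ = ⊥ := commutator_eq_bot_iff_le_centralizer.2 hc
    have hcard := hx.card_bZ hs
    rw [← hx.derived, hd, Subgroup.card_bot] at hcard
    exact (Fact.out : p.Prime).one_lt.ne hcard
  have hstep : ∀ v, ∃ b ∈ bWE p F, b ∈ bW p E ∧ R.vec b = v := by
    intro v
    obtain ⟨w, rfl⟩ := hδ v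
    obtain ⟨u, rfl⟩ := hδ w
    obtain ⟨a, ha, rfl⟩ := R.vec_surj u
    have hv : ∀ c ∈ bW p E, ⁅s, c⁆ ∈ bW p E ∧ R.vec ⁅s, c⁆ = δ (R.vec c) := fun c hc => by
      have h1 : s * c * s⁻¹ ∈ bW p E := conj_mem_normalizer (le_normalizer_bW E hsE) hc
      rw [commutatorElement_def]
      exact ⟨mul_mem h1 (inv_mem hc), by rw [R.vec_mul _ h1 _ (inv_mem hc), R.vec_conj s hsE c hc, R.vec_inv hc,
        ← sub_eq_add_neg]⟩
    have h1 : ⁅s, a⁆ ∈ X := ⟨(hv a ha).1, by
      rw [commutatorElement_def, mul_assoc, mul_assoc, ← mul_assoc a]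
      exact mul_mem hs.mem (conj_mem_normalizer (hpN (bW_le_core E ha)) (inv_mem hs.mem))⟩
    refine ⟨⁅s, ⁅s, a⁆⁆, ?_, (hv _ h1.1).1, by rw [(hv _ h1.1).2, (hv a ha).2]⟩
    show ⁅s, ⁅s, a⁆⁆ ∈ ⁅bW p F, F⁆
    rw [commutator_comm]
    exact commutator_mem_commutator hs.mem (hXW h1)
  choose b hb1 hb2 hb3 using hstep
  have hle : Nat.card (Fin 2 → K) ≤ Nat.card ↥(bWE p F) := Nat.card_le_card_of_injective
    (fun v => (⟨b v, hb1 v⟩ : ↥(bWE p F))) fun v w hvw => by
      rw [← hb3 v, ← hb3 w, show b v = b w from congrArg Subtype.val hvw]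
  rw [hs.card_bWE hF, Nat.card_eq_fintype_card, Fintype.card_fun, Fintype.card_fin] at hle
  have hp : p ≤ 3 := by rcases hs.type with ⟨h, -⟩ | ⟨h, -⟩ <;> omega
  have := Nat.pow_le_pow_iff_left (two_ne_zero) |>.1 hle
  omega

end

/-- A block with nonsolvable top has `p`-elements outside its radical. -/
theorem perf_exists_pElem {F : Subgroup G} (hF : Perf p F) :
    ∃ x ∈ F, x ∉ pCoreOf p F ∧ ∃ k : ℕ, x ^ p ^ k = 1 := by
  haveI := CfsgLib.Cores.pCore_characteristic (G := ↥F) p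
  obtain ⟨q, hq⟩ := exists_prime_orderOf_dvd_card' p hF.2
  obtain ⟨y, rfl⟩ := QuotientGroup.mk_surjective q
  obtain ⟨k, m, hm, hkm⟩ := Nat.exists_eq_pow_mul_and_not_dvd (orderOf_pos y).ne' p (Fact.out : p.Prime).ne_one
  refine ⟨((y ^ m : ↥F) : G), (y ^ m).2, fun h => hm ?_, k, ?_⟩
  · have h1 := (mem_core_iff (y ^ m)).1 h
    rw [QuotientGroup.mk_pow] at h1
    exact hq ▸ orderOf_dvd_of_pow_eq_one h1
  · rw [← SubgroupClass.coe_pow, ← pow_mul, mul_comm, ← hkm, pow_orderOf_eq_one, Subgroup.coe_one]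

section
variable (hG : centralizer (pCore p G : Set G) ≤ pCore p G)
include hG

/-- The intersection with `C*(G,T)` and the splitting for a linear member. -/
theorem linear_facts (hB : baumannSubgroupOf p (T : Subgroup G) ≠ ⊥) (hcov : Covered p (T : Subgroup G))
    (hbel : Below p (T : Subgroup G)) (hE : E ∈ members p (T : Subgroup G)) {K : Type} [Field K] [Fintype K]
    {n : ℕ} (hn : Fintype.card K = p ^ n) (h4 : 4 ≤ Fintype.card K)
    (iso : Nonempty (↥E ⧸ pCore p ↥E ≃* ↥(commutator (Matrix.SpecialLinearGroup (Fin 2) K))))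
    (hsec : ActsAsSL2OnSection K (commutator (Matrix.SpecialLinearGroup (Fin 2) K)) E (bW p E) (bZ p E)) :
    cStarOf p (T : Subgroup G) ⊓ E = E ⊓ normalizer (((T : Subgroup G) ⊓ E : Subgroup G) : Set G) ∧
      Nonempty (↥E ⧸ pCore p ↥E ≃* Matrix.SpecialLinearGroup (Fin 2) K) ∧
      ∀ e ∈ E, e ∈ normalizer ((cStarOf p (T : Subgroup G) ⊓ E : Subgroup G) : Set G) →
        e ∈ cStarOf p (T : Subgroup G) := by
  classical
  haveI := charP_of_card hn
  haveI := CfsgLib.Cores.pCore_characteristic (G := ↥E) p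
  obtain ⟨f⟩ := id iso
  set g : ↥E ⧸ pCore p ↥E ≃* Matrix.SpecialLinearGroup (Fin 2) K :=
    f.trans ((MulEquiv.subgroupCongr (CfsgLib.Classical.SmallIso.commutator_sl_two (F := K) h4)).trans Subgroup.topEquiv)
  set π : ↥E →* Matrix.SpecialLinearGroup (Fin 2) K := g.toMonoidHom.comp (QuotientGroup.mk' (pCore p ↥E))
  have hπ : Function.Surjective π := g.surjective.comp (QuotientGroup.mk'_surjective _)
  have hker : π.ker = pCore p ↥E := by
    ext x
    simp [π, g, MonoidHom.mem_ker]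
  set S := (T : Subgroup G) ⊓ E with hS
  set D := E ⊓ normalizer (S : Set G) with hD
  set CS := cStarOf p (T : Subgroup G) with hCS
  obtain ⟨Q, hQ⟩ := exists_sylow_eq_inf_of_isSubnormal T hE.2.1
  have hN : normalizer ((Q : Subgroup ↥E) : Set ↥E) = D.subgroupOf E := by
    ext e
    rw [mem_subgroupOf, hD, Subgroup.mem_inf, mem_normalizer_iff, mem_normalizer_iff, hQ]
    constructor
    · intro h
      refine ⟨e.2, fun z => ⟨fun hz => ?_, fun hz => ?_⟩⟩
      · exact ⟨(h ⟨z, hz.2⟩).1 hz.1, E.mul_mem (E.mul_mem e.2 hz.2) (E.inv_mem e.2)⟩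
      · have hzE : z ∈ E := by
          have := mul_mem (mul_mem (inv_mem e.2) hz.2) e.2
          simpa [mul_assoc] using this
        exact ⟨(h ⟨z, hzE⟩).2 hz.1, hzE⟩
    · intro h z
      exact ⟨fun hz => ((h.2 z).1 ⟨hz, z.2⟩).1, fun hz => ((h.2 z).2 ⟨hz, (e * z * e⁻¹).2⟩).1⟩
  have hkQ : π.ker ≤ (Q : Subgroup ↥E) := hker ▸ CfsgLib.Cores.pCore_le_sylow Q
  have hcomapQ : ((Q : Subgroup ↥E).map π).comap π = (Q : Subgroup ↥E) := comap_map_eq_self hkQ
  set P := Q.mapSurjective hπ with hP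
  have hNP : (normalizer ((P : Subgroup (Matrix.SpecialLinearGroup (Fin 2) K)) : Set (Matrix.SpecialLinearGroup (Fin 2) K))).comap π = D.subgroupOf E := by
    rw [comap_normalizer_eq_of_surjective _ hπ, hP, Sylow.coe_mapSurjective, hcomapQ, hN]
  have hED : ¬ E ≤ D := fun h => by
    have hPn : normalizer ((P : Subgroup (Matrix.SpecialLinearGroup (Fin 2) K)) : Set (Matrix.SpecialLinearGroup (Fin 2) K)) = ⊤ := comap_injective hπ (by
      rw [hNP, comap_top, subgroupOf_eq_top.2 h])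
    rcases perf_or_solv hE.1 with hp | ⟨s, hs⟩
    · obtain ⟨x, hx, hxQ, k, hk⟩ := perf_exists_pElem hp
      refine hxQ (CfsgLib.LocalEven.le_pCoreOf inf_le_right (T.2.to_le inf_le_left) ?_
        (mem_inf_of_pElem hE.2.1 hx hk (h hx).2))
      exact h.trans inf_le_right
    · exact no_solv_le_linear hn h4 hE.1 hE.2.1 iso hsec hE.1 le_rfl hs
  have hno : ∀ F : Subgroup G, IsBaumannBlock p (T : Subgroup G) F → F ≤ D → (F.subgroupOf D).IsSubnormal → False := by
    intro F hF hFD _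
    rcases perf_or_solv hF with hp | ⟨s, hs⟩
    · obtain ⟨x, hx, hxQ, k, hk⟩ := perf_exists_pElem hp
      refine hxQ ?_
      have hxS := mem_inf_of_pElem hE.2.1 (hFD hx).1 hk (hFD hx).2
      exact CfsgLib.LocalEven.le_pCoreOf (N := S ⊓ F) inf_le_right ((T.2.to_le inf_le_left).to_le inf_le_left)
        ((le_inf (hFD.trans inf_le_right) le_normalizer).trans (Baumann.normalizer_inf_le _ _)) ⟨hxS, hx⟩
    · exact no_solv_le_linear hn h4 hE.1 hE.2.1 iso hsec hF (hFD.trans inf_le_left) hs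
  have hDCS : D ≤ CS := le_cStar_of_cap hG hB hcov hbel hE inf_le_left
    (fun x hx => ⟨hx.1, mem_normalizer_of_conj_le (by
      rintro _ ⟨z, hz, rfl⟩
      have h1 : z * x = x * z := mem_centralizer_iff.1 hx.2 z hz.2
      have h2 : x * z * x⁻¹ = z := by rw [← h1, mul_inv_cancel_right]
      simpa using h2.symm ▸ hz)⟩)
    hED
    (fun t ht htE => by
      have h1 : t ∈ normalizer (D : Set G) := by
        refine Baumann.normalizer_inf_le _ _ ⟨htE, ?_⟩
        exact Subgroup.le_normalizer (Baumann.normalizer_inf_le (T : Subgroup G) E ⟨Subgroup.le_normalizer ht, htE⟩)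
      exact (mem_normalizer_iff_map_conj_eq.1 h1).le)
    hno
  have hmax : ∀ X : Subgroup G, X ≤ E → D ≤ X → X = D ∨ X = E := by
    intro X hXE hDX
    have hle : D.subgroupOf E ≤ X.subgroupOf E := comap_mono hDX
    have hkX : π.ker ≤ X.subgroupOf E := hkQ.trans ((le_normalizer (H := (Q : Subgroup ↥E))).trans (hN.le.trans hle))
    have hXmap : normalizer ((P : Subgroup (Matrix.SpecialLinearGroup (Fin 2) K)) : Set (Matrix.SpecialLinearGroup (Fin 2) K)) ≤ (X.subgroupOf E).map π := by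
      rw [← map_comap_eq_self_of_surjective hπ (normalizer ((P : Subgroup (Matrix.SpecialLinearGroup (Fin 2) K)) : Set (Matrix.SpecialLinearGroup (Fin 2) K))), hNP]
      exact map_mono hle
    rcases sl2_normalizer_max P hXmap with h | h
    · left
      have h1 := congrArg (Subgroup.comap π) h
      rw [comap_map_eq_self hkX, hNP] at h1
      rw [← map_subgroupOf_eq_of_le hXE, h1, map_subgroupOf_eq_of_le inf_le_left]
    · right
      have h1 := congrArg (Subgroup.comap π) h
      rw [comap_map_eq_self hkX, comap_top] at h1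
      exact le_antisymm hXE (subgroupOf_eq_top.1 h1)
  have hshape : CS ⊓ E = D := by
    rcases hmax (CS ⊓ E) inf_le_right (le_inf hDCS inf_le_left) with h | h
    · exact h
    · exact absurd (h.ge.trans inf_le_left) hE.2.2
  refine ⟨hshape, ⟨g⟩, fun e he hen => ?_⟩
  rw [hshape] at hen
  refine (hshape.ge ⟨he, mem_normalizer_of_conj_le ?_⟩).1
  rintro _ ⟨z, hz, rfl⟩
  have hzD : z ∈ D := ⟨hz.2, Subgroup.le_normalizer hz⟩
  have h1 := conj_mem_normalizer hen hzD
  obtain ⟨k, hk⟩ := T.2 ⟨z, hz.1⟩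
  have hk' : z ^ p ^ k = 1 := congrArg Subtype.val hk
  refine mem_inf_of_pElem hE.2.1 h1.1 (k := k) ?_ h1.2
  show (e * z * e⁻¹) ^ p ^ k = 1
  rw [conj_pow, hk', mul_one, mul_inv_cancel]

end

end CfsgLib.LocalEven.CStar
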