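import Cfsg.Agent.Lib.LocalEven.CStar.Line

/-!
Every member off a line commutes with some member of it and, for `q ≥ 3`, with all of them.
-/

set_option autoImplicit false
set_option linter.unusedSectionVars false
set_option linter.style.haveILetI false

namespace CfsgLib.LocalEven.CStar

open CfsgLib.Fusion (conjSub mem_conjSub conj_mem_conjSub conjSub_conjSub conjSub_one card_conjSub)

variable {Γ : Type*} [Group Γ] [Finite Γ] {M : Type*} [AddCommGroup M] [DistribMulAction Γ M] [Finite M]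

/-- The image of a subgroup of the module under `d`. -/
def smulSub (d : Γ) (S : AddSubgroup M) : AddSubgroup M := S.comap (DistribSMul.toAddMonoidHom M d⁻¹)

theorem mem_smulSub {d : Γ} {S : AddSubgroup M} {v : M} : v ∈ smulSub d S ↔ d⁻¹ • v ∈ S := Iff.rfl

namespace RootClass

variable {A : Set (Subgroup Γ)} {P : Subgroup Γ → AddSubgroup M} {q : ℕ} (h : RootClass A P q)
include h

theorem comm_self {D : Subgroup Γ} (hD : D ∈ A) : Comm D D := fun a ha b hb => by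
  refine (inv_mul_eq_one.1 (h.faithful _ fun w => ?_)).symm
  rw [mul_smul, inv_smul_eq_iff, mul_smul, mul_smul]
  have h1 : a • (b • w - w) = b • w - w := h.fixP D hD a ha _ (h.quad D hD b hb w)
  have h2 : b • (a • w - w) = a • w - w := h.fixP D hD b hb _ (h.quad D hD a ha w)
  rw [smul_sub] at h1 h2
  calc a • b • w = (b • w - w) + a • w := by rw [← h1]; abel
    _ = (a • w - w) + b • w := by abel
    _ = b • a • w := by rw [← h2]; abel

theorem card_pair {D R : Subgroup Γ} (hD : D ∈ A) (hR : R ∈ A) (hne : D ≠ R) :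
    Nat.card ↥(P D ⊔ P R) = q * q := by
  have hsum := CfsgLib.NoFF.card_sup_mul_card_inf (P D) (P R)
  rwa [(AddSubgroup.eq_bot_iff_forall (P D ⊓ P R)).2 fun w hw =>
      h.disjoint hD hR hne w (AddSubgroup.mem_inf.1 hw).1 (AddSubgroup.mem_inf.1 hw).2,
    h.cardP D hD, h.cardP R hR, AddSubgroup.card_bot, mul_one] at hsum

/-- A member whose elements fix a nonzero vector of the point of another commutes with it. -/
theorem comm_of_fix {c x : Subgroup Γ} (hc : c ∈ A) (hx : x ∈ A) {v : M} (hv : v ∈ P x) (hv0 : v ≠ 0) {d : Γ}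
    (hd : d ∈ c) (hd1 : d ≠ 1) (hfix : d • v = v) : Comm c x := by
  refine (h.norm x hx c hc d hd hd1 ?_).symm
  by_contra hne
  refine hv0 (h.disjoint (h.conj x hx d) hx hne v ?_ hv)
  rw [h.equiv x hx d v, show d⁻¹ • v = v by rw [inv_smul_eq_iff, hfix]]
  exact hv

/-- A member on the line of `D`, `R`. -/
theorem mem_line {D R x : Subgroup Γ} (hD : D ∈ A) (hR : R ∈ A) (hnc : ¬ Comm D R) (hx : x ∈ A)
    (hle : P x ≤ P D ⊔ P R) : x = D ∨ ∃ d ∈ D, x = conjSub d R := by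
  obtain ⟨v, hv, hv0⟩ := h.exists_ne_zero hx
  rcases h.cover hD hR hnc (hle hv) hv0 with h1 | ⟨d, hd, h1⟩
  · exact Or.inl (by_contra fun hne => hv0 (h.disjoint hx hD hne v hv h1))
  · exact Or.inr ⟨d, hd, by_contra fun hne => hv0 (h.disjoint hx (h.conj R hR d) hne v hv h1)⟩

theorem line_span {x y : Subgroup Γ} {S : AddSubgroup M} (hx : x ∈ A) (hy : y ∈ A) (hne : x ≠ y)
    (hxS : P x ≤ S) (hyS : P y ≤ S) (hS : Nat.card ↥S = q * q) : P x ⊔ P y = S :=
  AddSubgroup.eq_of_le_of_card_ge (sup_le hxS hyS) (by rw [h.card_pair hx hy hne, hS])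

theorem fix_span {c x y : Subgroup Γ} (hc : c ∈ A) (hx : x ∈ A) (hy : y ∈ A) (h1 : Comm c x) (h2 : Comm c y)
    {d : Γ} (hd : d ∈ c) {v : M} (hv : v ∈ P x ⊔ P y) : d • v = v := by
  obtain ⟨a, ha, b, hb, rfl⟩ := AddSubgroup.mem_sup.1 hv
  rw [smul_add, h.fix_of_comm hc hx h1 hd ha, h.fix_of_comm hc hy h2 hd hb]

/-- Two distinct members on a line do not commute. -/
theorem line_noncomm {D R x y : Subgroup Γ} (hD : D ∈ A) (hR : R ∈ A) (hnc : ¬ Comm D R) (hx : x ∈ A) (hy : y ∈ A)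
    (hxS : P x ≤ P D ⊔ P R) (hyS : P y ≤ P D ⊔ P R) (hne : x ≠ y) : ¬ Comm x y := by
  intro hc
  have hDR : D ≠ R := fun e => hnc (e ▸ h.comm_self hD)
  have hsp := h.line_span hx hy hne hxS hyS (h.card_pair hD hR hDR)
  obtain ⟨e, he, he1⟩ := h.exists_ne_one hx
  have hfix : ∀ v ∈ P D ⊔ P R, e • v = v := fun v hv => h.fix_span hx hx hy (h.comm_self hx) hc he (hsp ▸ hv)
  have key : ∀ z ∈ A, P z ≤ P D ⊔ P R → Comm x z := by
    intro z hz hzS
    obtain ⟨v, hv, hv0⟩ := h.exists_ne_zero hz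
    exact h.comm_of_fix hx hz hv hv0 he he1 (hfix v (hzS hv))
  rcases h.mem_line hD hR hnc hx hxS with rfl | ⟨d, hd, rfl⟩
  · exact hnc (key R hR le_sup_right)
  · have h1 := (key D hD le_sup_left).conj d⁻¹
    rw [conjSub_conjSub, inv_mul_cancel, conjSub_one, h.conj_inv_self (inv_mem hd)] at h1
    exact hnc h1.symm

/-- A member off a line commutes with some member of it. -/
theorem exists_comm {D R c : Subgroup Γ} (hD : D ∈ A) (hR : R ∈ A) (hnc : ¬ Comm D R) (hc : c ∈ A)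
    (hoff : ¬ P c ≤ P D ⊔ P R) : ∃ x ∈ A, P x ≤ P D ⊔ P R ∧ Comm c x := by
  classical
  by_contra hnone
  push Not at hnone
  obtain ⟨d, hd, hd1⟩ := h.exists_ne_one hc
  have hDR : D ≠ R := fun e => hnc (e ▸ h.comm_self hD)
  set S := P D ⊔ P R with hS
  set S' : AddSubgroup M := smulSub d S with hS'def
  have hS' : Nat.card ↥S' = Nat.card ↥S := Nat.card_congr
    { toFun := fun v => ⟨d⁻¹ • (v : M), mem_smulSub.1 v.2⟩
      invFun := fun v => ⟨d • (v : M), mem_smulSub.2 (by rw [inv_smul_smul]; exact v.2)⟩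
      left_inv := fun v => Subtype.ext (smul_inv_smul d (v : M))
      right_inv := fun v => Subtype.ext (inv_smul_smul d (v : M)) }
  have hle : S ⊔ S' ≤ S ⊔ P c := by
    refine sup_le le_sup_left fun v hv => ?_
    have h2 := h.quad c hc d hd (d⁻¹ • v)
    rw [smul_inv_smul] at h2
    have := add_mem (AddSubgroup.mem_sup_left (T := P c) (mem_smulSub.1 hv)) (AddSubgroup.mem_sup_right (S := S) h2)
    rwa [add_sub_cancel] at this
  have h1 := CfsgLib.NoFF.card_sup_mul_card_inf S S'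
  have h2 := CfsgLib.NoFF.card_sup_mul_card_inf S (P c)
  rw [hS', h.card_pair hD hR hDR] at h1
  rw [h.card_pair hD hR hDR, h.cardP c hc] at h2
  have h3 := AddSubgroup.card_le_of_le hle
  have h4 : 1 < Nat.card ↥(S ⊓ S') := by
    have hq := h.two
    have hpos : 0 < Nat.card ↥(S ⊓ P c) := Nat.card_pos
    by_contra h5
    push Not at h5
    have e1 : Nat.card ↥(S ⊔ S') * Nat.card ↥(S ⊓ S') ≤ q * q * q := by
      calc Nat.card ↥(S ⊔ S') * Nat.card ↥(S ⊓ S') ≤ Nat.card ↥(S ⊔ P c) * 1 := Nat.mul_le_mul h3 h5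
        _ ≤ Nat.card ↥(S ⊔ P c) * Nat.card ↥(S ⊓ P c) := Nat.mul_le_mul_left _ hpos
        _ = _ := h2
    rw [h1] at e1
    nlinarith
  obtain ⟨w, hw0⟩ : ∃ w : ↥(S ⊓ S'), w ≠ 0 := by
    haveI := Finite.one_lt_card_iff_nontrivial.1 h4
    exact exists_ne 0
  obtain ⟨hvS, hvS'⟩ := AddSubgroup.mem_inf.1 w.2
  set v : M := (w : M)
  have hv0 : v ≠ 0 := fun e => hw0 (Subtype.ext e)
  have hmem : ∀ u : M, u ∈ S → u ≠ 0 → ∃ y ∈ A, P y ≤ S ∧ u ∈ P y := by
    intro u hu hu0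
    rcases h.cover hD hR hnc hu hu0 with e | ⟨e', he, e⟩
    · exact ⟨D, hD, le_sup_left, e⟩
    · exact ⟨_, h.conj R hR e', (h.point_conj_le hR hD he).trans (sup_comm (P R) (P D)).le, e⟩
  obtain ⟨x, hx, hxS, hvx⟩ := hmem v hvS hv0
  obtain ⟨y, hy, hyS, huy⟩ := hmem (d⁻¹ • v) (mem_smulSub.1 hvS') (fun e => hv0 (by rw [← smul_inv_smul d v, e, smul_zero]))
  have hxy : x = conjSub d y := by
    by_contra hne
    exact hv0 (h.disjoint hx (h.conj y hy d) hne v hvx ((h.equiv y hy d v).2 huy))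
  rcases eq_or_ne x y with rfl | hne
  · exact hnone x hx hxS (h.norm x hx c hc d hd hd1 hxy.symm).symm
  · have hyc : y ≠ c := fun e => hoff (e ▸ hyS)
    have hxP : P x ≤ P y ⊔ P c := hxy ▸ h.point_conj_le hy hc hd
    have e1 := h.line_span hx hy hne hxP le_sup_left (h.card_pair hy hc hyc)
    exact hoff (le_trans le_sup_right (e1.ge.trans (sup_le hxS hyS)))

/-- For `q ≥ 3` a member off a line commutes with all of it. -/
theorem comm_all (hq : 3 ≤ q) {D R c : Subgroup Γ} (hD : D ∈ A) (hR : R ∈ A) (hnc : ¬ Comm D R) (hc : c ∈ A)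
    (hoff : ¬ P c ≤ P D ⊔ P R) {y : Subgroup Γ} (hy : y ∈ A) (hyS : P y ≤ P D ⊔ P R) : Comm c y := by
  classical
  by_contra hcy
  obtain ⟨x0, hx0, hx0S, hcx⟩ := h.exists_comm hD hR hnc hc hoff
  have hDR : D ≠ R := fun e => hnc (e ▸ h.comm_self hD)
  have hxy : x0 ≠ y := fun e => hcy (e ▸ hcx)
  have hne_c : c ≠ y := fun e => hoff (e ▸ hyS)
  have hm := h.line_span hx0 hy hxy hx0S hyS (h.card_pair hD hR hDR)
  have hxync := h.line_noncomm hD hR hnc hx0 hy hx0S hyS hxy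
  have hcne : c ≠ x0 := fun e => hoff (e ▸ hx0S)
  obtain ⟨d, hd, hd1⟩ := h.exists_ne_one hc
  set c' := conjSub d y with hc'def
  have hc' : c' ∈ A := h.conj y hy d
  have hc'k : P c' ≤ P y ⊔ P c := h.point_conj_le hy hc hd
  have hc'y : c' ≠ y := fun e => hcy (h.norm y hy c hc d hd hd1 e).symm
  have hc'c : c' ≠ c := h.conj_ne hne_c.symm hd
  have hc'ync : ¬ Comm c' y := h.line_noncomm hy hc (fun e => hcy e.symm) hc' hy hc'k le_sup_left hc'y
  obtain ⟨e1, he1, e2, he2, he1', he2', he12⟩ :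
      ∃ e1 ∈ y, ∃ e2 ∈ y, e1 ≠ 1 ∧ e2 ≠ 1 ∧ e1 ≠ e2 := by
    obtain ⟨e1, he1, he1'⟩ := h.exists_ne_one hy
    by_contra hcc
    push Not at hcc
    have hsub : (y : Set Γ) ⊆ ({1, e1} : Set Γ) := fun e he => by
      rcases eq_or_ne e 1 with r | r
      · exact Or.inl r
      · exact Or.inr (hcc e1 he1 e he he1' r).symm
    have h1 := Set.ncard_le_ncard hsub (Set.toFinite _)
    have h2 : ({1, e1} : Set Γ).ncard ≤ 2 := le_of_le_of_eq (Set.ncard_insert_le _ _) (by rw [Set.ncard_singleton])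
    have h3 := h.cardD y hy
    rw [← SetLike.coe_sort_coe, Nat.card_coe_set_eq] at h3
    omega
  have hzS : ∀ e ∈ y, P (conjSub e x0) ≤ P x0 ⊔ P y := fun e he => h.point_conj_le hx0 hy he
  obtain ⟨z, hz, hzm, hzy, hzx, hznc⟩ :
      ∃ z ∈ A, P z ≤ P x0 ⊔ P y ∧ z ≠ y ∧ z ≠ x0 ∧ ¬ Comm c' z := by
    have hxne : ∀ e ∈ y, e ≠ 1 → conjSub e x0 ≠ x0 := fun e he he' r => hxync (h.norm x0 hx0 y hy e he he' r)
    by_cases hb1 : Comm c' (conjSub e1 x0)
    swap
    · exact ⟨_, h.conj x0 hx0 e1, hzS e1 he1, h.conj_ne hxy he1, hxne e1 he1 he1', hb1⟩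
    refine ⟨_, h.conj x0 hx0 e2, hzS e2 he2, h.conj_ne hxy he2, hxne e2 he2 he2', fun hb2 => hc'ync ?_⟩
    have hzne : conjSub e1 x0 ≠ conjSub e2 x0 := fun r => hxync (h.comm_of_conj_eq hx0 hy he1 he2 he12 r)
    have hz12 := h.line_span (h.conj x0 hx0 e1) (h.conj x0 hx0 e2) hzne (hzS e1 he1) (hzS e2 he2) (h.card_pair hx0 hy hxy)
    obtain ⟨f, hf, hf1⟩ := h.exists_ne_one hc'
    obtain ⟨v, hv, hv0⟩ := h.exists_ne_zero hy
    exact h.comm_of_fix hc' hy hv hv0 hf hf1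
      (h.fix_span hc' (h.conj x0 hx0 e1) (h.conj x0 hx0 e2) hb1 hb2 hf
        (hz12.symm ▸ AddSubgroup.mem_sup_right (S := P x0) hv))
  have hc'z : c' ≠ z := fun e => hznc (e ▸ h.comm_self hc')
  -- the two planes meet
  have hU1 : P c' ⊔ P z ≤ (P x0 ⊔ P y) ⊔ P c :=
    sup_le (hc'k.trans (sup_le_sup le_sup_right le_rfl)) (hzm.trans le_sup_left)
  have hU2 : P c ⊔ P x0 ≤ (P x0 ⊔ P y) ⊔ P c := sup_le le_sup_right (le_sup_left.trans le_sup_left)
  have hsum := CfsgLib.NoFF.card_sup_mul_card_inf (P c' ⊔ P z) (P c ⊔ P x0)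
  rw [h.card_pair hc' hz hc'z, h.card_pair hc hx0 hcne] at hsum
  have h3 := AddSubgroup.card_le_of_le (sup_le hU1 hU2)
  have h2 := CfsgLib.NoFF.card_sup_mul_card_inf (P x0 ⊔ P y) (P c)
  rw [h.card_pair hx0 hy hxy, h.cardP c hc] at h2
  have hpos : 0 < Nat.card ↥((P x0 ⊔ P y) ⊓ P c) := Nat.card_pos
  have h4 : 1 < Nat.card ↥((P c' ⊔ P z) ⊓ (P c ⊔ P x0)) := by
    by_contra h5
    push Not at h5
    have e1' : Nat.card ↥((P c' ⊔ P z) ⊔ (P c ⊔ P x0)) * Nat.card ↥((P c' ⊔ P z) ⊓ (P c ⊔ P x0)) ≤ q * q * q :=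
      le_trans (Nat.mul_le_mul h3 h5) ((Nat.mul_le_mul_left _ hpos).trans h2.le)
    rw [hsum] at e1'
    have := h.two
    nlinarith
  obtain ⟨w', hw0⟩ : ∃ w' : ↥((P c' ⊔ P z) ⊓ (P c ⊔ P x0)), w' ≠ 0 := by
    haveI := Finite.one_lt_card_iff_nontrivial.1 h4
    exact exists_ne 0
  obtain ⟨hv1, hv2⟩ := AddSubgroup.mem_inf.1 w'.2
  set v : M := (w' : M)
  have hv0 : v ≠ 0 := fun e => hw0 (Subtype.ext e)
  obtain ⟨w, hw, hwS, hvw⟩ : ∃ w ∈ A, P w ≤ P c' ⊔ P z ∧ v ∈ P w := by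
    rcases h.cover hc' hz hznc hv1 hv0 with e | ⟨f, hf, e⟩
    · exact ⟨c', hc', le_sup_left, e⟩
    · exact ⟨_, h.conj z hz f, (h.point_conj_le hz hc' hf).trans (sup_comm (P z) (P c')).le, e⟩
  obtain ⟨d0, hd0, hd0'⟩ := h.exists_ne_one hx0
  have hwc : Comm w c := (h.comm_of_fix hc hw hvw hv0 hd hd1
    (h.fix_span hc hc hx0 (h.comm_self hc) hcx hd hv2)).symm
  have hwx : Comm w x0 := (h.comm_of_fix hx0 hw hvw hv0 hd0 hd0'
    (h.fix_span hx0 hc hx0 hcx.symm (h.comm_self hx0) hd0 hv2)).symm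
  have hoff' : ¬ P c ≤ P x0 ⊔ P y := by rw [hm]; exact hoff
  have hw_c : w ≠ c := by
    rintro rfl
    have e1 := h.line_span hw hc' hc'c.symm hwS le_sup_left (h.card_pair hc' hz hc'z)
    have e2 := h.line_span hw hc' hc'c.symm (le_sup_right : P w ≤ P y ⊔ P w) hc'k (h.card_pair hy hc hne_c.symm)
    have hzk : P z ≤ P y ⊔ P w := le_sup_right.trans ((e1.symm.trans e2).le)
    have e3 := h.line_span hz hy hzy hzk le_sup_left (h.card_pair hy hc hne_c.symm)
    exact hoff' (le_sup_right.trans (e3.ge.trans (sup_le hzm le_sup_right)))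
  have hw_x : w ≠ x0 := by
    rintro rfl
    have e1 := h.line_span hw hz hzx.symm hwS le_sup_right (h.card_pair hc' hz hc'z)
    have hc'm : P c' ≤ P w ⊔ P y := le_sup_left.trans (e1.ge.trans (sup_le le_sup_left hzm))
    have e2 := h.line_span hc' hy hc'y hc'k le_sup_left (h.card_pair hy hc hne_c.symm)
    exact hoff' (le_sup_right.trans (e2.ge.trans (sup_le hc'm le_sup_right)))
  exact hv0 (h.indep3 w hw c hc x0 hx0 hw_c hw_x hwc hwx hcx v hvw hv2)

/-- Every member lies in the group of a line or centralises it. -/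
theorem line_component (hq : 3 ≤ q) {D R : Subgroup Γ} (hD : D ∈ A) (hR : R ∈ A) (hnc : ¬ Comm D R)
    {x : Subgroup Γ} (hx : x ∈ A) : x ≤ D ⊔ R ∨ (Comm x D ∧ Comm x R) := by
  by_cases hle : P x ≤ P D ⊔ P R
  · left
    rcases h.mem_line hD hR hnc hx hle with rfl | ⟨d, hd, rfl⟩
    · exact le_sup_left
    · rintro _ ⟨r, hr, rfl⟩
      have hdm : d ∈ D ⊔ R := Subgroup.mem_sup_left hd
      exact mul_mem (mul_mem hdm (Subgroup.mem_sup_right hr)) (inv_mem hdm)
  · exact Or.inr ⟨h.comm_all hq hD hR hnc hx hle hD le_sup_left, h.comm_all hq hD hR hnc hx hle hR le_sup_right⟩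

theorem line_subnormal (hq : 3 ≤ q) {D R : Subgroup Γ} (hD : D ∈ A) (hR : R ∈ A) (hnc : ¬ Comm D R) :
    (D ⊔ R).IsSubnormal := by
  set X := sSup A with hX
  haveI hXn : X.Normal := by
    refine ⟨fun a ha g => ?_⟩
    have hle : conjSub g X ≤ X := by
      refine Subgroup.map_le_iff_le_comap.2 (sSup_le fun B hB => Subgroup.map_le_iff_le_comap.1 ?_)
      exact le_sSup (h.conj B hB g)
    exact hle (conj_mem_conjSub ha)
  have hKX : D ⊔ R ≤ X := sup_le (le_sSup hD) (le_sSup hR)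
  have hN : X ≤ Subgroup.normalizer ((D ⊔ R : Subgroup Γ) : Set Γ) := by
    refine sSup_le fun x hx => ?_
    rcases h.line_component hq hD hR hnc hx with hle | ⟨h1, h2⟩
    · exact hle.trans Subgroup.le_normalizer
    intro a ha
    refine CfsgLib.Fusion.conjSub_eq_iff_mem_normalizer.1 ?_
    have hfix : ∀ K : Subgroup Γ, Comm x K → conjSub a K = K := fun K hK => by
      ext y
      rw [mem_conjSub]
      refine ⟨fun hy => ?_, fun hy => ?_⟩
      · have := hK a ha _ hy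
        rw [show a * (a⁻¹ * y * a) = y * a by group] at this
        rw [mul_right_cancel this] ; exact hy
      · rw [mul_assoc, ← hK a ha y hy, inv_mul_cancel_left]; exact hy
    rw [conjSub, Subgroup.map_sup]
    exact congrArg₂ (· ⊔ ·) (hfix D h1) (hfix R h2)
  exact Subgroup.IsSubnormal.step _ _ hKX (Subgroup.Normal.isSubnormal hXn)
    ((Subgroup.normal_subgroupOf_iff_le_normalizer hKX).2 hN)

end RootClass

end CfsgLib.LocalEven.CStar
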