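import Cfsg.Agent.Lib.LocalEven.CStar.DegreeBase
import Cfsg.Agent.Lib.LocalEven.CStar.BlockAct
import Cfsg.Agent.Lib.LocalEven.CStar.AltModule

/-!
The commutators of adjacent subgroups seen from a linear member and from a member with solvable top.
-/

set_option autoImplicit false

namespace CfsgLib.LocalEven.CStar

open Cfsg Subgroup
open CfsgLib.LocalEven CfsgLib.LocalEven.SubBlock CfsgLib.LocalEven.BlockCentral
open CfsgLib.LocalEven.BlockBaumann.SemiLin (dt parallel exists_dt_ne dt_smul_left dt_smul_right dt_self)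
open scoped commutatorElement

variable {G : Type*} [Group G] [Finite G] {T : Sylow 2 G} {E : Subgroup G}

theorem exists_moving_maxEA (hG : centralizer (pCore 2 G : Set G) ≤ pCore 2 G)
    (hE : IsBaumannBlock 2 (T : Subgroup G) E) : ∃ A ∈ maxElementaryAbelianSubgroups 2 G,
      A ≤ (T : Subgroup G) ∧ ¬ A ≤ centralizer (bW 2 E : Set G) := by
  obtain ⟨-, -, hJ⟩ := Block.block_position hG hE
  by_contra hc
  push Not at hc
  obtain ⟨A₁, hA₁, hA₁T⟩ := CfsgLib.Transfer.exists_maxEA_le_sylow T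
  refine hJ (commutator_eq_bot_iff_le_centralizer.2 (le_centralizer_iff.1 ?_))
  refine map_le_iff_le_comap.2 (sSup_le fun A hA => map_le_iff_le_comap.1 ?_)
  exact (hc _ (CfsgLib.Transfer.maxEA_map_subtype hA₁ hA₁T hA) (map_subtype_le A)).trans
    (centralizer_le (SetLike.coe_subset_coe.2 (bWE_le E)))

theorem le_baumann_of_maxEA {A : Subgroup G} (hA : A ∈ maxElementaryAbelianSubgroups 2 G)
    (hAT : A ≤ (T : Subgroup G)) : A ≤ baumannSubgroupOf 2 (T : Subgroup G) :=
  (CfsgLib.Transfer.le_thompsonSubgroupOf hA hAT).trans (Baumann.thompson_le_baumann _)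

theorem maxEA_le_normalizer_block (hE : IsBaumannBlock 2 (T : Subgroup G) E) {A : Subgroup G}
    (hA : A ∈ maxElementaryAbelianSubgroups 2 G) (hAT : A ≤ (T : Subgroup G)) : A ≤ normalizer (E : Set G) :=
  (le_baumann_of_maxEA hA hAT).trans (Block.baumann_le_normalizer hE)

/-- A linear member centralises all the commutators. -/
theorem adj_linear (hG : centralizer (pCore 2 G : Set G) ≤ pCore 2 G)
    (hE : IsBaumannBlock 2 (T : Subgroup G) E) {K : Type} [Field K] [Fintype K] {n : ℕ}
    (hn : Fintype.card K = 2 ^ n) (h4 : 4 ≤ Fintype.card K)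
    (iso : Nonempty (↥E ⧸ pCore 2 ↥E ≃* ↥(commutator (Matrix.SpecialLinearGroup (Fin 2) K))))
    (hsec : ActsAsSL2OnSection K (commutator (Matrix.SpecialLinearGroup (Fin 2) K)) E (bW 2 E) (bZ 2 E))
    {z : G} (hz : z ∈ adjOf (T : Subgroup G)) : z ∈ centralizer (E : Set G) := by
  classical
  haveI := charP_of_card_eq hn
  have hQW : ∀ e ∈ pCoreOf 2 E, ∀ u ∈ bW 2 E, ⁅u, e⁆ ∈ bZ 2 E := fun e he u hu => by
    rw [commutatorElement_eq_one_iff_mul_comm.2 (core_comm he hu).symm]; exact one_mem _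
  obtain ⟨R⟩ := nonempty_rep hsec (free_of_action hsec iso hQW ((bW_le E).trans (le_normalizer_bZ E))) hQW
  obtain ⟨v, hR⟩ := exists_rootAction hG hE hn R
  obtain ⟨hQ, hWE⟩ := core_two hE
  obtain ⟨A₀, B₀, hAT, hBT, hA, hB, hcard, u, hu, w, hw, rfl⟩ := hz
  let Act : G → K → Prop := fun g c =>
    ∀ a ∈ bW 2 E, R.vec (g * a * g⁻¹) = R.vec a + (c * dt v (R.vec a)) • v
  have hAct : ∀ {X : Subgroup G}, X ∈ maxElementaryAbelianSubgroups 2 G → X ≤ (T : Subgroup G) →
      ∀ x ∈ X, ∃ c, Act x c := fun hX hXT x hx => hR.baumann x (le_baumann_of_maxEA hX hXT hx)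
  have huniq : ∀ {g : G} {c c' : K}, Act g c → Act g c' → c = c' := by
    intro g c c' h h'
    obtain ⟨x, hx⟩ := exists_dt_ne hR.ne
    obtain ⟨a, ha, rfl⟩ := R.vec_surj x
    exact mul_right_cancel₀ hx (smul_right_cancel_of_ne hR.ne (add_left_cancel ((h a ha).symm.trans (h' a ha))))
  have hzero : ∀ {g : G}, g ∈ normalizer (E : Set G) → (Act g 0 ↔ g ∈ centralizer (bW 2 E : Set G)) := by
    intro g hg
    constructor
    · intro h
      rw [← hWE]
      exact centralizes_of_vec_fix (R := R) hE hg fun a ha => by rw [h a ha, zero_mul, zero_smul, add_zero]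
    · intro h a ha
      rw [vec_fix_of_centralizes (R := R) hE hg (hWE.symm ▸ h) ha, zero_mul, zero_smul, add_zero]
  have hmul : ∀ {g h : G} {c c' : K}, h ∈ normalizer (E : Set G) → Act g c → Act h c' → Act (g * h) (c + c') := by
    intro g h c c' hh hg hh' a ha
    rw [show g * h * a * (g * h)⁻¹ = g * (h * a * h⁻¹) * g⁻¹ by group, hg _ (conj_mem_bW_of hh ha), hh' a ha]
    have e : dt v (R.vec a + (c' * dt v (R.vec a)) • v) = dt v (R.vec a) := by simp [dt]; ring
    rw [e, add_assoc, ← add_smul]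
    congr 2
    ring
  have hfull : ∀ {X : Subgroup G}, X ∈ maxElementaryAbelianSubgroups 2 G → X ≤ (T : Subgroup G) →
      ¬ X ≤ centralizer (bW 2 E : Set G) → ∀ c : K, ∃ x ∈ X, Act x c := by
    intro X hX hXT hmov c
    obtain ⟨v', hv', -, hf, -⟩ := offender_transvections hE hn R hX hXT (hWE.symm ▸ hmov)
    obtain ⟨x₁, hx₁, hx₁'⟩ := hf 1
    obtain ⟨c₁, hc₁⟩ := hAct hX hXT x₁ hx₁
    obtain ⟨y, hy⟩ := exists_dt_ne hv'
    obtain ⟨a, ha, rfl⟩ := R.vec_surj y
    have h1 := add_left_cancel ((hx₁' a ha).symm.trans (hc₁ a ha))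
    rw [one_mul] at h1
    set k : K := c₁ * dt v (R.vec a) / dt v' (R.vec a) with hk
    have hv'v : v' = k • v := by
      rw [hk, div_eq_inv_mul, ← smul_smul, ← h1, smul_smul, inv_mul_cancel₀ hy, one_smul]
    have hk0 : k ≠ 0 := fun h => hv' (by rw [hv'v, h, zero_smul])
    obtain ⟨x, hx, hx'⟩ := hf (c / (k * k))
    refine ⟨x, hx, fun b hb => ?_⟩
    rw [hx' b hb, hv'v, dt_smul_left, smul_smul]
    congr 2
    field_simp
  have hAN := maxEA_le_normalizer_block hE hA hAT
  have hBN := maxEA_le_normalizer_block hE hB hBT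
  have key : ∀ {A B : Subgroup G}, A ∈ maxElementaryAbelianSubgroups 2 G → A ≤ (T : Subgroup G) →
      B ∈ maxElementaryAbelianSubgroups 2 G → B ≤ (T : Subgroup G) → Nat.card ↥A = 2 * Nat.card ↥(A ⊓ B) →
      ∀ a ∈ A, ∃ b ∈ B, a * b ∈ centralizer (bW 2 E : Set G) := by
    intro A B hA hAT hB hBT hcard a ha
    have hAN := maxEA_le_normalizer_block hE hA hAT
    have hBN := maxEA_le_normalizer_block hE hB hBT
    obtain ⟨c, hc⟩ := hAct hA hAT a ha
    by_cases hmov : B ≤ centralizer (bW 2 E : Set G)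
    · refine ⟨1, one_mem B, ?_⟩
      rw [mul_one]
      refine (hzero (hAN ha)).1 ?_
      by_contra hc0
      have hAm : ¬ A ≤ centralizer (bW 2 E : Set G) := fun h => hc0 ((hzero (hAN ha)).2 (h ha))
      obtain ⟨t, -, ht⟩ := Finset.exists_mem_notMem_of_card_lt_card
        (s := ({0, 1} : Finset K)) (t := Finset.univ) (by
          have := Finset.card_le_two (a := (0 : K)) (b := 1)
          rw [Finset.card_univ]; omega)
      simp only [Finset.mem_insert, Finset.mem_singleton, not_or] at ht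
      obtain ⟨a₁, ha₁, h1⟩ := hfull hA hAT hAm 1
      obtain ⟨a₂, ha₂, h2⟩ := hfull hA hAT hAm t
      have hB0 : ∀ {x : G} {d : K}, x ∈ B → Act x d → d = 0 := fun hx hd =>
        huniq hd ((hzero (hBN hx)).2 (hmov hx))
      have hn1 : a₁ ∉ B := fun h => one_ne_zero (hB0 h h1)
      rcases adj_decomp hcard ha₁ hn1 ha₂ with h | h
      · exact ht.1 (hB0 h h2)
      · rw [inv_eq_of_mul_eq_one_left (show a₁ * a₁ = 1 by rw [← pow_two]; exact hA.1.2 a₁ ha₁)] at h
        have h3 := hB0 (Subgroup.mem_inf.1 h).2 (hmul (hAN ha₂) h1 h2)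
        exact ht.2 ((CharTwo.add_eq_zero.1 h3).symm)
    · obtain ⟨b, hb, hb'⟩ := hfull hB hBT hmov c
      refine ⟨b, hb, (hzero (mul_mem (hAN ha) (hBN hb))).1 ?_⟩
      have := hmul (hBN hb) hc hb'
      rwa [CharTwo.add_self_eq_zero] at this
  obtain ⟨y, hyN, hyC, hy⟩ := adj_same (K := E) hA hB hcard hAN hBN (W := bW 2 E) (key hA hAT hB hBT hcard)
    (fun b hb => by
      obtain ⟨a, ha, hba⟩ := key hB hBT hA hAT (adj_symm hA hB hcard) b hb
      refine ⟨a, ha, ?_⟩
      have := inv_mem hba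
      rwa [_root_.mul_inv_rev, inv_eq_of_mul_eq_one_left (show a * a = 1 by rw [← pow_two]; exact hA.1.2 a ha),
        inv_eq_of_mul_eq_one_left (show b * b = 1 by rw [← pow_two]; exact hB.1.2 b hb)] at this)
    hu hw
  exact hy ▸ sq_centralizes hE hyN hyC

/-- From a member with top of order three only one nontrivial commutator is seen. -/
theorem adj_solv (hG : centralizer (pCore 2 G : Set G) ≤ pCore 2 G)
    (hE : IsBaumannBlock 2 (T : Subgroup G) E) {s : G} (hs : Solv 2 E s) :
    ∃ f : G, ∀ z ∈ adjOf (T : Subgroup G), z ∈ centralizer (E : Set G) ∨ z = f := by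
  classical
  obtain ⟨hQ, hWE⟩ := core_two hE
  set W := bW 2 E with hW
  have hcardW : Nat.card ↥W = 2 ^ 2 := by rw [← hWE]; exact hs.card_bWE hE
  set N := (T : Subgroup G) ⊓ normalizer (E : Set G) with hN
  have hNW : N ≤ normalizer (W : Set G) := inf_le_right.trans (normalizer_le_bW E)
  have hWab : ∀ {x y : G}, x ∈ W → y ∈ W → x * y = y * x := fun hx hy => bW_comm hx hy
  -- a common fixed element
  obtain ⟨f, hfW, hf1, hfN⟩ : ∃ f ∈ W, f ≠ 1 ∧ ∀ g ∈ N, g * f = f * g := by
    letI : MulAction ↥N ↥W := MulAction.compHom _ ((normalizerMonoidHom W).comp (inclusion hNW))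
    obtain ⟨f, hf, hf1⟩ := (T.2.to_le (inf_le_left : N ≤ (T : Subgroup G))).exists_fixed_point_of_prime_dvd_card_of_fixed_point
      (G := ↥N) ↥W (by rw [hcardW]; exact dvd_pow_self 2 two_ne_zero)
      (show (1 : ↥W) ∈ MulAction.fixedPoints ↥N ↥W from fun g => map_one ((normalizerMonoidHom W) (inclusion hNW g)))
    exact ⟨f, f.2, fun h => hf1 (Subtype.ext h.symm), fun g hg => mul_inv_eq_iff_eq_mul.1 (congrArg Subtype.val (hf ⟨g, hg⟩))⟩
  refine ⟨f, ?_⟩
  -- the action of an involution moving `W`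
  have hline : ∀ a ∈ N, a * a = 1 → a ∉ centralizer (W : Set G) → ∀ w ∈ W, a * w = w * a ∨ a * w * a⁻¹ = f * w := by
    intro a ha haa hac w hw
    by_cases hc : a * w = w * a
    · exact Or.inl hc
    refine Or.inr ?_
    set Y := W ⊓ centralizer ({a} : Set G) with hY
    have hYW : Y ≠ W := fun h => hac (mem_centralizer_iff.2 fun x hx => mem_centralizer_singleton_iff.1 (h.ge hx).2)
    have hY2 : Nat.card ↥Y ≤ 2 := by
      obtain ⟨k, hk, hY'⟩ := (Nat.dvd_prime_pow Nat.prime_two).1 (hcardW ▸ card_dvd_of_le (inf_le_left : Y ≤ W))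
      rcases (by omega : k ≤ 1 ∨ k = 2) with h | h
      · rw [hY']; calc 2 ^ k ≤ 2 ^ 1 := Nat.pow_le_pow_right (by norm_num) h
          _ = 2 := by norm_num
      · exact absurd (eq_of_le_of_card_ge inf_le_left (by rw [hcardW, hY', h])) hYW
    have hinv : a⁻¹ = a := inv_eq_of_mul_eq_one_left haa
    set x := a * w * a⁻¹ with hx
    have hxW : x ∈ W := (mem_normalizer_iff.1 (hNW ha) w).1 hw
    have hxw : x * w ∈ Y := ⟨mul_mem hxW hw, mem_centralizer_singleton_iff.2 (by
      have e1 : a * (x * w) * a⁻¹ = w * x := by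
        rw [show a * (x * w) * a⁻¹ = (a * a) * w * (a * a)⁻¹ * (a * w * a⁻¹) by rw [hx]; group, haa, one_mul, inv_one,
          mul_one]
      rw [hWab hw hxW] at e1
      exact (mul_inv_eq_iff_eq_mul.1 e1).symm)⟩
    have hxw1 : x * w ≠ 1 := fun h => hc (by
      have e : x = w := by
        have h1 := bW_sq hw
        rw [← mul_one x, ← h1, ← mul_assoc, h, one_mul]
      exact mul_inv_eq_iff_eq_mul.1 e)
    have hfY : f ∈ Y := ⟨hfW, mem_centralizer_singleton_iff.2 (hfN a ha).symm⟩
    have he : x * w = f := by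
      by_contra hne
      let g : Fin 3 → ↥Y := ![1, ⟨f, hfY⟩, ⟨x * w, hxw⟩]
      have hg : Function.Injective g := by
        intro i j hij
        have hij' := congrArg Subtype.val hij
        fin_cases i <;> fin_cases j <;> simp [g] at hij' ⊢
        · exact hf1 hij'.symm
        · exact hxw1 hij'.symm
        · exact hf1 hij'
        · exact hne hij'.symm
        · exact hxw1 hij'
        · exact hne hij'
      have := Nat.card_le_card_of_injective g hg
      rw [Nat.card_eq_fintype_card, Fintype.card_fin] at this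
      omega
    rw [← he, mul_assoc, bW_sq hw, mul_one]
  rintro z ⟨A, B, hAT, hBT, hA, hB, hcard, u, hu, v, hv, rfl⟩
  have hsub : ∀ {X : Subgroup G}, X ∈ maxElementaryAbelianSubgroups 2 G → X ≤ (T : Subgroup G) → X ≤ N :=
    fun hX hXT => le_inf hXT ((le_baumann_of_maxEA hX hXT).trans (Block.baumann_le_normalizer hE))
  have hsq : ∀ {X : Subgroup G}, X ∈ maxElementaryAbelianSubgroups 2 G → ∀ x ∈ X, x * x = 1 :=
    fun hX x hx => by rw [← pow_two]; exact hX.1.2 x hx
  -- two moving elements act alike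
  have hsame : ∀ a ∈ N, ∀ b ∈ N, a * a = 1 → b * b = 1 → a ∉ centralizer (W : Set G) →
      b ∉ centralizer (W : Set G) → a * b ∈ centralizer (W : Set G) := by
    intro a ha b hb haa hbb hac hbc
    have hfix : ∀ {c : G}, c ∈ N → c * c = 1 → c ∉ centralizer (W : Set G) → ∀ w ∈ W, c * w = w * c →
        w = 1 ∨ w = f := by
      intro c hc hcc hcn w hw hcw
      by_contra hne
      push Not at hne
      refine hcn (mem_centralizer_iff.2 fun x hx => ?_)
      rcases hline c hc hcc hcn x hx with h | h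
      · exact h.symm
      exfalso
      -- `w`, `f` and `x` give five elements
      let g : Fin 5 → ↥W := ![1, ⟨f, hfW⟩, ⟨w, hw⟩, ⟨f * w, mul_mem hfW hw⟩, ⟨x, hx⟩]
      have hfix' : ∀ {y : G}, c * y = y * c → x ≠ y := fun hy e => by
        rw [← e, ← mul_inv_eq_iff_eq_mul, h] at hy
        exact hf1 (mul_eq_right.1 hy)
      have hg : Function.Injective g := by
        have h1 : f * w ≠ 1 := fun e => hne.2 (by rw [← mul_one f, ← bW_sq hw, ← mul_assoc, e, one_mul])
        have h2 : f * w ≠ f := fun e => hne.1 (mul_eq_left.1 e)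
        have h3 : f * w ≠ w := fun e => hf1 (mul_eq_right.1 e)
        have x1 : x ≠ 1 := hfix' (by rw [mul_one, one_mul])
        have x2 : x ≠ f := hfix' (hfN c hc)
        have x3 : x ≠ w := hfix' hcw
        have x4 : x ≠ f * w := hfix' (by rw [← mul_assoc, hfN c hc, mul_assoc, hcw, ← mul_assoc])
        intro i j hij
        have hij' := congrArg Subtype.val hij
        fin_cases i <;> fin_cases j <;> simp [g] at hij' ⊢ <;>
          first
            | exact hf1 hij' | exact hf1 hij'.symm | exact hne.1 hij' | exact hne.1 hij'.symm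
            | exact hne.2 hij' | exact hne.2 hij'.symm | exact h1 hij' | exact h1 hij'.symm
            | exact h2 hij' | exact h2 hij'.symm | exact h3 hij' | exact h3 hij'.symm
            | exact x1 hij' | exact x1 hij'.symm | exact x2 hij' | exact x2 hij'.symm
            | exact x3 hij' | exact x3 hij'.symm | exact x4 hij' | exact x4 hij'.symm
      have := Nat.card_le_card_of_injective g hg
      rw [Nat.card_eq_fintype_card, Fintype.card_fin, hcardW] at this
      omega
    refine mem_centralizer_iff.2 fun w hw => ?_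
    rw [eq_comm, ← mul_inv_eq_iff_eq_mul,
      show a * b * w * (a * b)⁻¹ = a * (b * w * b⁻¹) * a⁻¹ by group]
    rcases hline b hb hbb hbc w hw with h | h
    · rw [mul_inv_eq_iff_eq_mul.2 h, mul_inv_eq_iff_eq_mul]
      rcases hfix hb hbb hbc w hw h with rfl | rfl
      · rw [one_mul, mul_one]
      · exact hfN a ha
    · rw [h, show a * (f * w) * a⁻¹ = (a * f * a⁻¹) * (a * w * a⁻¹) by group, mul_inv_eq_iff_eq_mul.2 (hfN a ha)]
      rcases hline a ha haa hac w hw with h' | h'
      · exfalso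
        rcases hfix ha haa hac w hw h' with rfl | rfl
        · rw [mul_one, mul_inv_cancel, mul_one] at h
          exact hf1 h.symm
        · rw [mul_inv_eq_iff_eq_mul.2 (hfN b hb)] at h
          exact hf1 (mul_eq_right.1 h.symm)
      · rw [h', ← mul_assoc, bW_sq hfW, one_mul]
  have key : ∀ {A B : Subgroup G}, A ∈ maxElementaryAbelianSubgroups 2 G → A ≤ (T : Subgroup G) →
      B ∈ maxElementaryAbelianSubgroups 2 G → B ≤ (T : Subgroup G) → Nat.card ↥A = 2 * Nat.card ↥(A ⊓ B) →
      ∀ a ∈ A, (∀ b ∈ B, a * b ∉ centralizer (W : Set G)) → ∀ u ∈ A, ∀ v ∈ B, ⁅u, v⁆ = 1 ∨ ⁅u, v⁆ = f := by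
    intro A B hA hAT hB hBT hcard a ha hab u hu v hv
    have hac : a ∉ centralizer (W : Set G) := fun h => hab 1 (one_mem B) (by rw [mul_one]; exact h)
    have hBc : ∀ b ∈ B, b ∈ centralizer (W : Set G) := fun b hb => by
      by_contra h
      exact hab b hb (hsame a (hsub hA hAT ha) b (hsub hB hBT hb) (hsq hA a ha) (hsq hB b hb) hac h)
    obtain ⟨w, hw, hwa⟩ : ∃ w ∈ W, w * a ≠ a * w := by
      by_contra h
      push Not at h
      exact hac (mem_centralizer_iff.2 h)
    have hwB : w ∈ B := inf_centralizer_le_of_maxEA hB (elemAb_bW E)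
      ⟨hw, mem_centralizer_iff.2 fun b hb => (mem_centralizer_iff.1 (hBc b hb) w hw).symm⟩
    have hwA : w ∉ A := fun h => hwa (CfsgLib.PGroup.elemAb_comm hA.1 h ha)
    rcases adj_move hA hB hcard hwB hwA hu hv with h | ⟨-, h⟩
    · exact Or.inl h
    rw [h]
    by_cases huc : u ∈ centralizer (W : Set G)
    · exact Or.inl (commutatorElement_eq_one_iff_mul_comm.2 (mem_centralizer_iff.1 huc w hw).symm)
    rcases hline u (hsub hA hAT hu) (hsq hA u hu) huc w hw with h' | h'
    · exact Or.inl (commutatorElement_eq_one_iff_mul_comm.2 h')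
    · exact Or.inr (by rw [commutatorElement_def, h', mul_inv_cancel_right])
  have hfinv : f⁻¹ = f := inv_eq_of_mul_eq_one_left (bW_sq hfW)
  by_cases h1 : ∃ a ∈ A, ∀ b ∈ B, a * b ∉ centralizer (W : Set G)
  · obtain ⟨a, ha, hab⟩ := h1
    rcases key hA hAT hB hBT hcard a ha hab u hu v hv with h | h
    · exact Or.inl (h ▸ one_mem _)
    · exact Or.inr h
  by_cases h2 : ∃ b ∈ B, ∀ a ∈ A, b * a ∉ centralizer (W : Set G)
  · obtain ⟨b, hb, hba⟩ := h2
    rcases key hB hBT hA hAT (adj_symm hA hB hcard) b hb hba v hv u hu with h | h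
    · exact Or.inl (by rw [← commutatorElement_inv, h, inv_one]; exact one_mem _)
    · exact Or.inr (by rw [← commutatorElement_inv, h, hfinv])
  push Not at h1 h2
  obtain ⟨y, hyN, hyC, hy⟩ := adj_same (K := E) hA hB hcard ((hsub hA hAT).trans inf_le_right)
    ((hsub hB hBT).trans inf_le_right) (W := W) h1
    (fun b hb => by
      obtain ⟨a, ha, hba⟩ := h2 b hb
      refine ⟨a, ha, ?_⟩
      have := inv_mem hba
      rwa [_root_.mul_inv_rev, inv_eq_of_mul_eq_one_left (hsq hA a ha),
        inv_eq_of_mul_eq_one_left (hsq hB b hb)] at this)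
    hu hv
  exact Or.inl (hy ▸ sq_centralizes hE hyN hyC)

end CfsgLib.LocalEven.CStar
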