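import Cfsg.Agent.Lib.LocalEven.CStar.Hyp
import Cfsg.Agent.Lib.LocalEven.CStar.Assemble

/-!
The induction: subnormality of maximal blocks gives the covering in every group.
-/

set_option autoImplicit false

namespace CfsgLib.LocalEven.CStar

open Cfsg Subgroup

universe u

/-- A maximal block outside `C*(G,T)` is subnormal, given the induction hypothesis. -/
def CoreSubnormal (p : ℕ) : Prop :=
  ∀ (G : Type u) [Group G] [Finite G] (T : Sylow p G), centralizer (pCore p G : Set G) ≤ pCore p G →
    Below p (T : Subgroup G) → ∀ E : Subgroup G, IsMaxBlock p (T : Subgroup G) E → E.IsSubnormal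

theorem covered_of_core {p : ℕ} [Fact p.Prime] (hcore : CoreSubnormal.{u} p) :
    ∀ (G : Type u) [Group G] [Finite G], centralizer (pCore p G : Set G) ≤ pCore p G →
      ∀ T : Sylow p G, Covered p (T : Subgroup G) ∧ Below p (T : Subgroup G) := by
  suffices h : ∀ (n : ℕ) (G : Type u) [Group G] [Finite G], Nat.card G = n →
      centralizer (pCore p G : Set G) ≤ pCore p G →
      ∀ T : Sylow p G, Covered p (T : Subgroup G) ∧ Below p (T : Subgroup G) from
    fun G _ _ => h (Nat.card G) G rfl
  intro n
  induction n using Nat.strong_induction_on with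
  | _ n ih =>
    intro G _ _ hn hG T
    have hbelow : Below p (T : Subgroup G) := fun H hH hQH hBH => by
      refine coveredIn_of_group hBH fun T₀ E hE hout => ?_
      have hlt : Nat.card ↥H < n := hn ▸
        lt_of_le_of_ne (card_le_card_group H) fun e => hH (eq_top_of_card_eq H e)
      refine (ih _ hlt ↥H rfl ?_ T₀).1 E hE hout
      haveI := CfsgLib.Cores.pCore_characteristic (G := G) p
      haveI : (pCore p G).Normal := inferInstance
      have h1 : (pCore p G).subgroupOf H ≤ pCore p ↥H := CfsgLib.Cores.le_pCore
        ((CfsgLib.Cores.isPGroup_pCore (G := G) p).of_equiv (subgroupOfEquivOfLe hQH).symm)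
      intro x hx
      refine h1 (hG (mem_centralizer_iff.2 fun q hq => ?_))
      exact congrArg Subtype.val (mem_centralizer_iff.1 hx ⟨q, hQH hq⟩ (h1 (show (q : G) ∈ pCore p G from hq)))
    refine ⟨fun E hE hout => ?_, hbelow⟩
    obtain ⟨F, hF, hEF⟩ := exists_maxBlock_ge hE hout
    exact ⟨F, hF.1, hcore G T hG hbelow F hF, hEF⟩

end CfsgLib.LocalEven.CStar
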