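import Cfsg.Agent.Lib.LocalEven.CStar.CapAlt
import Cfsg.Agent.Lib.LocalEven.CStar.Induction

/-!
The block structure from the subnormality of maximal blocks.
-/

set_option autoImplicit false

namespace CfsgLib.LocalEven.CStar

open Cfsg Subgroup
open CfsgLib.LocalEven CfsgLib.LocalEven.SubBlock
open scoped commutatorElement

variable {G : Type*} [Group G] [Finite G] {p : ℕ} [Fact p.Prime] {T : Sylow p G} {E : Subgroup G}

/-- The shape of a member asked for in the block structure. -/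
def Shape (p : ℕ) {G : Type*} [Group G] (T E : Subgroup G) [(pCore p ↥E).Normal] : Prop :=
  (∃ (F : Type) (_ : Field F) (_ : Fintype F) (m : ℕ), 3 < p ^ m ∧ Fintype.card F = p ^ m ∧
      Nonempty (↥E ⧸ pCore p ↥E ≃* Matrix.SpecialLinearGroup (Fin 2) F) ∧
      cStarOf p T ⊓ E = E ⊓ Subgroup.normalizer ((T ⊓ E : Subgroup G) : Set G)) ∨
  (p = 2 ∧ ∃ m : ℕ, Nonempty (↥E ⧸ pCore p ↥E ≃* ↥(alternatingGroup (Fin (2 * m + 1)))) ∧
      Nonempty (↥(((cStarOf p T ⊓ E).subgroupOf E).map (QuotientGroup.mk' (pCore p ↥E))) ≃*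
        ↥(alternatingGroup (Fin (2 * m))))) ∨
  (p = 3 ∧ Nonempty (↥E ⧸ pCore p ↥E ≃* ↥(commutator (Matrix.SpecialLinearGroup (Fin 2) (ZMod 3)))) ∧
      ((cStarOf p T ⊓ E).subgroupOf E).map (QuotientGroup.mk' (pCore p ↥E)) = Subgroup.center (↥E ⧸ pCore p ↥E))

/-- The elements of a member normalising its intersection with `C*(G,T)` lie in `C*(G,T)`. -/
def SelfNorm (p : ℕ) {G : Type*} [Group G] (T E : Subgroup G) : Prop :=
  ∀ e ∈ E, e ∈ normalizer ((cStarOf p T ⊓ E : Subgroup G) : Set G) → e ∈ cStarOf p T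

/-- An element centralising `W_F` centralises `F` modulo its radical. -/
theorem commutator_mem_of_centralizes {F : Subgroup G} (hF : IsBaumannBlock p (T : Subgroup G) F) {a : G}
    (ha : a ∈ normalizer (F : Set G)) (hc : a ∈ centralizer (bWE p F : Set G)) {x : G} (hx : x ∈ F) :
    ⁅a, x⁆ ∈ pCoreOf p F := by
  have hst : a ∈ stab (bW p F) (bZ p F) := by
    refine ⟨normalizer_le_bW F ha, normalizer_le_bZ F ha, fun u hu => ?_⟩
    obtain ⟨w, hw, z, hz, rfl⟩ := exists_mul_of_sup (bWE_le F) ((bWE_sup hF).ge hu)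
    have h1 : w * a = a * w := mem_centralizer_iff.1 hc w hw
    have h2 : a * z⁻¹ * a⁻¹ ∈ bZ p F := (mem_normalizer_iff.1 (normalizer_le_bZ F ha) z⁻¹).1 (inv_mem hz)
    have h3 : z * (a * z⁻¹ * a⁻¹) ∈ bZ p F := mul_mem hz h2
    rw [show ⁅w * z, a⁆ = w * (z * (a * z⁻¹ * a⁻¹)) * (a * w⁻¹ * a⁻¹) by rw [commutatorElement_def]; group]
    rw [show a * w⁻¹ * a⁻¹ = w⁻¹ by rw [eq_inv_iff_mul_eq_one]; rw [mul_assoc, mul_assoc, show a⁻¹ * w = w * a⁻¹ by
      rw [eq_mul_inv_iff_mul_eq, mul_assoc, h1, inv_mul_cancel_left]]; group]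
    rw [bW_comm (bWE_le F hw) h3.1, mul_inv_cancel_right]
    exact h3
  refine BlockBaumann.stab_inf_le_core hF (Subgroup.mem_inf.2 ⟨?_,
    (commutator_mem_stab hst (le_normalizer_bW F hx) (le_normalizer_bZ F hx)).1⟩)
  rw [commutatorElement_def]
  exact mul_mem ((mem_normalizer_iff.1 ha x).1 hx) (inv_mem hx)

section
variable (hG : centralizer (pCore p G : Set G) ≤ pCore p G)
include hG

/-- A member has the shape, and is self-normalised or has solvable top. -/
theorem member_facts (hB : baumannSubgroupOf p (T : Subgroup G) ≠ ⊥) (hcov : Covered p (T : Subgroup G))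
    (hbel : Below p (T : Subgroup G)) (hE : E ∈ members p (T : Subgroup G)) [(pCore p ↥E).Normal] :
    Shape p (T : Subgroup G) E ∧ (SelfNorm p (T : Subgroup G) E ∨ ∃ s, Solv p E s) := by
  have hsolv : (p = 2 ∧ Nat.card (↥E ⧸ pCore p ↥E) = 3) ∨ (p = 3 ∧ Nat.card (↥E ⧸ pCore p ↥E) = 8) →
      ∃ s, Solv p E s := fun h => (perf_or_solv hE.1).resolve_left fun hP => by
    rcases h with ⟨hp, h⟩ | ⟨hp, h⟩ <;> have h2 := hP.2 <;> rw [h, hp] at h2 <;> omega
  have hc3 : ∀ (_ : p = 2), Nat.card (↥E ⧸ pCore p ↥E) = 3 →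
      Shape p (T : Subgroup G) E ∧ (SelfNorm p (T : Subgroup G) E ∨ ∃ s, Solv p E s) := fun hp h =>
    ⟨Or.inr (Or.inl (c3_facts hE hp h)), Or.inr (hsolv (Or.inl ⟨hp, h⟩))⟩
  obtain ⟨-, -, -, -, hcases⟩ := id hE.1
  rcases hcases with ⟨K, _, _, n, hn, iso, hsec, -⟩ | ⟨hp2, m, ⟨f⟩, hsec, hQW⟩
  · by_cases h4 : 4 ≤ Fintype.card K
    · obtain ⟨h1, h2, h3⟩ := linear_facts hG hB hcov hbel hE hn h4 iso hsec
      exact ⟨Or.inl ⟨K, _, _, n, by omega, hn, h2, h1⟩, Or.inl h3⟩
    obtain ⟨f⟩ := id iso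
    have hn1 : n ≠ 0 := by
      rintro rfl
      have := Fintype.one_lt_card (α := K)
      rw [hn, pow_zero] at this
      omega
    rcases (show Fintype.card K = 2 ∨ Fintype.card K = 3 by
      have := Fintype.one_lt_card (α := K); omega) with h | h
    · have hp : p = 2 := (Nat.prime_dvd_prime_iff_eq Fact.out Nat.prime_two).1 (h ▸ hn ▸ dvd_pow_self p hn1)
      exact hc3 hp (by rw [Nat.card_congr f.toEquiv, SL3.card_commutator_two h])
    · have hp : p = 3 := (Nat.prime_dvd_prime_iff_eq Fact.out Nat.prime_three).1 (h ▸ hn ▸ dvd_pow_self p hn1)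
      have h8 : Nat.card (↥E ⧸ pCore p ↥E) = 8 := by rw [Nat.card_congr f.toEquiv, SL3.card_commutator h]
      obtain ⟨s, hs⟩ := hsolv (Or.inr ⟨hp, h8⟩)
      have hmap : (commutator (Matrix.SpecialLinearGroup (Fin 2) (ZMod 3))).map (SL3.iso h).toMonoidHom =
          commutator (Matrix.SpecialLinearGroup (Fin 2) K) := by
        rw [map_commutator_eq, MonoidHom.range_eq_top_of_surjective (SL3.iso h).toMonoidHom (SL3.iso h).surjective,
          commutator_def]
      refine ⟨Or.inr (Or.inr ⟨hp, ⟨f.trans (((SL3.iso h).subgroupMap _).trans (MulEquiv.subgroupCongr hmap)).symm⟩,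
        q8_facts hG hB hcov hbel hE hs hp⟩), Or.inr ⟨s, hs⟩⟩
  · by_cases hm : 2 ≤ m
    · subst hp2
      obtain ⟨-, h2, h3⟩ := alt_facts hG hB hcov hbel hE hm f hsec hQW
      exact ⟨Or.inr (Or.inl ⟨rfl, m, ⟨f⟩, h2⟩), Or.inl h3⟩
    rcases (show m = 0 ∨ m = 1 by omega) with rfl | rfl
    · exfalso
      refine not_isPGroup hE.1 ((CfsgLib.LocalEven.isPGroup_pCoreOf p E).to_le fun e he => ?_)
      refine (mem_core_iff ⟨e, he⟩).2 (f.injective (Subtype.ext (Equiv.ext fun i => ?_)))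
      exact Subsingleton.elim (α := Fin 1) _ _
    · refine hc3 hp2 ?_
      haveI : Nontrivial (Fin (2 * 1 + 1)) := Fin.nontrivial_iff_two_le.2 (by omega)
      rw [Nat.card_congr f.toEquiv, nat_card_alternatingGroup, Nat.card_fin]; rfl

/-- The block structure in a group with subnormal maximal blocks. -/
theorem structure_of_below (hne : cStarOf p (T : Subgroup G) ≠ ⊤) (hB : baumannSubgroupOf p (T : Subgroup G) ≠ ⊥)
    (hcov : Covered p (T : Subgroup G)) (hbel : Below p (T : Subgroup G)) :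
    HasBaumannBlockStructure p (T : Subgroup G) (members p (T : Subgroup G)) := by
  classical
  haveI : ∀ E : Subgroup G, (pCore p ↥E).Normal := fun E => by
    haveI := CfsgLib.Cores.pCore_characteristic (G := ↥E) p
    infer_instance
  set CS := cStarOf p (T : Subgroup G) with hCS
  set 𝓑 := members p (T : Subgroup G) with h𝓑
  set 𝓟 := {E ∈ 𝓑 | SelfNorm p (T : Subgroup G) E} with h𝓟
  have hperf : ∀ E ∈ 𝓟, ∀ e ∈ E, ∀ g ∈ sSup (𝓑 \ {E}), e * g ∈ CS → e ∈ CS := by
    intro E hE e he g hg hx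
    have hgC := others_le_centralizer hG hE.1 hg
    refine hE.2 e he ?_
    have hxN : e * g ∈ normalizer (E : Set G) :=
      mul_mem (Subgroup.le_normalizer he) (centralizer_le_normalizer _ hgC)
    have h1 : e * g ∈ normalizer ((CS ⊓ E : Subgroup G) : Set G) :=
      Baumann.normalizer_inf_le _ _ ⟨Subgroup.le_normalizer hx, hxN⟩
    have h2 : g ∈ normalizer ((CS ⊓ E : Subgroup G) : Set G) :=
      centralizer_le_normalizer _ (centralizer_le (SetLike.coe_subset_coe.2 inf_le_right) hgC)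
    simpa using mul_mem h1 (inv_mem h2)
  refine structure_of_covered hG hne hB hcov (fun E hE e he g hg hx => ?_)
    (fun E hE => (member_facts hG hB hcov hbel hE).1)
  by_cases hEP : SelfNorm p (T : Subgroup G) E
  · exact hperf E ⟨hE, hEP⟩ e he g hg hx
  obtain ⟨s, hs⟩ := (member_facts hG hB hcov hbel hE).2.resolve_left hEP
  have hgmem : g ∈ sSup 𝓟 ⊔ sSup (𝓑 \ (𝓟 ∪ {E})) := by
    have hle : sSup (𝓑 \ {E}) ≤ sSup 𝓟 ⊔ sSup (𝓑 \ (𝓟 ∪ {E})) := sSup_le fun F hF => by
      by_cases hFP : F ∈ 𝓟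
      · exact (le_sSup hFP).trans le_sup_left
      · exact (le_sSup (show F ∈ 𝓑 \ (𝓟 ∪ {E}) from ⟨hF.1, fun h => h.elim hFP hF.2⟩)).trans le_sup_right
    exact hle hg
  have hN : sSup (𝓑 \ (𝓟 ∪ {E})) ≤ normalizer ((sSup 𝓟 : Subgroup G) : Set G) := fun c hc =>
    CfsgLib.LocalEven.mem_normalizer_of_conj_le (by
      rw [map_le_iff_le_comap]
      refine sSup_le fun F hF => ?_
      rw [← map_le_iff_le_comap]
      exact ((mem_normalizer_iff_map_conj_eq.1 (sSup_le_normalizer_member hG hF.1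
        ((sSup_le_sSup Set.sdiff_subset : sSup (𝓑 \ (𝓟 ∪ {E})) ≤ sSup 𝓑) hc))).le).trans (le_sSup hF))
  rw [← SetLike.mem_coe, coe_mul_of_right_le_normalizer_left _ _ hN] at hgmem
  obtain ⟨r, hr, gs, hgs, rfl⟩ := hgmem
  have hEr : e * r = r * e := by
    have h1 : r ∈ sSup (𝓑 \ {E}) := sSup_le_sSup (fun F hF => show F ∈ 𝓑 \ {E} from ⟨hF.1, fun h => hEP (h ▸ hF.2)⟩) hr
    exact mem_centralizer_iff.1 (others_le_centralizer hG hE h1) e he
  have hrest : e * gs ∈ sSup (𝓑 \ 𝓟) := mul_mem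
    (le_sSup (show E ∈ 𝓑 \ 𝓟 from ⟨hE, fun h => hEP h.2⟩) he)
    (sSup_le_sSup (fun F hF => show F ∈ 𝓑 \ 𝓟 from ⟨hF.1, fun h => hF.2 (Or.inl h)⟩) hgs)
  have hx' : r * (e * gs) ∈ CS := by
    rw [← mul_assoc, ← hEr, mul_assoc]; exact hx
  have hrCS : r ∈ CS := (iSup₂_le fun F _ => inf_le_left :
      (⨆ F ∈ 𝓟, (CS ⊓ F)) ≤ CS) (mem_iSup_of_split hG le_rfl (fun F hF => hF.1) hperf hr hrest hx')
  have hegs : e * gs ∈ CS := by simpa using mul_mem (inv_mem hrCS) hx'
  obtain ⟨a, haT, haE, hamove, haoth⟩ := exists_separating hG hE hs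
  haveI := CfsgLib.Cores.pCore_characteristic (G := G) p
  haveI : (pCore p G).Normal := inferInstance
  have hpC : pCore p G ≤ CS := (CfsgLib.Cores.pCore_le_sylow T).trans (sylow_le_cStar T)
  have hcom : sSup (𝓑 \ (𝓟 ∪ {E})) ≤ (centralizer ({(QuotientGroup.mk' (pCore p G)) a} : Set (G ⧸ pCore p G))).comap
      (QuotientGroup.mk' (pCore p G)) := by
    refine sSup_le fun F hF x hx => ?_
    have hsol := (member_facts hG hB hcov hbel hF.1).2.resolve_left fun h => hF.2 (Or.inl ⟨hF.1, h⟩)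
    obtain ⟨haN, haC⟩ := haoth F hF.1 (fun h => hF.2 (Or.inr h)) hsol
    have h1 : ⁅a, x⁆ ∈ pCore p G := core_le_pCore hF.1.2.1 (commutator_mem_of_centralizes hF.1.1 haN haC hx)
    rw [mem_comap, mem_centralizer_singleton_iff]
    have h2 := (QuotientGroup.eq_one_iff (N := pCore p G) _).2 h1
    rw [← QuotientGroup.mk'_apply, map_commutatorElement, commutatorElement_eq_one_iff_mul_comm] at h2
    exact h2.symm
  have hag : ⁅a, gs⁆ ∈ pCore p G := by
    rw [← QuotientGroup.eq_one_iff, ← QuotientGroup.mk'_apply, map_commutatorElement,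
      commutatorElement_eq_one_iff_mul_comm]
    exact (mem_centralizer_singleton_iff.1 (mem_comap.1 (hcom hgs))).symm
  refine solv_step hG hB hcov hbel hE hs haT haE hamove he ?_
  have h1 : ⁅a, e * gs⁆ ∈ CS := by
    rw [commutatorElement_def]
    exact mul_mem (mul_mem (mul_mem (sylow_le_cStar T haT) hegs) (inv_mem (sylow_le_cStar T haT))) (inv_mem hegs)
  rw [show ⁅a, e * gs⁆ = ⁅a, e⁆ * (e * ⁅a, gs⁆ * e⁻¹) by simp only [commutatorElement_def]; group] at h1
  have h2 : e * ⁅a, gs⁆ * e⁻¹ ∈ CS := hpC ((inferInstance : (pCore p G).Normal).conj_mem _ hag e)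
  have h3 := mul_mem h1 (inv_mem h2)
  rwa [mul_inv_cancel_right] at h3

end

universe u

/-- The local `C*(G,T)`-theorem, given the subnormality of maximal blocks. -/
theorem structure_of_core {p : ℕ} [Fact p.Prime] (hcore : CoreSubnormal.{u} p) {G : Type u} [Group G] [Finite G]
    (hG : centralizer (pCore p G : Set G) ≤ pCore p G) (T : Sylow p G) (hne : cStarOf p (T : Subgroup G) ≠ ⊤) :
    ∃ 𝓑 : Set (Subgroup G), HasBaumannBlockStructure p (T : Subgroup G) 𝓑 := by
  obtain ⟨hcov, hbel⟩ := covered_of_core hcore G hG T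
  have hB : baumannSubgroupOf p (T : Subgroup G) ≠ ⊥ := by
    by_contra h
    refine hne (eq_top_iff.2 fun g _ => ?_)
    have hT : (T : Subgroup G) = ⊥ := by
      rw [eq_bot_iff]
      refine le_trans (le_inf le_rfl fun t _ => mem_centralizer_iff.2 fun z hz => ?_) h.le
      have h1 : omegaOne p (centerThompsonOf p (T : Subgroup G)) ≤ ⊥ :=
        le_trans (CfsgLib.PGroup.omegaOne_le p _) (inf_le_left.trans ((Baumann.thompson_le_baumann _).trans h.le))
      replace h1 := h1 hz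
      rw [mem_bot.1 h1, one_mul, mul_one]
    refine centralizer_le_cStar _ (mem_centralizer_iff.2 fun z hz => ?_)
    have h1 : z ∈ (⊥ : Subgroup G) := hT ▸ Oz.le_self _ hz
    rw [mem_bot.1 h1, one_mul, mul_one]
  exact ⟨_, structure_of_below hG hne hB hcov hbel⟩

end CfsgLib.LocalEven.CStar
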