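import Cfsg.Agent.Lib.LocalEven.CStar.DegreeAlt
import Cfsg.Agent.Lib.LocalEven.CStar.DegreeMem
import Cfsg.Agent.Lib.LocalEven.CStar.Structure
import Mathlib.GroupTheory.GroupAction.Period

/-!
The degrees of alternating members when `C(G,T)` is proper.
-/

set_option autoImplicit false

namespace CfsgLib.LocalEven.CStar

open Cfsg Subgroup Equiv
open CfsgLib.LocalEven CfsgLib.LocalEven.SubBlock
open CfsgLib.Known.AltAut
open scoped commutatorElement

/-- A power of a permutation in a 2-group fixing the pair of one of its transpositions. -/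
theorem pow_fixes_pair {n : ℕ} {P : Subgroup (Perm (Fin n))} (hP : IsPGroup 2 ↥P) {i j : Fin n} (hij : i ≠ j)
    (hs : swap i j ∈ P) {β : ℕ} (hβ : Nat.card ↥(porb P i) = 2 ^ (β + 1)) {x : Perm (Fin n)} (hx : x ∈ P) :
    ((x ^ 2 ^ β) i = i ∧ (x ^ 2 ^ β) j = j) ∨ ((x ^ 2 ^ β) i = j ∧ (x ^ 2 ^ β) j = i) := by
  classical
  refine pair_fixed hP hij hs (pow_mem hx _) ?_
  set O' := MulAction.orbit (zpowers x) i with hO'
  have hzP : zpowers x ≤ P := zpowers_le.2 hx
  obtain ⟨e, he⟩ := (hP.to_le hzP).card_orbit i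
  have hsub : O' ⊆ porb P i := by
    rintro _ ⟨⟨g, hg⟩, rfl⟩
    exact ⟨g, hzP hg, rfl⟩
  have hcard : 2 ^ e ≤ 2 ^ (β + 1) := he ▸ hβ ▸ Nat.card_mono (Set.toFinite _) hsub
  have heβ : e ≤ β + 1 := (Nat.pow_le_pow_iff_right (by norm_num)).1 hcard
  haveI : Fintype ↥O' := Fintype.ofFinite _
  have hper : ∀ k : ℕ, (x ^ k) i = i ↔ 2 ^ e ∣ k := fun k => by
    rw [show (x ^ k) i = x ^ k • i from rfl, MulAction.pow_smul_eq_iff_minimalPeriod_dvd,
      MulAction.minimalPeriod_eq_card, ← Nat.card_eq_fintype_card, he]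
  rcases (by omega : e ≤ β ∨ e = β + 1) with h | rfl
  · exact Or.inl ((hper _).2 (pow_dvd_pow 2 h))
  have hjO : j ∈ O' := by
    rw [Set.eq_of_subset_of_ncard_le hsub (le_of_eq ?_)]
    · exact ⟨swap i j, hs, swap_apply_left i j⟩
    · exact (Nat.card_coe_set_eq _).symm.trans (hβ.trans (he.symm.trans (Nat.card_coe_set_eq _)))
  obtain ⟨⟨g, hg⟩, hgi⟩ := hjO
  obtain ⟨d, hd⟩ := mem_powers_iff_mem_zpowers.2 hg
  have hdi : (x ^ d) i = j := by rw [show x ^ d = g from hd]; exact hgi
  rcases pair_fixed hP hij hs (pow_mem hx d) (Or.inr hdi) with ⟨h1, -⟩ | ⟨-, h2⟩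
  · exact absurd (h1.symm.trans hdi) hij
  have h3 : 2 ^ (β + 1) ∣ d + d := (hper _).1 (by rw [pow_add, Perm.mul_apply, hdi, h2])
  have h4 : ¬ 2 ^ (β + 1) ∣ d := fun h => hij (((hper d).2 h).symm.trans hdi)
  obtain ⟨k, rfl⟩ : 2 ^ β ∣ d := by
    rw [← two_mul, pow_succ'] at h3
    exact Nat.dvd_of_mul_dvd_mul_left two_pos h3
  obtain ⟨c, rfl⟩ : Odd k := by
    by_contra hk
    obtain ⟨c, rfl⟩ := Nat.not_odd_iff_even.1 hk
    exact h4 ⟨c, by ring⟩
  refine Or.inr ?_
  rw [show 2 ^ β * (2 * c + 1) = 2 ^ β + 2 ^ (β + 1) * c by ring, pow_add, Perm.mul_apply,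
    (hper _).2 (dvd_mul_right _ _)] at hdi
  exact hdi

/-- No element of order four in `SL₂` in characteristic two. -/
theorem sl2_sq_eq_one {F : Type*} [Field F] [CharP F 2] (M : Matrix.SpecialLinearGroup (Fin 2) F) (h : M ^ 4 = 1) :
    M ^ 2 = 1 := by
  set N : Matrix (Fin 2) (Fin 2) F := M.1 - 1 with hN
  have hNM : N + 1 = M.1 := sub_add_cancel _ _
  have h4 : N ^ 4 = 0 := by
    have h1 : (M.1) ^ 4 = 1 := by rw [← Matrix.SpecialLinearGroup.coe_pow, h]; rfl
    rw [← hNM, show (4 : ℕ) = 2 ^ 2 from rfl, add_pow_char_pow_of_commute 2 2 (Commute.one_right N), one_pow] at h1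
    simpa using h1
  have hdet : N.det = 0 := by
    have := congrArg Matrix.det h4
    rw [Matrix.det_pow, Matrix.det_zero] at this
    · exact pow_eq_zero_iff (by norm_num) |>.1 this
  have hsq : N ^ 2 = (N 0 0 + N 1 1) • N := by
    rw [pow_two]
    rw [Matrix.det_fin_two] at hdet
    ext i j
    fin_cases i <;> fin_cases j <;> simp [Matrix.mul_apply, Fin.sum_univ_two]
    · linear_combination -hdet
    · ring
    · ring
    · linear_combination -hdet
  have hN2 : N ^ 2 = 0 := by
    by_cases ht : N 0 0 + N 1 1 = 0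
    · rw [hsq, ht, zero_smul]
    · have h5 : N ^ 4 = ((N 0 0 + N 1 1) ^ 3) • N := by
        rw [show N ^ 4 = N ^ 2 * N ^ 2 from pow_add N 2 2, hsq, smul_mul_smul_comm, ← pow_two N, hsq, smul_smul]
        ring_nf
      rw [h4] at h5
      rw [(smul_eq_zero.1 h5.symm).resolve_left (pow_ne_zero 3 ht), pow_two, mul_zero]
  apply Subtype.ext
  rw [Matrix.SpecialLinearGroup.coe_pow, Matrix.SpecialLinearGroup.coe_one, ← hNM,
    add_pow_char_of_commute 2 (Commute.one_right N), hN2, one_pow, zero_add]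

/-- The order of `A_{2m+1}` determines `m`. -/
theorem alt_card_inj {m m' : ℕ} (h : Nat.card ↥(alternatingGroup (Fin (2 * m + 1))) =
    Nat.card ↥(alternatingGroup (Fin (2 * m' + 1)))) (hm : 1 ≤ m) (hm' : 1 ≤ m') : m = m' := by
  haveI : Nontrivial (Fin (2 * m + 1)) := Fin.nontrivial_iff_two_le.2 (by omega)
  haveI : Nontrivial (Fin (2 * m' + 1)) := Fin.nontrivial_iff_two_le.2 (by omega)
  rw [nat_card_alternatingGroup, nat_card_alternatingGroup, Nat.card_fin, Nat.card_fin] at h
  have h2 : ∀ k : ℕ, 1 ≤ k → (2 * k + 1).factorial / 2 * 2 = (2 * k + 1).factorial := fun k hk =>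
    Nat.div_mul_cancel (Nat.dvd_factorial two_pos (by omega))
  have := (h2 m hm).symm.trans (h ▸ h2 m' hm')
  have := (Nat.factorial_inj (by omega : 1 < 2 * m + 1)).1 this
  omega

/-- `SL₂(F)` is an odd alternating group only for `F` of four elements. -/
theorem sl2_alt_degree {F : Type} [Field F] [Fintype F] {p : ℕ} [Fact p.Prime] {k m : ℕ}
    (hF : Fintype.card F = p ^ k) (hm : 2 ≤ m)
    (f : Matrix.SpecialLinearGroup (Fin 2) F ≃* ↥(alternatingGroup (Fin (2 * m + 1)))) : m = 2 := by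
  by_contra hm2
  haveI := charP_of_card hF
  rcases (Fact.out : p.Prime).eq_two_or_odd with rfl | hodd
  · -- an element of order four
    set n := 2 * m + 1 with hn
    let e : Fin 6 ≃ {i : Fin n // (i : ℕ) < 6} :=
      { toFun := fun i => ⟨⟨i, by omega⟩, i.2⟩, invFun := fun i => ⟨i.1, i.2⟩,
        left_inv := fun i => rfl, right_inv := fun i => rfl }
    let y : Perm (Fin 6) := cyc 0 1 2 * swap 2 3 * swap 4 5
    have hy4 : y ^ 4 = 1 := by decide +kernel
    have hy2 : y ^ 2 ≠ 1 := by decide +kernel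
    have hys : Perm.sign y = 1 := by decide +kernel
    let φ := Perm.extendDomainHom e
    have hxA : φ y ∈ alternatingGroup (Fin n) :=
      Perm.mem_alternatingGroup.2 ((Perm.sign_extendDomain y e).trans hys)
    set x : ↥(alternatingGroup (Fin n)) := ⟨φ y, hxA⟩ with hx
    have h1 : f.symm x ^ 4 = 1 := by
      rw [← map_pow, show x ^ 4 = 1 from Subtype.ext (show φ y ^ 4 = 1 by rw [← map_pow, hy4, map_one]), map_one]
    have h2 := congrArg f (sl2_sq_eq_one _ h1)
    rw [map_pow, MulEquiv.apply_symm_apply, map_one] at h2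
    have h3 : φ y ^ 2 = 1 := congrArg Subtype.val h2
    rw [← map_pow] at h3
    exact hy2 (Perm.extendDomainHom_injective e (h3.trans (map_one _).symm))
  · -- the centre
    have hz : ∀ y, (-1 : Matrix.SpecialLinearGroup (Fin 2) F) * y = y * -1 := fun y => by
      apply Subtype.ext; simp
    have h1 : ∀ y : ↥(alternatingGroup (Fin (2 * m + 1))), f (-1) * y = y * f (-1) := fun y => by
      obtain ⟨y, rfl⟩ := f.surjective y
      rw [← map_mul, hz, map_mul]
    have h2 : ((f (-1) : ↥(alternatingGroup (Fin (2 * m + 1)))) : Perm (Fin (2 * m + 1))) = 1 :=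
      (bijective_conjNormal (n := 2 * m + 1) (by omega) (by omega)).1 (MulEquiv.ext fun y => Subtype.ext (by
        rw [MulAut.conjNormal_apply, map_one, MulAut.one_apply, ← Subgroup.coe_mul, h1 y, Subgroup.coe_mul,
          mul_inv_cancel_right]))
    have h3 : (-1 : Matrix.SpecialLinearGroup (Fin 2) F) = 1 := f.injective (by rw [map_one]; exact Subtype.ext h2)
    have h4 := congrArg (fun A : Matrix.SpecialLinearGroup (Fin 2) F => A.1 0 0) h3
    simp at h4
    have h5 : ((2 : ℕ) : F) = 0 := by push_cast; linear_combination -h4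
    have h6 := (CharP.cast_eq_zero_iff F p 2).1 h5
    have := (Nat.prime_dvd_prime_iff_eq Fact.out Nat.prime_two).1 h6
    omega

variable {G : Type*} [Group G] [Finite G]

section
variable {T : Sylow 2 G} (hG : centralizer (pCore 2 G : Set G) ≤ pCore 2 G)
include hG

/-- An element of an alternating member fixing every pair but one lies outside `C*(G,T)`. -/
theorem notMem_cStar_of_moves (hB : baumannSubgroupOf 2 (T : Subgroup G) ≠ ⊥) (hcov : Covered 2 (T : Subgroup G))
    (hbel : Below 2 (T : Subgroup G)) {E : Subgroup G} (hE : E ∈ members 2 (T : Subgroup G)) {m : ℕ} (hm : 2 ≤ m)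
    [(pCore 2 ↥E).Normal]
    (f : ↥E ⧸ pCore 2 ↥E ≃* ↥(alternatingGroup (Fin (2 * m + 1))))
    (hsec : ActsAsOddPermModuleOnSection (2 * m + 1) (alternatingGroup (Fin (2 * m + 1))) E (bW 2 E) (bZ 2 E))
    (M : AltMod E (2 * m + 1)) {ω : Fin (2 * m + 1)}
    (huniq : ∀ i, (∀ s ∈ (T : Subgroup G) ⊓ E, M.perm s i = i) → i = ω) {e : G} (he : e ∈ E)
    (hmove : M.perm e ω ≠ ω) :
    e ∉ cStarOf 2 (T : Subgroup G) ∧
      ∀ X : Subgroup G, cStarOf 2 (T : Subgroup G) ⊓ E ≤ X → e ∈ X → E ≤ X := by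
  obtain ⟨⟨π, ω', hπ, hker, hS, hD⟩, -, -⟩ := alt_facts hG hB hcov hbel hE hm f hsec (core_two hE.1).1
  let π' : ↥E →* ↥(alternatingGroup (Fin (2 * m + 1))) :=
    MonoidHom.mk' (fun e => ⟨M.perm e, (M.perm_range _).2 ⟨e, e.2, rfl⟩⟩)
      fun a b => Subtype.ext (M.perm_mul a (le_normalizer a.2) b (le_normalizer b.2))
  have hπ' : Function.Surjective π' := fun x => by
    obtain ⟨e, he, hex⟩ := (M.perm_range _).1 x.2
    exact ⟨⟨e, he⟩, Subtype.ext hex⟩
  let g := (π'.liftOfSurjective hπ') ⟨π, fun e he => by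
    rw [MonoidHom.mem_ker] at he ⊢
    exact (hker e).2 ((M.perm_eq_one e e.2).1 (congrArg Subtype.val he))⟩
  have hg : ∀ e, g (π' e) = π e := fun e => MonoidHom.liftOfRightInverse_comp_apply π' _ _ _ e
  have hgs : Function.Surjective g := fun x => by
    obtain ⟨e, rfl⟩ := hπ x
    exact ⟨π' e, hg e⟩
  obtain ⟨σ, hσ⟩ := (bijective_conjNormal (n := 2 * m + 1) (by omega) (by omega)).2
    (MulEquiv.ofBijective g ⟨Finite.injective_iff_surjective.2 hgs, hgs⟩)
  have hrel : ∀ e : ↥E, (π e : Perm (Fin (2 * m + 1))) = σ * M.perm e * σ⁻¹ := fun e => by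
    have h1 := congrArg (fun a : MulAut ↥(alternatingGroup (Fin (2 * m + 1))) => ((a (π' e)) : Perm (Fin (2 * m + 1)))) hσ
    rw [MulAut.conjNormal_apply] at h1
    exact (h1.trans (congrArg Subtype.val (hg e))).symm
  have hfix : ∀ e : ↥E, π e ∈ altStab ω' ↔ M.perm e (σ⁻¹ ω') = σ⁻¹ ω' := fun e => by
    rw [mem_altStab, hrel, Perm.mul_apply, Perm.mul_apply]
    constructor
    · intro h
      apply σ.injective
      rw [h]; simp
    · intro h
      rw [h]; simp
  have hωeq : σ⁻¹ ω' = ω := huniq _ fun s hs =>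
    (hfix ⟨s, hs.2⟩).1 (hS (show (⟨s, hs.2⟩ : ↥E) ∈ ((T : Subgroup G) ⊓ E).subgroupOf E from hs))
  have hnot : e ∉ cStarOf 2 (T : Subgroup G) := fun h => by
    have h1 : e ∈ ((altStab ω').comap π).map E.subtype := hD ▸ ⟨h, he⟩
    obtain ⟨y, hy, hye⟩ := h1
    have h2 := (hfix y).1 hy
    rw [hωeq, show (y : G) = e from hye] at h2
    exact hmove h2
  refine ⟨hnot, fun X hX heX => ?_⟩
  have hle : altStab ω' ≤ (X.subgroupOf E).map π := fun y hy => by
    obtain ⟨k, rfl⟩ := hπ y
    exact ⟨k, hX (hD.ge ⟨k, hy, rfl⟩), rfl⟩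
  rcases altStab_max (by omega) hle with h | h
  · have h1 := (hfix ⟨e, he⟩).1 (h ▸ mem_map_of_mem π (show (⟨e, he⟩ : ↥E) ∈ X.subgroupOf E from heX))
    rw [hωeq] at h1
    exact absurd h1 hmove
  · intro k hk
    obtain ⟨y, hy, hye⟩ := h.ge (mem_top (π ⟨k, hk⟩))
    have h1 : π (y⁻¹ * ⟨k, hk⟩) = 1 := by rw [map_mul, map_inv, hye, inv_mul_cancel]
    have h2 : (y : G)⁻¹ * k ∈ X := by
      exact hX (Subgroup.mem_inf.2 ⟨core_le_cStar (p := 2) (T := T) hE.2.1 ((hker _).1 h1), mul_mem (inv_mem y.2) hk⟩)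
    have := mul_mem (show (y : G) ∈ X from hy) h2
    rwa [mul_inv_cancel_left] at this

/-- With `C(G,T)` proper the degree minus one of an alternating member is a power of two. -/
theorem degree_two (hne : charNormalizersJoin (T : Subgroup G) ≠ ⊤) (hB : baumannSubgroupOf 2 (T : Subgroup G) ≠ ⊥)
    (hcov : Covered 2 (T : Subgroup G)) (hbel : Below 2 (T : Subgroup G)) {E : Subgroup G}
    (hE : E ∈ members 2 (T : Subgroup G)) {m : ℕ} (hm : 2 ≤ m)
    (hsec : ActsAsOddPermModuleOnSection (2 * m + 1) (alternatingGroup (Fin (2 * m + 1))) E (bW 2 E) (bZ 2 E)) :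
    ∃ a, 2 * m = 2 ^ a := by
  classical
  by_contra hpow
  push Not at hpow
  obtain ⟨M⟩ := nonempty_altMod hE.1 hm (fun e he h => BlockBaumann.stab_inf_le_core hE.1 ⟨he, h⟩)
    (core_two hE.1).2 hsec
  obtain ⟨⟨S, hS⟩, heven, ω, hω, huniq⟩ := perm_sylow M hG hE.1 hE.2.1 hm
  set P := M.permOf (T : Subgroup G) with hP
  have hPp : IsPGroup 2 ↥P := M.permOf_pGroup T.2
  have hmoved : ∀ i, i ≠ ω → ∃ g ∈ P, g i ≠ i := fun i hi => by
    by_contra h
    push Not at h
    exact hi (huniq i fun s hs => h _ ⟨s, hs.1, le_normalizer hs.2, rfl⟩)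
  have hωO : ∀ i, i ≠ ω → ω ∉ porb P i := by
    rintro i hi ⟨g, hg, hgi⟩
    exact hi (g.injective (hgi.trans (hω g hg).symm))
  -- two orbits
  obtain ⟨i₁, i₂, h₁, h₂, hlt⟩ : ∃ a b, a ≠ ω ∧ b ≠ ω ∧ Nat.card ↥(porb P b) < Nat.card ↥(porb P a) := by
    obtain ⟨i, hi⟩ : ∃ i, i ≠ ω := by
      haveI : Nontrivial (Fin (2 * m + 1)) := Fin.nontrivial_iff_two_le.2 (by omega)
      exact exists_ne ω
    obtain ⟨k, hk, hki⟩ : ∃ k, k ≠ ω ∧ porb P k ≠ porb P i := by
      by_contra h
      push Not at h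
      have e : porb P i = {x | x ≠ ω} := by
        ext x
        exact ⟨fun hx e => hωO i hi (e ▸ hx), fun hx => h x hx ▸ mem_porb_self x⟩
      obtain ⟨a, ha⟩ := card_porb hPp i
      rw [e, Set.coe_setOf, Nat.card_eq_fintype_card, Fintype.card_subtype_compl, Fintype.card_subtype_eq,
        Fintype.card_fin, Nat.add_sub_cancel] at ha
      exact hpow a ha
    have hne' := porb_size_ne S (i := k) (i' := i) (by rw [hS]; exact hki)
    rw [hS] at hne'
    rcases Nat.lt_or_gt_of_ne hne' with h | h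
    exacts [⟨i, k, hi, hk, h⟩, ⟨k, i, hk, hi, h⟩]
  obtain ⟨α, hα⟩ := card_porb hPp i₁
  obtain ⟨β', hβ'⟩ := card_porb hPp i₂
  have hswap : ∀ i, i ≠ ω → ∃ j, j ≠ i ∧ swap i j ∈ P := fun i hi => by
    have h := exists_swap_mem S (i := i) (by rw [hS]; exact hmoved i hi)
    rwa [hS] at h
  obtain ⟨j₁, hj₁, hs₁⟩ := hswap i₁ h₁
  obtain ⟨j₂, hj₂, hs₂⟩ := hswap i₂ h₂
  obtain ⟨β, rfl⟩ : ∃ β, β' = β + 1 := by
    refine Nat.exists_eq_succ_of_ne_zero fun h0 => hj₂ ?_
    rw [h0, pow_zero, Nat.card_eq_one_iff_unique] at hβ'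
    haveI := hβ'.1
    exact congrArg Subtype.val (Subsingleton.elim (⟨j₂, swap i₂ j₂, hs₂, swap_apply_left _ _⟩ : ↥(porb P i₂))
      ⟨i₂, mem_porb_self i₂⟩)
  have hαβ : β + 1 < α := by
    rw [hα, hβ'] at hlt
    exact (Nat.pow_lt_pow_iff_right (by norm_num)).1 hlt
  set fb := M.pairElt i₂ j₂ with hfb
  set fa := M.pairElt i₁ j₁ with hfa
  -- the threshold
  obtain ⟨K₀, hK₀⟩ := IsPGroup.iff_card.1 T.2
  have hTpow : ∀ g ∈ (T : Subgroup G), g ^ 2 ^ K₀ = 1 := fun g hg => by
    have h : (⟨g, hg⟩ : ↥(T : Subgroup G)) ^ Nat.card ↥(T : Subgroup G) = 1 := pow_card_eq_one'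
    rw [hK₀] at h
    exact congrArg Subtype.val h
  have hex : ∃ r, PowFix (T : Subgroup G) r fb := ⟨K₀, fun g hg => by rw [hTpow g hg]; exact Commute.one_left _⟩
  set r := Nat.find hex with hr
  have hrfix : PowFix (T : Subgroup G) r fb := Nat.find_spec hex
  set Cp := closure {z ∈ adjOf (T : Subgroup G) | PowFix (T : Subgroup G) r z} with hCp
  set Cn := closure {z ∈ adjOf (T : Subgroup G) | ¬ PowFix (T : Subgroup G) r z} with hCn
  have hCpne : Cp ≠ ⊥ := fun h => M.pairElt_ne_one (Ne.symm hj₂) (mem_bot.1 (h ▸ subset_closure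
    ⟨pairElt_mem_adj M hG hE.1 hE.2.1 hm (Ne.symm hj₂) hs₂, hrfix⟩))
  -- the larger orbit separates
  have hfaneg : ¬ PowFix (T : Subgroup G) r fa := by
    intro hfix
    obtain ⟨g, hgT, hgr⟩ : ∃ g ∈ (T : Subgroup G), r = 0 ∨ ¬ Commute (g ^ 2 ^ (r - 1)) fb := by
      by_cases h0 : r = 0
      · exact ⟨1, one_mem _, Or.inl h0⟩
      · have := Nat.find_min hex (m := r - 1) (by omega)
        rw [PowFix] at this
        push Not at this
        obtain ⟨g, hg, h⟩ := this
        exact ⟨g, hg, Or.inr h⟩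
    have hjex : ∃ j, g ^ 2 ^ j ∈ normalizer (E : Set G) := ⟨K₀, by rw [hTpow g hgT]; exact one_mem _⟩
    set j := Nat.find hjex with hj
    have hgN : g ^ 2 ^ j ∈ normalizer (E : Set G) := Nat.find_spec hjex
    have hjr : j ≤ r := Nat.find_min' hjex (by
      by_contra hgr'
      have h1 := BlockBaumann.conj_le_centralizer hG hE.1 hE.2.1 hgr' (bW_le E (M.pairElt_mem i₂ j₂))
      rw [← hfb, (hrfix g hgT).eq, mul_inv_cancel_right] at h1
      exact M.pairElt_ne_one (Ne.symm hj₂) (M.eq_one_of_central ⟨m, rfl⟩ (by omega) (M.pairElt_mem _ _) h1))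
    have hrj : r ≤ j + β := by
      rcases hgr with h | h
      · omega
      by_contra hlt'
      refine h ?_
      have hh : Commute (g ^ 2 ^ (j + β)) fb := by
        rw [pow_add, pow_mul]
        refine (M.commute_pairElt_iff (pow_mem hgN _) (Ne.symm hj₂)).2 ?_
        rw [M.perm_pow hgN]
        exact pow_fixes_pair hPp (Ne.symm hj₂) hs₂ hβ' ⟨_, pow_mem hgT _, hgN, rfl⟩
      obtain ⟨k, hk⟩ : ∃ k, r - 1 = j + β + k := ⟨r - 1 - (j + β), by omega⟩
      rw [hk, pow_add, pow_mul]
      exact hh.pow_left _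
    set N := 2 ^ j with hN
    have hsmall : ∀ k, 1 ≤ k → k < N → g ^ k ∉ normalizer (E : Set G) := by
      intro k hk1 hkN hk
      obtain ⟨l, -, hl⟩ := (Nat.dvd_prime_pow Nat.prime_two).1 (Nat.gcd_dvd_right k (2 ^ K₀))
      have h1 : g ^ (2 ^ l) ∈ normalizer (E : Set G) := by
        rw [← hl, ← zpow_natCast, Nat.gcd_eq_gcd_ab, zpow_add, zpow_mul, zpow_natCast, zpow_mul, zpow_natCast,
          hTpow g hgT, one_zpow, mul_one]
        exact zpow_mem hk _
      have h2 : 2 ^ l ≤ k := hl ▸ Nat.le_of_dvd hk1 (Nat.gcd_dvd_left _ _)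
      have h3 := Nat.find_min' hjex h1
      have h4 : N ≤ 2 ^ l := Nat.pow_le_pow_right two_pos h3
      omega
    obtain ⟨c, hc, hcyc⟩ : ∃ c ∈ P, ∀ k : ℕ, (c ^ k) i₁ = i₁ → Nat.card ↥(porb P i₁) ∣ k := by
      have h := exists_full_cycle S i₁
      rwa [hS] at h
    -- an element acting on the larger orbit as the full cycle
    have hgP : M.perm (g ^ N) ∈ P := ⟨_, pow_mem hgT _, hgN, rfl⟩
    have hoff : i₂ ∉ porb P i₁ ∧ j₂ ∉ porb P i₁ := by
      have hne' : porb P i₂ ≠ porb P i₁ := fun h => by rw [h] at hlt; exact hlt.false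
      exact ⟨fun h => hne' (porb_eq_of_mem h), fun h => hne' ((porb_eq_of_mem
        (show j₂ ∈ porb P i₂ from ⟨_, hs₂, swap_apply_left _ _⟩)).symm.trans (porb_eq_of_mem h))⟩
    obtain ⟨x, hxP, hxc, hxeven⟩ : ∃ x ∈ P, (∀ y ∈ porb P i₁, x y = c y) ∧
        Perm.sign x = Perm.sign (M.perm (g ^ N)) := by
      by_cases h : Perm.sign c = Perm.sign (M.perm (g ^ N))
      · exact ⟨c, hc, fun _ _ => rfl, h⟩
      refine ⟨c * swap i₂ j₂, mul_mem hc hs₂, fun y hy => ?_, ?_⟩
      · rw [Perm.mul_apply, swap_apply_of_ne_of_ne (fun e => hoff.1 (by rwa [e] at hy)) (fun e => hoff.2 (by rwa [e] at hy))]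
      · rw [map_mul, Perm.sign_swap (Ne.symm hj₂)]
        rcases Int.units_eq_one_or (Perm.sign c) with h1 | h1 <;>
          rcases Int.units_eq_one_or (Perm.sign (M.perm (g ^ N))) with h2 | h2 <;>
          revert h <;> rw [h1, h2] <;> decide
    obtain ⟨s, hs, hsx⟩ := heven _ (mul_mem (inv_mem hgP) hxP) (Perm.mem_alternatingGroup.2 (by
      rw [map_mul, map_inv, hxeven, inv_mul_cancel]))
    have hsN : s ∈ normalizer (E : Set G) := le_normalizer hs.2
    have hchain : ∀ k, k < N → ∃ d ∈ centralizer (E : Set G), (g * s) ^ k = d * g ^ k := by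
      intro k
      induction k with
      | zero => intro _; exact ⟨1, one_mem _, by simp⟩
      | succ k ih =>
        intro hk
        obtain ⟨d, hd, hdk⟩ := ih (by omega)
        refine ⟨d * (g ^ (k + 1) * s * (g ^ (k + 1))⁻¹), mul_mem hd
          (BlockBaumann.conj_le_centralizer hG hE.1 hE.2.1 (hsmall _ (by omega) hk) hs.2), ?_⟩
        rw [pow_succ (g * s), hdk, pow_succ g]; group
    obtain ⟨d, hd, hdN⟩ := hchain (N - 1) (by have := Nat.two_pow_pos j; omega)
    have hgsN : (g * s) ^ N = d * (g ^ N * s) := by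
      have e : N = N - 1 + 1 := by have := Nat.two_pow_pos j; omega
      rw [e, pow_succ (g * s), hdN, pow_succ g]; group
    have hdN' : d ∈ normalizer (E : Set G) := centralizer_le_normalizer _ hd
    have hperm : M.perm ((g * s) ^ N) = x := by
      rw [hgsN, M.perm_mul d hdN' _ (mul_mem hgN hsN), M.perm_mul _ hgN s hsN, hsx,
        (M.centralizes_iff (by omega) hdN').1 (centralizer_le (SetLike.coe_subset_coe.2 (bW_le E)) hd), one_mul,
        mul_inv_cancel_left]
    have hgsNmem : (g * s) ^ N ∈ normalizer (E : Set G) := hgsN ▸ mul_mem hdN' (mul_mem hgN hsN)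
    have h1 := hfix (g * s) (mul_mem hgT hs.1)
    rw [show 2 ^ r = N * 2 ^ (r - j) by rw [hN, ← pow_add]; congr 1; omega, pow_mul] at h1
    have h2 := (M.commute_pairElt_iff (pow_mem hgsNmem _) (Ne.symm hj₁)).1 h1.eq
    rw [M.perm_pow hgsNmem, hperm] at h2
    have hpowc : ∀ k : ℕ, (x ^ k) i₁ = (c ^ k) i₁ := by
      intro k
      induction k with
      | zero => rfl
      | succ k ih =>
        rw [pow_succ' x, pow_succ' c, Perm.mul_apply, Perm.mul_apply, ih,
          hxc _ ⟨c ^ k, pow_mem hc k, rfl⟩]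
    have h3 : (x ^ (2 ^ (r - j) + 2 ^ (r - j))) i₁ = i₁ := by
      rw [pow_add, Perm.mul_apply]
      rcases h2 with ⟨e1, -⟩ | ⟨e1, e2⟩
      · rw [e1, e1]
      · rw [e1, e2]
    rw [hpowc] at h3
    have h4 := hcyc _ h3
    rw [hα, ← two_mul, ← pow_succ', Nat.pow_dvd_pow_iff_le_right (by norm_num)] at h4
    omega
  have hCnne : Cn ≠ ⊥ := fun h => M.pairElt_ne_one (Ne.symm hj₁) (mem_bot.1 (h ▸ subset_closure
    ⟨pairElt_mem_adj M hG hE.1 hE.2.1 hm (Ne.symm hj₁) hs₁, hfaneg⟩))
  have hCpT : Cp ≤ (T : Subgroup G) := (closure_le _).2 fun z hz => adjOf_le _ hz.1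
  have hCnT : Cn ≤ (T : Subgroup G) := (closure_le _).2 fun z hz => adjOf_le _ hz.1
  set Ch := charNormalizersJoin (T : Subgroup G) with hCh
  have hCSCh : cStarOf 2 (T : Subgroup G) ≤ Ch := cStar_le_charJoin T hB
  have hp : centralizer (Cp : Set G) ≤ Ch :=
    centralizer_le_charJoin hCpT hCpne (adjPos_characteristic _ r)
  have hn : centralizer (Cn : Set G) ≤ Ch :=
    centralizer_le_charJoin hCnT hCnne (adjNeg_characteristic _ r)
  -- a member seeing one commutator, or none
  have hone : ∀ K : Subgroup G, ∀ f : G,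
      (∀ z ∈ adjOf (T : Subgroup G), z ∈ centralizer (K : Set G) ∨ z = f) → K ≤ Ch := by
    intro K f hK
    by_cases hf : PowFix (T : Subgroup G) r f
    · refine le_trans ?_ hn
      rw [le_centralizer_iff]
      exact (closure_le _).2 fun z hz => (hK z hz.1).resolve_right fun e => hz.2 (e ▸ hf)
    · refine le_trans ?_ hp
      rw [le_centralizer_iff]
      exact (closure_le _).2 fun z hz => (hK z hz.1).resolve_right fun e => hf (e ▸ hz.2)
  have hmem : ∀ K ∈ members 2 (T : Subgroup G), K ≤ Ch := by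
    intro K hK
    haveI := CfsgLib.Cores.pCore_characteristic (G := ↥K) 2
    have hc3 : Nat.card (↥K ⧸ pCore 2 ↥K) = 3 → K ≤ Ch := fun h => by
      obtain ⟨s, hs⟩ := (perf_or_solv hK.1).resolve_left fun hP => by
        have h2 := hP.2
        rw [h] at h2
        omega
      obtain ⟨f, hf⟩ := adj_solv hG hK.1 hs
      exact hone K f hf
    obtain ⟨-, -, -, -, hcases⟩ := id hK.1
    rcases hcases with ⟨F, _, _, k, hk, iso, hsecF, -⟩ | ⟨-, l, ⟨fl⟩, hsecl, -⟩
    · by_cases h4 : 4 ≤ Fintype.card F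
      · exact hone K 1 fun z hz => Or.inl (adj_linear hG hK.1 hk h4 iso hsecF hz)
      obtain ⟨f'⟩ := id iso
      rcases (show Fintype.card F = 2 ∨ Fintype.card F = 3 by
        have := Fintype.one_lt_card (α := F); omega) with h | h
      · exact hc3 (by rw [Nat.card_congr f'.toEquiv, SL3.card_commutator_two h])
      · exfalso
        have hk0 : k ≠ 0 := fun h0 => by rw [h0, pow_zero, h] at hk; omega
        have : 2 ∣ 3 := h ▸ hk ▸ dvd_pow_self 2 hk0
        omega
    · by_cases hl : 2 ≤ l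
      · obtain ⟨ML⟩ := nonempty_altMod hK.1 hl (fun e he h => BlockBaumann.stab_inf_le_core hK.1 ⟨he, h⟩)
          (core_two hK.1).2 hsecl
        obtain ⟨-, -, ωl, hωl, huniql⟩ := perm_sylow ML hG hK.1 hK.2.1 hl
        by_cases hfixed : ∃ i j, i ≠ j ∧ swap i j ∈ ML.permOf (T : Subgroup G) ∧
            PowFix (T : Subgroup G) r (ML.pairElt i j)
        · obtain ⟨i, j, hij, hs, hf⟩ := hfixed
          have hω' : i ≠ ωl ∧ j ≠ ωl := by
            have h1 := hωl _ hs
            constructor <;> intro e <;> rw [← e] at h1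
            · rw [swap_apply_left] at h1; exact hij h1.symm
            · rw [swap_apply_right] at h1; exact hij h1
          obtain ⟨e, he, hee⟩ := (ML.perm_range _).1 (isThreeCycle_cyc hij hω'.1 hω'.2).mem_alternatingGroup
          have heC : e ∈ centralizer (Cn : Set G) := by
            refine centralizer_le ?_ (mem_centralizer_iff.2 (show ∀ z ∈ {z : G | z * e = e * z}, z * e = e * z from
              fun _ h => h))
            intro z hz
            have hle : Cn ≤ centralizer ({e} : Set G) := (closure_le _).2 fun w hw => by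
              refine mem_centralizer_singleton_iff.2 ?_
              rcases adj_alt ML hG hK.1 hK.2.1 hl hw.1 with h | ⟨i', j', hij', hs', rfl⟩
              · exact (mem_centralizer_iff.1 h e he).symm
              have hPl := ML.permOf_pGroup T.2
              have hni : i' ≠ i ∧ i' ≠ j ∧ j' ≠ i ∧ j' ≠ j := by
                refine ⟨?_, ?_, ?_, ?_⟩ <;> intro e' <;> refine hw.2 ?_
                · subst e'
                  rwa [swap_eq_of_overlap hPl hij' hij hs' hs]
                · subst e'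
                  rw [swap_comm] at hs
                  rw [swap_eq_of_overlap hPl hij' hij.symm hs' hs, ML.pairElt_comm]; exact hf
                · subst e'
                  rw [swap_comm] at hs'
                  rw [swap_eq_of_overlap hPl hij'.symm hij hs' hs, ML.pairElt_comm]; exact hf
                · subst e'
                  rw [swap_comm] at hs hs'
                  rwa [swap_eq_of_overlap hPl hij'.symm hij.symm hs' hs]
              have hω'' : i' ≠ ωl ∧ j' ≠ ωl := by
                have h1 := hωl _ hs'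
                constructor <;> intro e <;> rw [← e] at h1
                · rw [swap_apply_left] at h1; exact hij' h1.symm
                · rw [swap_apply_right] at h1; exact hij' h1
              refine ((ML.commute_pairElt_iff (le_normalizer he) hij').2 (Or.inl ?_)).symm
              rw [hee]
              exact ⟨cyc_other hni.1 hni.2.1 hω''.1, cyc_other hni.2.2.1 hni.2.2.2 hω''.2⟩
            exact mem_centralizer_singleton_iff.1 (hle hz)
          have hmove : ML.perm e ωl ≠ ωl := by rw [hee, cyc_c]; exact hω'.1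
          exact (notMem_cStar_of_moves hG hB hcov hbel hK hl fl hsecl ML huniql he hmove).2 Ch
            (inf_le_left.trans hCSCh) (hn heC)
        · refine le_trans ?_ hp
          rw [le_centralizer_iff]
          exact (closure_le _).2 fun z hz => (adj_alt ML hG hK.1 hK.2.1 hl hz.1).resolve_right
            fun ⟨i, j, hij, hs, h⟩ => hfixed ⟨i, j, hij, hs, h ▸ hz.2⟩
      rcases (show l = 0 ∨ l = 1 by omega) with rfl | rfl
      · exfalso
        refine not_isPGroup hK.1 ((CfsgLib.LocalEven.isPGroup_pCoreOf 2 K).to_le fun e he => ?_)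
        refine (mem_core_iff ⟨e, he⟩).2 (fl.injective (Subtype.ext (Equiv.ext fun i => ?_)))
        exact Subsingleton.elim (α := Fin 1) _ _
      · refine hc3 ?_
        haveI : Nontrivial (Fin (2 * 1 + 1)) := Fin.nontrivial_iff_two_le.2 (by omega)
        rw [Nat.card_congr fl.toEquiv, nat_card_alternatingGroup, Nat.card_fin]; rfl
  exact hne (top_le_iff.1 ((cStar_sup_eq_top hG hB hcov).ge.trans (sup_le hCSCh (sSup_le hmem))))

end

universe u

/-- The local `C(G,T)`-theorem, given the subnormality of maximal blocks. -/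
theorem degree_of_core {p : ℕ} [Fact p.Prime] (hcore : CoreSubnormal.{u} p) {G : Type u} [Group G] [Finite G]
    (hG : centralizer (pCore p G : Set G) ≤ pCore p G) (T : Sylow p G)
    (hne : charNormalizersJoin (T : Subgroup G) ≠ ⊤) :
    ∃ 𝓑 : Set (Subgroup G), HasBaumannBlockStructure p (T : Subgroup G) 𝓑 ∧
      ∀ E ∈ 𝓑, ∀ m : ℕ, Nonempty (↥E ⧸ pCore p ↥E ≃* ↥(alternatingGroup (Fin (2 * m + 1)))) →
        ∃ n : ℕ, 2 * m + 1 = 2 ^ n + 1 := by
  classical
  obtain ⟨hcov, hbel⟩ := covered_of_core hcore G hG T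
  by_cases hB : baumannSubgroupOf p (T : Subgroup G) = ⊥
  · refine ⟨∅, ⟨fun _ h => h.elim, fun _ h => h.elim, fun _ h => h.elim, ?_, fun E hE hout => ?_, ?_,
      fun _ h => h.elim⟩, fun _ h => h.elim⟩
    all_goals
      have hC : cStarOf p (T : Subgroup G) = ⊤ := by
        refine eq_top_iff.2 fun g _ => ?_
        have hT : (T : Subgroup G) = ⊥ := by
          rw [eq_bot_iff]
          refine le_trans (le_inf le_rfl fun t _ => mem_centralizer_iff.2 fun z hz => ?_) hB.le
          have h1 : omegaOne p (centerThompsonOf p (T : Subgroup G)) ≤ ⊥ :=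
            le_trans (CfsgLib.PGroup.omegaOne_le p _) (inf_le_left.trans ((Baumann.thompson_le_baumann _).trans hB.le))
          replace h1 := h1 hz
          rw [mem_bot.1 h1, one_mul, mul_one]
        refine centralizer_le_cStar _ (mem_centralizer_iff.2 fun z hz => ?_)
        have h1 : z ∈ (⊥ : Subgroup G) := hT ▸ Oz.le_self _ hz
        rw [mem_bot.1 h1, one_mul, mul_one]
    · rw [hC, top_sup_eq]
    · exact absurd (hC ▸ le_top) hout
    · simp
  have hne' : cStarOf p (T : Subgroup G) ≠ ⊤ := fun h => hne (top_le_iff.1 (h ▸ cStar_le_charJoin T hB))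
  refine ⟨members p (T : Subgroup G), structure_of_below hG hne' hB hcov hbel, fun E hE m hiso => ?_⟩
  obtain ⟨f⟩ := hiso
  haveI := CfsgLib.Cores.pCore_characteristic (G := ↥E) p
  have hm0 : 1 ≤ m := by
    by_contra h0
    obtain rfl : m = 0 := by omega
    refine not_isPGroup hE.1 ((CfsgLib.LocalEven.isPGroup_pCoreOf p E).to_le fun e he => ?_)
    refine (mem_core_iff ⟨e, he⟩).2 (f.injective (Subtype.ext (Equiv.ext fun i => ?_)))
    exact Subsingleton.elim (α := Fin 1) _ _
  by_cases hm1 : m = 1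
  · exact ⟨1, by omega⟩
  have hm : 2 ≤ m := by omega
  haveI : Nontrivial (Fin (2 * m + 1)) := Fin.nontrivial_iff_two_le.2 (by omega)
  have hbig : 60 ≤ Nat.card (↥E ⧸ pCore p ↥E) := by
    rw [Nat.card_congr f.toEquiv, nat_card_alternatingGroup, Nat.card_fin]
    have h1 := Nat.factorial_le (show 5 ≤ 2 * m + 1 by omega)
    rw [show (5 : ℕ).factorial = 120 by rfl] at h1
    omega
  obtain ⟨-, -, -, -, hcases⟩ := id hE.1
  rcases hcases with ⟨F, _, _, k, hk, ⟨f'⟩, -, -⟩ | ⟨hp2, l, ⟨fl⟩, hsec, -⟩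
  · have h4 : 4 ≤ Fintype.card F := by
      by_contra h
      rcases (show Fintype.card F = 2 ∨ Fintype.card F = 3 by
        have := Fintype.one_lt_card (α := F); omega) with h' | h'
      · rw [Nat.card_congr f'.toEquiv, SL3.card_commutator_two h'] at hbig; omega
      · rw [Nat.card_congr f'.toEquiv, SL3.card_commutator h'] at hbig; omega
    let g := (f'.trans ((MulEquiv.subgroupCongr (CfsgLib.Classical.SmallIso.commutator_sl_two (F := F) h4)).trans
      Subgroup.topEquiv)).symm.trans f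
    exact ⟨2, by rw [sl2_alt_degree hk hm g]; norm_num⟩
  · subst hp2
    have hl : 1 ≤ l := by
      by_contra h0
      obtain rfl : l = 0 := by omega
      rw [Nat.card_congr fl.toEquiv] at hbig
      haveI : Subsingleton (Fin (2 * 0 + 1)) := inferInstanceAs (Subsingleton (Fin 1))
      rw [Nat.card_of_subsingleton (1 : ↥(alternatingGroup (Fin (2 * 0 + 1))))] at hbig
      omega
    obtain rfl : l = m := alt_card_inj (by rw [← Nat.card_congr fl.toEquiv, ← Nat.card_congr f.toEquiv]) hl hm0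
    obtain ⟨a, ha⟩ := degree_two hG hne hB hcov hbel hE hm hsec
    exact ⟨a, by omega⟩

end CfsgLib.LocalEven.CStar
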