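import Mathlib.GroupTheory.GroupAction.Quotient
import Mathlib.GroupTheory.Perm.Sign
import Mathlib.Data.ZMod.Basic
import Mathlib.Algebra.BigOperators.Fin
import Mathlib.Tactic

/-!
An abelian group of permutations of odd degree with the offender inequality on the even module is generated by
disjoint transpositions.
-/

set_option autoImplicit false

namespace CfsgLib.LocalEven.CStar

open Equiv

variable {n : ℕ}

/-- The fixed even vectors. -/
abbrev fixEven (R : Subgroup (Perm (Fin n))) : Type :=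
  {v : Fin n → ZMod 2 // ∑ i, v i = 0 ∧ ∀ r ∈ R, ∀ i, v (r⁻¹ i) = v i}

theorem le_two_pow_pred (a : ℕ) (ha : 1 ≤ a) : a ≤ 2 ^ (a - 1) ∧ (3 ≤ a → a < 2 ^ (a - 1)) := by
  induction a, ha using Nat.le_induction with
  | base => simp
  | succ b hb ih =>
    rw [Nat.add_sub_cancel, show b = b - 1 + 1 by omega, pow_succ]
    refine ⟨?_, fun h => ?_⟩
    · omega
    · rcases Nat.lt_or_ge b 3 with h' | h'
      · have hb2 : b = 2 := by omega
        subst hb2; norm_num
      · have := ih.2 h'; omega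

theorem perm_offender (hn : Odd n) (R : Subgroup (Perm (Fin n))) (hR : ∀ a ∈ R, ∀ b ∈ R, a * b = b * a)
    (h : 2 ^ (n - 1) ≤ Nat.card ↥R * Nat.card (fixEven R)) :
    Nat.card ↥R * Nat.card (fixEven R) = 2 ^ (n - 1) ∧
      ∀ r ∈ R, ∀ i, r i ≠ i → swap i (r i) ∈ R ∧ ∀ τ ∈ R, τ i = i ∨ τ i = r i := by
  classical
  let st := MulAction.orbitRel ↥R (Fin n)
  let Ω := Quotient st
  let mk : Fin n → Ω := Quotient.mk st
  haveI : Fintype Ω := Fintype.ofFinite _
  let F : Ω → Finset (Fin n) := fun q => Finset.univ.filter fun x => mk x = q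
  have hmk : ∀ {x y : Fin n}, mk x = mk y ↔ ∃ r ∈ R, r y = x := fun {x y} => by
    rw [Quotient.eq]
    exact ⟨fun ⟨r, hr⟩ => ⟨r, r.2, hr⟩, fun ⟨r, hr, he⟩ => ⟨⟨r, hr⟩, he⟩⟩
  have hrep : ∀ q : Ω, mk q.out = q := fun q => Quotient.out_eq q
  have hFne : ∀ q, 1 ≤ (F q).card := fun q => Finset.card_pos.2 ⟨q.out, Finset.mem_filter.2 ⟨Finset.mem_univ _, hrep q⟩⟩
  have hsum : ∑ q, (F q).card = n := by
    have := Finset.card_eq_sum_card_fiberwise (f := mk) (s := Finset.univ) (t := Finset.univ)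
      (fun x _ => Finset.mem_univ _)
    rw [Finset.card_univ, Fintype.card_fin] at this
    exact this.symm
  obtain ⟨q₀, hq₀⟩ : ∃ q, Odd (F q).card := by
    by_contra hc
    push Not at hc
    exact Nat.not_even_iff_odd.2 hn (hsum ▸ Finset.even_sum _ fun q _ => Nat.not_odd_iff_even.1 (hc q))
  -- the group
  let f : ↥R → ∀ q : Ω, {x // x ∈ F q} := fun r q => ⟨(r : Perm (Fin n)) q.out,
    Finset.mem_filter.2 ⟨Finset.mem_univ _, (hmk.2 ⟨r, r.2, rfl⟩).trans (hrep q)⟩⟩
  have hf : Function.Injective f := fun r s hrs => Subtype.ext (Perm.ext fun x => by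
    obtain ⟨t, ht, hx⟩ := hmk.1 (hrep (mk x)).symm
    have key : ∀ a ∈ R, a x = t (a (mk x).out) := fun a ha => by
      rw [← Perm.mul_apply, hR _ ht _ ha, Perm.mul_apply, hx]
    have h1 : (r : Perm (Fin n)) (mk x).out = (s : Perm (Fin n)) (mk x).out :=
      congrArg Subtype.val (congrFun hrs (mk x))
    rw [key _ r.2, key _ s.2, h1])
  have hR1 : Nat.card ↥R ≤ ∏ q, (F q).card := by
    refine (Nat.card_le_card_of_injective f hf).trans (le_of_eq ?_)
    rw [Nat.card_pi]
    exact Finset.prod_congr rfl fun q _ => by rw [Nat.card_eq_fintype_card, Fintype.card_coe]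
  -- the fixed vectors
  let g : fixEven R → ({q : Ω // q ≠ q₀} → ZMod 2) := fun v q => v.1 q.1.out
  have hconst : ∀ (v : fixEven R) x, v.1 x = v.1 (mk x).out := fun v x => by
    obtain ⟨t, ht, hx⟩ := hmk.1 (hrep (mk x)).symm
    have := v.2.2 t ht (t (mk x).out)
    rw [Perm.inv_def, Equiv.symm_apply_apply] at this
    rw [this, hx]
  have hg : Function.Injective g := fun v w hvw => by
    have hne : ∀ q, q ≠ q₀ → v.1 q.out = w.1 q.out := fun q hq => congrFun hvw ⟨q, hq⟩
    have hrw : ∀ u : fixEven R, ∑ q, ((F q).card : ZMod 2) * u.1 q.out = 0 := fun u => by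
      refine ((Finset.sum_congr rfl fun q _ => ?_).trans (Finset.sum_fiberwise Finset.univ mk u.1)).trans u.2.1
      rw [Finset.sum_congr rfl (g := fun _ => u.1 q.out) fun x hx => by
        rw [hconst u x, (Finset.mem_filter.1 hx).2], Finset.sum_const, nsmul_eq_mul]
    have h0 : v.1 q₀.out = w.1 q₀.out := by
      have h1 := (hrw v).trans (hrw w).symm
      rw [← Finset.add_sum_erase _ _ (Finset.mem_univ q₀), ← Finset.add_sum_erase _ _ (Finset.mem_univ q₀),
        Finset.sum_congr rfl fun q hq => by rw [hne q (Finset.ne_of_mem_erase hq)]] at h1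
      obtain ⟨c, hc⟩ := hq₀
      have h2 : ((F q₀).card : ZMod 2) = 1 := by
        rw [hc, Nat.cast_add, Nat.cast_mul, show ((2 : ℕ) : ZMod 2) = 0 from rfl, zero_mul, zero_add, Nat.cast_one]
      rw [h2, one_mul, one_mul] at h1
      exact add_right_cancel h1
    refine Subtype.ext (funext fun x => ?_)
    rw [hconst v x, hconst w x]
    by_cases hx : mk x = q₀
    · rw [hx]; exact h0
    · exact hne _ hx
  have hV : Nat.card (fixEven R) ≤ 2 ^ (Fintype.card Ω - 1) := by
    refine (Nat.card_le_card_of_injective g hg).trans (le_of_eq ?_)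
    rw [Nat.card_fun, Nat.card_zmod, Nat.card_eq_fintype_card, Fintype.card_subtype_compl, Fintype.card_subtype_eq]
  have hk : 1 ≤ Fintype.card Ω := Fintype.card_pos_iff.2 ⟨q₀⟩
  have hexp : (∏ q, 2 ^ ((F q).card - 1)) * 2 ^ (Fintype.card Ω - 1) = 2 ^ (n - 1) := by
    rw [Finset.prod_pow_eq_pow_sum, ← pow_add]
    congr 1
    have h1 : ∑ q, ((F q).card - 1) + Fintype.card Ω = n := by
      rw [← Finset.card_univ, Finset.card_eq_sum_ones, ← Finset.sum_add_distrib]
      exact (Finset.sum_congr rfl fun q _ => Nat.sub_add_cancel (hFne q)).trans hsum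
    omega
  have hmain : ∏ q, (F q).card ≤ ∏ q, 2 ^ ((F q).card - 1) :=
    Finset.prod_le_prod' fun q _ => (le_two_pow_pred _ (hFne q)).1
  have hchain := Nat.mul_le_mul (hR1.trans hmain) hV
  rw [hexp] at hchain
  have hpos : 0 < 2 ^ (Fintype.card Ω - 1) := pow_pos two_pos _
  have heq : Nat.card ↥R = ∏ q, (F q).card ∧ ∏ q, (F q).card = ∏ q, 2 ^ ((F q).card - 1) := by
    have h1 : 2 ^ (n - 1) ≤ Nat.card ↥R * 2 ^ (Fintype.card Ω - 1) := h.trans (Nat.mul_le_mul_left _ hV)
    rw [← hexp] at h1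
    have h2 := Nat.le_of_mul_le_mul_right h1 hpos
    exact ⟨le_antisymm hR1 (hmain.trans h2), le_antisymm hmain (h2.trans hR1)⟩
  refine ⟨le_antisymm hchain h, fun r hr i hri => ?_⟩
  have hle2 : ∀ q, (F q).card ≤ 2 := fun q => by
    by_contra hc
    exact absurd heq.2 (Finset.prod_lt_prod (fun q _ => hFne q)
      (fun q _ => (le_two_pow_pred _ (hFne q)).1) ⟨q, Finset.mem_univ _, (le_two_pow_pred _ (hFne q)).2 (by omega)⟩).ne
  have hpair : ∀ τ ∈ R, τ i = i ∨ τ i = r i := fun τ hτ => by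
    by_contra hc
    push Not at hc
    have h3 : ({i, r i, τ i} : Finset (Fin n)) ⊆ F (mk i) := by
      intro x hx
      refine Finset.mem_filter.2 ⟨Finset.mem_univ _, hmk.2 ?_⟩
      simp only [Finset.mem_insert, Finset.mem_singleton] at hx
      rcases hx with rfl | rfl | rfl
      exacts [⟨1, one_mem R, rfl⟩, ⟨r, hr, rfl⟩, ⟨τ, hτ, rfl⟩]
    have h4 := (Finset.card_le_card h3).trans (hle2 (mk i))
    rw [Finset.card_insert_of_notMem (by simp [hri.symm, hc.1.symm]),
      Finset.card_insert_of_notMem (by simp [hc.2.symm]), Finset.card_singleton] at h4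
    omega
  refine ⟨?_, hpair⟩
  have hbij : Function.Bijective f := hf.bijective_of_nat_card_le (by
    rw [Nat.card_pi, heq.1]
    exact le_of_eq (Finset.prod_congr rfl fun q _ => by rw [Nat.card_eq_fintype_card, Fintype.card_coe]))
  obtain ⟨t, ht⟩ := hbij.2 fun q => if q = mk i
    then ⟨r q.out, Finset.mem_filter.2 ⟨Finset.mem_univ _, (hmk.2 ⟨r, hr, rfl⟩).trans (hrep q)⟩⟩
    else ⟨q.out, Finset.mem_filter.2 ⟨Finset.mem_univ _, hrep q⟩⟩
  have hrr : r (r i) = i := by
    rcases hpair (r * r) (mul_mem hr hr) with e | e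
    · exact e
    · exact absurd (r.injective e) hri
  have hti : ∀ x, (t : Perm (Fin n)) x = swap i (r i) x := by
    intro x
    obtain ⟨u, hu, hx⟩ := hmk.1 (hrep (mk x)).symm
    have h2 : ∀ a ∈ R, a x = u (a (mk x).out) := fun a ha => by
      rw [← Perm.mul_apply, ← hR _ ha _ hu, Perm.mul_apply, hx]
    have h1 := congrArg Subtype.val (congrFun ht (mk x))
    simp only [f] at h1
    by_cases hq' : mk x = mk i
    · rw [if_pos hq'] at h1
      rw [h2 _ t.2, h1, ← h2 r hr]
      obtain ⟨τ, hτ, he⟩ := hmk.1 hq'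
      rcases hpair τ hτ with e | e <;> rw [← he, e]
      · rw [swap_apply_left]
      · rw [swap_apply_right, hrr]
    · rw [if_neg hq'] at h1
      rw [h2 _ t.2, h1, hx, swap_apply_of_ne_of_ne]
      · exact fun e => hq' (by rw [e])
      · exact fun e => hq' (by rw [e]; exact hmk.2 ⟨r, hr, rfl⟩)
  rw [← Perm.ext hti]
  exact t.2

end CfsgLib.LocalEven.CStar
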