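import Cfsg.Agent.Lib.LocalEven.PushMin.AltPerm
import Cfsg.Agent.Lib.Known.AltAut
import Mathlib.GroupTheory.Sylow

/-!
Sylow 2-subgroups of symmetric groups: transpositions, full cycles on the orbits, and distinct orbit sizes.
-/

set_option autoImplicit false

namespace CfsgLib.LocalEven.CStar

open Equiv Equiv.Perm

variable {n : ℕ} {P : Subgroup (Perm (Fin n))}

/-- Two transpositions of a 2-group that overlap are equal. -/
theorem swap_eq_of_overlap (hP : IsPGroup 2 ↥P) {i j k : Fin n} (hij : i ≠ j) (hik : i ≠ k)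
    (h1 : swap i j ∈ P) (h2 : swap i k ∈ P) : j = k := by
  by_contra hjk
  have h3 : swap i j * swap i k ∈ P := mul_mem h1 h2
  obtain ⟨t, ht⟩ := hP ⟨_, h3⟩
  have h4 : (swap i j * swap i k).IsThreeCycle := isThreeCycle_swap_mul_swap_same hij hik hjk
  have h5 := orderOf_dvd_of_pow_eq_one (congrArg Subtype.val ht : (swap i j * swap i k) ^ 2 ^ t = 1)
  rw [h4.orderOf] at h5
  exact absurd (Nat.prime_three.dvd_of_dvd_pow h5) (by norm_num)

/-- An element of a 2-group mapping a point of a transposition of it into the pair fixes the pair. -/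
theorem pair_fixed (hP : IsPGroup 2 ↥P) {i j : Fin n} (hij : i ≠ j) (hs : swap i j ∈ P) {c : Perm (Fin n)}
    (hc : c ∈ P) (h : c i = i ∨ c i = j) : (c i = i ∧ c j = j) ∨ (c i = j ∧ c j = i) := by
  have h1 : swap (c i) (c j) ∈ P := by
    rw [swap_apply_apply]; exact mul_mem (mul_mem hc hs) (inv_mem hc)
  have hne : c i ≠ c j := fun e => hij (c.injective e)
  rcases h with h | h
  · rw [h] at h1 hne
    exact Or.inl ⟨h, (swap_eq_of_overlap hP hij hne hs h1).symm⟩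
  · rw [h] at h1 hne
    rw [swap_comm] at hs
    exact Or.inr ⟨h, (swap_eq_of_overlap hP hij.symm hne hs h1).symm⟩

/-- The orbit of a point under a subgroup of permutations. -/
def porb (P : Subgroup (Perm (Fin n))) (i : Fin n) : Set (Fin n) := {x | ∃ g ∈ P, g i = x}

theorem mem_porb_self (i : Fin n) : i ∈ porb P i := ⟨1, one_mem P, rfl⟩

theorem porb_eq_of_mem {i x : Fin n} (hx : x ∈ porb P i) : porb P x = porb P i := by
  obtain ⟨g, hg, rfl⟩ := hx
  ext y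
  constructor
  · rintro ⟨h, hh, rfl⟩; exact ⟨h * g, mul_mem hh hg, rfl⟩
  · rintro ⟨h, hh, rfl⟩
    exact ⟨h * g⁻¹, mul_mem hh (inv_mem hg), by simp⟩

theorem apply_mem_porb_iff {i x : Fin n} {g : Perm (Fin n)} (hg : g ∈ P) : g x ∈ porb P i ↔ x ∈ porb P i := by
  constructor
  · rintro ⟨h, hh, he⟩
    exact ⟨g⁻¹ * h, mul_mem (inv_mem hg) hh, by rw [Perm.mul_apply, he]; simp⟩
  · rintro ⟨h, hh, rfl⟩
    exact ⟨g * h, mul_mem hg hh, rfl⟩

theorem card_porb (hP : IsPGroup 2 ↥P) (i : Fin n) : ∃ a, Nat.card ↥(porb P i) = 2 ^ a := by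
  have e : porb P i = MulAction.orbit ↥P i := by
    ext x
    exact ⟨fun ⟨g, hg, h⟩ => ⟨⟨g, hg⟩, h⟩, fun ⟨g, h⟩ => ⟨g, g.2, h⟩⟩
  rw [e]
  exact hP.card_orbit i

/-- The setwise stabiliser of an orbit, or of an exchanged pair of orbits. -/
def permStab (O O' : Set (Fin n)) : Subgroup (Perm (Fin n)) where
  carrier := {g | ((∀ x, g x ∈ O ↔ x ∈ O) ∧ ∀ x, g x ∈ O' ↔ x ∈ O') ∨
    ((∀ x, g x ∈ O' ↔ x ∈ O) ∧ ∀ x, g x ∈ O ↔ x ∈ O')}
  one_mem' := Or.inl ⟨fun _ => Iff.rfl, fun _ => Iff.rfl⟩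
  mul_mem' := by
    rintro a b (⟨h1, h2⟩ | ⟨h1, h2⟩) (⟨h3, h4⟩ | ⟨h3, h4⟩)
    · exact Or.inl ⟨fun x => (h1 _).trans (h3 x), fun x => (h2 _).trans (h4 x)⟩
    · exact Or.inr ⟨fun x => (h2 _).trans (h3 x), fun x => (h1 _).trans (h4 x)⟩
    · exact Or.inr ⟨fun x => (h1 _).trans (h3 x), fun x => (h2 _).trans (h4 x)⟩
    · exact Or.inl ⟨fun x => (h2 _).trans (h3 x), fun x => (h1 _).trans (h4 x)⟩
  inv_mem' := by
    intro a ha
    have e : ∀ x, a (a⁻¹ x) = x := fun x => by simp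
    rcases ha with ⟨h1, h2⟩ | ⟨h1, h2⟩
    · exact Or.inl ⟨fun x => ((h1 _).symm.trans (by rw [e])), fun x => ((h2 _).symm.trans (by rw [e]))⟩
    · exact Or.inr ⟨fun x => ((h2 _).symm.trans (by rw [e])), fun x => ((h1 _).symm.trans (by rw [e]))⟩

theorem le_permStab (i i' : Fin n) : P ≤ permStab (porb P i) (porb P i') := fun _ hg =>
  Or.inl ⟨fun _ => apply_mem_porb_iff hg, fun _ => apply_mem_porb_iff hg⟩

/-- A 2-element of a subgroup containing a Sylow 2-subgroup is conjugate into it. -/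
theorem exists_conj_mem (S : Sylow 2 (Perm (Fin n))) {H : Subgroup (Perm (Fin n))}
    (hS : (S : Subgroup (Perm (Fin n))) ≤ H) {c : Perm (Fin n)} (hc : c ∈ H) {t : ℕ} (ht : c ^ 2 ^ t = 1) :
    ∃ h ∈ H, h * c * h⁻¹ ∈ (S : Subgroup (Perm (Fin n))) := by
  set c' : ↥H := ⟨c, hc⟩
  have hp : IsPGroup 2 ↥(Subgroup.zpowers c') := by
    rintro ⟨_, i, rfl⟩
    refine ⟨t, Subtype.ext ?_⟩
    show (c' ^ i) ^ (2 ^ t) = 1
    rw [← zpow_natCast (c' ^ i), ← zpow_mul, mul_comm, zpow_mul, zpow_natCast,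
      show c' ^ 2 ^ t = 1 from Subtype.ext ht, one_zpow]
  obtain ⟨Q, hQ⟩ := hp.exists_le_sylow
  obtain ⟨h, hh⟩ := MulAction.exists_smul_eq ↥H Q (S.subtype hS)
  refine ⟨(h : Perm (Fin n)), h.2, ?_⟩
  have h1 : MulAut.conj h • c' ∈ ((h • Q : Sylow 2 ↥H) : Subgroup ↥H) := by
    rw [Sylow.coe_subgroup_smul]
    exact Subgroup.smul_mem_pointwise_smul _ _ _ (hQ (Subgroup.mem_zpowers c'))
  rw [hh] at h1
  exact h1

variable (S : Sylow 2 (Perm (Fin n)))

/-- A Sylow 2-subgroup contains a full cycle on each of its orbits. -/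
theorem exists_full_cycle (i : Fin n) :
    ∃ c ∈ (S : Subgroup (Perm (Fin n))), ∀ k : ℕ, (c ^ k) i = i →
      Nat.card ↥(porb (S : Subgroup (Perm (Fin n))) i) ∣ k := by
  classical
  set O := porb (S : Subgroup (Perm (Fin n))) i with hO
  obtain ⟨a, ha⟩ := card_porb S.2 i
  set s : Finset (Fin n) := O.toFinite.toFinset with hs
  obtain ⟨c, hc, hsupp⟩ := s.exists_cycleOn
  have hcard : s.card = 2 ^ a := by rw [hs, ← Nat.card_eq_card_finite_toFinset, ha]
  have hfix : ∀ x, x ∉ O → c x = x := fun x hx => by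
    by_contra hne
    exact hx ((Set.Finite.mem_toFinset _).1 (hsupp (Perm.mem_support.2 hne)))
  have hcO : ∀ x, c x ∈ O ↔ x ∈ O := fun x => by
    have := hc.1.mapsTo
    constructor
    · intro h
      by_contra hx
      rw [hfix x hx] at h
      exact hx h
    · intro h
      exact (Set.Finite.mem_toFinset _).1 (this ((Set.Finite.mem_toFinset _).2 h))
  have hper : ∀ x ∈ O, ∀ k : ℕ, (c ^ k) x = x ↔ 2 ^ a ∣ k := fun x hx k => by
    rw [← hcard]
    exact hc.pow_apply_eq ((Set.Finite.mem_toFinset _).2 hx)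
  have hord : c ^ 2 ^ a = 1 := by
    refine Perm.ext fun x => ?_
    by_cases hx : x ∈ O
    · exact (hper x hx _).2 dvd_rfl
    · rw [pow_apply_eq_self_of_apply_eq_self (hfix x hx)]; rfl
  obtain ⟨h, hh, hhc⟩ := exists_conj_mem S (H := permStab O O) (le_permStab i i)
    (Or.inl ⟨hcO, hcO⟩) hord
  refine ⟨_, hhc, fun k hk => ?_⟩
  rw [conj_pow, Perm.mul_apply, Perm.mul_apply, ← Equiv.eq_symm_apply] at hk
  have hiO : h⁻¹ i ∈ O := by
    rcases (inv_mem hh : h⁻¹ ∈ permStab O O) with ⟨h1, -⟩ | ⟨h1, -⟩ <;> exact (h1 i).2 (mem_porb_self i)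
  rw [ha]
  exact (hper _ hiO k).1 hk

/-- Every moved point lies in a transposition of a Sylow 2-subgroup. -/
theorem exists_swap_mem {i : Fin n} (hi : ∃ g ∈ (S : Subgroup (Perm (Fin n))), g i ≠ i) :
    ∃ j, j ≠ i ∧ swap i j ∈ (S : Subgroup (Perm (Fin n))) := by
  classical
  set O := porb (S : Subgroup (Perm (Fin n))) i with hO
  obtain ⟨g, hg, hgi⟩ := hi
  have hmem : ∀ x, swap i (g i) x ∈ O ↔ x ∈ O := fun x => by
    by_cases h1 : x = i
    · rw [h1, swap_apply_left]; exact iff_of_true ⟨g, hg, rfl⟩ (mem_porb_self i)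
    by_cases h2 : x = g i
    · rw [h2, swap_apply_right]; exact iff_of_true (mem_porb_self i) ⟨g, hg, rfl⟩
    rw [swap_apply_of_ne_of_ne h1 h2]
  obtain ⟨h, hh, hhc⟩ := exists_conj_mem S (H := permStab O O) (le_permStab i i) (Or.inl ⟨hmem, hmem⟩)
    (t := 1) (by rw [pow_one, pow_two, swap_mul_self])
  rw [← swap_apply_apply] at hhc
  have hO' : h i ∈ O := by
    rcases hh with ⟨h1, -⟩ | ⟨h1, -⟩ <;> exact (h1 i).2 (mem_porb_self i)
  obtain ⟨u, hu, hui⟩ := hO'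
  have h1 := mul_mem (mul_mem (inv_mem hu) hhc) hu
  nth_rewrite 2 [← inv_inv u] at h1
  rw [← swap_apply_apply] at h1
  have hii : u⁻¹ (h i) = i := by rw [← hui]; simp
  rw [hii] at h1
  exact ⟨_, fun e => hgi ((h.injective (u⁻¹.injective (e.trans hii.symm)))), h1⟩

/-- Different orbits have different sizes. -/
theorem porb_size_ne {i i' : Fin n} (hne : porb (S : Subgroup (Perm (Fin n))) i ≠ porb (S : Subgroup (Perm (Fin n))) i') :
    Nat.card ↥(porb (S : Subgroup (Perm (Fin n))) i) ≠ Nat.card ↥(porb (S : Subgroup (Perm (Fin n))) i') := by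
  classical
  intro hc
  set O := porb (S : Subgroup (Perm (Fin n))) i with hO
  set O' := porb (S : Subgroup (Perm (Fin n))) i' with hO'
  have hdis : ∀ x, x ∈ O → x ∉ O' := fun x h h' => hne ((porb_eq_of_mem h).symm.trans (porb_eq_of_mem h'))
  obtain ⟨φ⟩ := Finite.card_eq.1 hc
  let f : Fin n → Fin n := fun x =>
    if hx : x ∈ O then (φ ⟨x, hx⟩ : Fin n) else if hx' : x ∈ O' then (φ.symm ⟨x, hx'⟩ : Fin n) else x
  have hf1 : ∀ x (hx : x ∈ O), f x = φ ⟨x, hx⟩ := fun x hx => dif_pos hx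
  have hf2 : ∀ x (hx : x ∈ O'), f x = φ.symm ⟨x, hx⟩ := fun x hx => by
    simp only [f, dif_neg (fun h => hdis x h hx), dif_pos hx]
  have hf3 : ∀ x, x ∉ O → x ∉ O' → f x = x := fun x h h' => by simp only [f, dif_neg h, dif_neg h']
  have hinv : Function.Involutive f := fun x => by
    by_cases hx : x ∈ O
    · rw [hf1 x hx, hf2 _ (φ ⟨x, hx⟩).2, Subtype.coe_eta, Equiv.symm_apply_apply]
    by_cases hx' : x ∈ O'
    · rw [hf2 x hx', hf1 _ (φ.symm ⟨x, hx'⟩).2, Subtype.coe_eta, Equiv.apply_symm_apply]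
    rw [hf3 x hx hx', hf3 x hx hx']
  set c : Perm (Fin n) := hinv.toPerm f with hcdef
  have hcO : ∀ x, x ∈ O → c x ∈ O' := fun x hx => by
    show f x ∈ O'
    rw [hf1 x hx]; exact (φ ⟨x, hx⟩).2
  have hcO' : ∀ x, x ∈ O' → c x ∈ O := fun x hx => by
    show f x ∈ O
    rw [hf2 x hx]; exact (φ.symm ⟨x, hx⟩).2
  have hcc : ∀ x, c (c x) = x := hinv
  have hmem : c ∈ permStab O O' := Or.inr
    ⟨fun x => ⟨fun h => hcc x ▸ hcO' _ h, hcO x⟩, fun x => ⟨fun h => hcc x ▸ hcO _ h, hcO' x⟩⟩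
  obtain ⟨h, hh, hhc⟩ := exists_conj_mem S (H := permStab O O') (le_permStab i i') hmem
    (t := 1) (by rw [pow_one, pow_two]; exact Perm.ext hcc)
  have e1 : ∀ x, (h * c * h⁻¹) (h x) = h (c x) := fun x => by simp
  rcases hh with ⟨h1, h2⟩ | ⟨h1, h2⟩
  · have hx : h i ∈ O := (h1 i).2 (mem_porb_self i)
    have := (apply_mem_porb_iff hhc).2 hx
    rw [e1, ← hO, h1] at this
    exact hdis _ this (hcO i (mem_porb_self i))
  · have hx : h i ∈ O' := (h1 i).2 (mem_porb_self i)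
    have := (apply_mem_porb_iff hhc).2 hx
    rw [e1, ← hO', h1] at this
    exact hdis _ this (hcO i (mem_porb_self i))

end CfsgLib.LocalEven.CStar
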