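import Cfsg.Agent.Lib.LocalEven.CStar.DegreeBase
import Cfsg.Agent.Lib.LocalEven.CStar.AltModule
import Cfsg.Agent.Lib.LocalEven.CStar.PermTwo
import Cfsg.Agent.Lib.LocalEven.CStar.PermOff

/-!
In an alternating member the commutators of adjacent subgroups are the elements of weight two on the transpositions
that `T` induces.
-/

set_option autoImplicit false

namespace CfsgLib.LocalEven.CStar

open Cfsg Subgroup Equiv
open CfsgLib.LocalEven CfsgLib.LocalEven.SubBlock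
open CfsgLib.LocalEven.BlockBaumann (pairVec pairVec_apply sum_pairVec)
open scoped commutatorElement

theorem card_even {n : ℕ} (hn : 0 < n) :
    Nat.card {v : Fin n → ZMod 2 // ∑ i, v i = 0} = 2 ^ (n - 1) := by
  classical
  haveI : NeZero n := ⟨hn.ne'⟩
  let o : Fin n := 0
  have hsplit : ∀ v : Fin n → ZMod 2, ∑ i, v i = v o + ∑ i ∈ Finset.univ.erase o, v i :=
    fun v => (Finset.add_sum_erase _ _ (Finset.mem_univ o)).symm
  let f : {v : Fin n → ZMod 2 // ∑ i, v i = 0} → ({i : Fin n // i ≠ o} → ZMod 2) := fun v i => v.1 i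
  have hf : Function.Bijective f := by
    refine ⟨fun v w h => Subtype.ext (funext fun i => ?_), fun g => ?_⟩
    · have hne : ∀ i, i ≠ o → v.1 i = w.1 i := fun i hi => congrFun h ⟨i, hi⟩
      by_cases hi : i = o
      · have h1 := (hsplit v.1).symm.trans (v.2.trans (w.2.symm.trans (hsplit w.1)))
        rw [Finset.sum_congr rfl fun j hj => hne j (Finset.ne_of_mem_erase hj)] at h1
        rw [hi]; exact add_right_cancel h1
      · exact hne i hi
    · let s : ZMod 2 := ∑ i : {i : Fin n // i ≠ o}, g i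
      refine ⟨⟨fun i => if h : i = o then s else g ⟨i, h⟩, ?_⟩, funext fun i => dif_neg i.2⟩
      rw [hsplit, dif_pos rfl, Finset.sum_subtype (Finset.univ.erase o) (p := fun i => i ≠ o) (by simp),
        Finset.sum_congr rfl (g := g) fun i _ => dif_neg i.2]
      exact CharTwo.add_self_eq_zero s
  rw [Nat.card_congr (Equiv.ofBijective f hf), Nat.card_fun, Nat.card_zmod, Nat.card_eq_fintype_card,
    Fintype.card_subtype_compl, Fintype.card_subtype_eq, Fintype.card_fin]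

/-- An even permutation sending two points to two points. -/
theorem exists_even_map {n : ℕ} (h5 : 5 ≤ n) {a b c d : Fin n} (hab : a ≠ b) (hcd : c ≠ d) :
    ∃ g : Perm (Fin n), g ∈ alternatingGroup (Fin n) ∧ g a = c ∧ g b = d := by
  set g₁ := swap a c with hg₁
  set g := swap (g₁ b) d * g₁ with hg
  have hga : g a = c := by
    rw [hg, Perm.mul_apply, hg₁, swap_apply_left, swap_apply_of_ne_of_ne]
    · intro e
      have : swap a c a = swap a c b := (swap_apply_left a c).trans e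
      exact hab ((swap a c).injective this)
    · exact hcd
  have hgb : g b = d := by rw [hg, Perm.mul_apply, swap_apply_left]
  rcases Int.units_eq_one_or (Perm.sign g) with h | h
  · exact ⟨g, Perm.mem_alternatingGroup.2 h, hga, hgb⟩
  obtain ⟨k, hk, l, hl, hkl⟩ := Finset.one_lt_card.1 (show 1 < (Finset.univ \ {c, d} : Finset (Fin n)).card by
    have := Finset.card_le_two (a := c) (b := d)
    rw [Finset.card_sdiff, Finset.inter_univ, Finset.card_univ, Fintype.card_fin]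
    omega)
  simp only [Finset.mem_sdiff, Finset.mem_univ, true_and, Finset.mem_insert, Finset.mem_singleton, not_or] at hk hl
  refine ⟨swap k l * g, ?_, ?_, ?_⟩
  · rw [Perm.mem_alternatingGroup, map_mul, Perm.sign_swap hkl, h]; decide
  · rw [Perm.mul_apply, hga, swap_apply_of_ne_of_ne (Ne.symm hk.1) (Ne.symm hl.1)]
  · rw [Perm.mul_apply, hgb, swap_apply_of_ne_of_ne (Ne.symm hk.2) (Ne.symm hl.2)]

/-- A permutation group containing the transposition on each of its moved points is generated by them. -/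
theorem le_of_swaps {n : ℕ} {R R' : Subgroup (Perm (Fin n))}
    (hR : ∀ r ∈ R, ∀ i, r i ≠ i → swap i (r i) ∈ R) (h : ∀ i j, i ≠ j → swap i j ∈ R → swap i j ∈ R') :
    R ≤ R' := by
  classical
  suffices ∀ k : ℕ, ∀ r ∈ R, r.support.card = k → r ∈ R' from fun r hr => this _ r hr rfl
  intro k
  induction k using Nat.strong_induction_on with
  | _ k ih =>
    intro r hr hk
    by_cases h1 : r = 1
    · rw [h1]; exact one_mem _
    obtain ⟨i, hi⟩ : ∃ i, r i ≠ i := by
      by_contra hc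
      push Not at hc
      exact h1 (Perm.ext hc)
    have hs := hR r hr i hi
    have h2 : (swap i (r i) * r).support.card < k := hk ▸ Perm.card_support_swap_mul hi
    have h3 := mul_mem (h i (r i) (Ne.symm hi) hs) (ih _ h2 _ (mul_mem hs hr) rfl)
    rwa [← mul_assoc, swap_mul_self, one_mul] at h3

variable {G : Type*} [Group G] [Finite G] {E : Subgroup G} {m : ℕ}

/-- The permutations induced by `X`. -/
def AltMod.permOf {n : ℕ} (M : AltMod E n) (X : Subgroup G) : Subgroup (Perm (Fin n)) where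
  carrier := {x | ∃ g ∈ X, g ∈ normalizer (E : Set G) ∧ M.perm g = x}
  one_mem' := ⟨1, one_mem _, one_mem _, M.perm_one⟩
  mul_mem' := by
    rintro _ _ ⟨a, ha, ha', rfl⟩ ⟨b, hb, hb', rfl⟩
    exact ⟨a * b, mul_mem ha hb, mul_mem ha' hb', M.perm_mul a ha' b hb'⟩
  inv_mem' := by
    rintro _ ⟨a, ha, ha', rfl⟩
    exact ⟨a⁻¹, inv_mem ha, inv_mem ha', M.perm_inv ha'⟩

theorem AltMod.permOf_pGroup {n : ℕ} (M : AltMod E n) {X : Subgroup G} (hX : IsPGroup 2 ↥X) :
    IsPGroup 2 ↥(M.permOf X) := by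
  rintro ⟨_, g, hg, hgN, rfl⟩
  obtain ⟨k, hk⟩ := hX ⟨g, hg⟩
  refine ⟨k, Subtype.ext ?_⟩
  show M.perm g ^ 2 ^ k = 1
  rw [← M.perm_pow hgN, show g ^ 2 ^ k = 1 from congrArg Subtype.val hk, M.perm_one]

variable {T : Sylow 2 G} (M : AltMod E (2 * m + 1))

theorem maxEA_normalizes (hE : IsBaumannBlock 2 (T : Subgroup G) E) {A : Subgroup G}
    (hA : A ∈ maxElementaryAbelianSubgroups 2 G) (hAT : A ≤ (T : Subgroup G)) : A ≤ normalizer (E : Set G) :=
  ((CfsgLib.Transfer.le_thompsonSubgroupOf hA hAT).trans (Baumann.thompson_le_baumann _)).trans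
    (Block.baumann_le_normalizer hE)

section
variable (hE : IsBaumannBlock 2 (T : Subgroup G) E) (hm : 2 ≤ m) {A : Subgroup G}
  (hA : A ∈ maxElementaryAbelianSubgroups 2 G) (hAT : A ≤ (T : Subgroup G))
include hE hm hA hAT

/-- An elementary abelian subgroup of largest order is a best offender generated by its transpositions. -/
theorem offender_alt :
    Nat.card ↥A * Nat.card ↥(bW 2 E ⊓ centralizer (A : Set G)) =
      Nat.card ↥(A ⊓ centralizer (bW 2 E : Set G)) * Nat.card ↥(bW 2 E) ∧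
    ∀ a ∈ A, ∀ i, M.perm a i ≠ i → (∃ a' ∈ A, M.perm a' = swap i (M.perm a i)) ∧
      ∀ b ∈ A, M.perm b i = i ∨ M.perm b i = M.perm a i := by
  classical
  have hAN := maxEA_normalizes hE hA hAT
  set R := M.permOf A with hR
  have hRc : ∀ a ∈ R, ∀ b ∈ R, a * b = b * a := by
    rintro _ ⟨a, ha, ha', rfl⟩ _ ⟨b, hb, hb', rfl⟩
    rw [← M.perm_mul a ha' b hb', ← M.perm_mul b hb' a ha', CfsgLib.PGroup.elemAb_comm hA.1 ha hb]
  -- the kernel
  let φ : ↥A →* Perm (Fin (2 * m + 1)) :=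
    MonoidHom.mk' (fun a => M.perm a) fun a b => M.perm_mul a (hAN a.2) b (hAN b.2)
  have hrange : φ.range = R := by
    ext x
    exact ⟨fun ⟨a, h⟩ => ⟨a, a.2, hAN a.2, h⟩, fun ⟨a, ha, _, h⟩ => ⟨⟨a, ha⟩, h⟩⟩
  have hker : φ.ker = (A ⊓ centralizer (bW 2 E : Set G)).subgroupOf A := by
    ext a
    rw [MonoidHom.mem_ker, mem_subgroupOf, Subgroup.mem_inf]
    show M.perm (a : G) = 1 ↔ _
    rw [← M.centralizes_iff (by omega) (hAN a.2)]
    exact ⟨fun h => ⟨a.2, h⟩, fun h => h.2⟩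
  have hcardA : Nat.card ↥A = Nat.card ↥R * Nat.card ↥(A ⊓ centralizer (bW 2 E : Set G)) := by
    rw [← hrange, Subgroup.card_eq_card_quotient_mul_card_subgroup φ.ker,
      Nat.card_congr (QuotientGroup.quotientKerEquivRange φ).toEquiv, hker,
      Nat.card_congr (subgroupOfEquivOfLe inf_le_left).toEquiv]
  -- the fixed vectors
  have hcardW : Nat.card ↥(bW 2 E) = 2 ^ (2 * m + 1 - 1) := by
    rw [← card_even (Nat.succ_pos _)]
    refine Nat.card_congr (Equiv.ofBijective (fun w => ⟨M.vec w, M.vec_sum w w.2⟩) ⟨fun a b h => ?_, fun v => ?_⟩)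
    · exact Subtype.ext (M.vec_inj a a.2 b b.2 (congrArg Subtype.val h))
    · obtain ⟨w, hw, hv⟩ := M.vec_surj v.1 v.2
      exact ⟨⟨w, hw⟩, Subtype.ext hv⟩
  have hcardC : Nat.card ↥(bW 2 E ⊓ centralizer (A : Set G)) = Nat.card (fixEven R) := by
    refine Nat.card_congr (Equiv.ofBijective (fun w => ⟨M.vec w, M.vec_sum w w.2.1, ?_⟩) ⟨fun a b h => ?_, fun v => ?_⟩)
    · rintro _ ⟨a, ha, haN, rfl⟩
      exact (M.commute_iff haN w.2.1).1 (mem_centralizer_iff.1 w.2.2 a ha)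
    · exact Subtype.ext (M.vec_inj a a.2.1 b b.2.1 (congrArg Subtype.val h))
    · obtain ⟨w, hw, hv⟩ := M.vec_surj v.1 v.2.1
      refine ⟨⟨w, hw, mem_centralizer_iff.2 fun a ha => (M.commute_iff (hAN ha) hw).2 fun i => ?_⟩, Subtype.ext hv⟩
      rw [hv]
      exact v.2.2 _ ⟨a, ha, hAN ha, rfl⟩ i
  have hoff := BlockBaumann.offender_max hA (elemAb_bW E) (inf_le_left : A ⊓ centralizer (bW 2 E : Set G) ≤ A)
  have e1 : bW 2 E ⊓ centralizer ((A ⊓ centralizer (bW 2 E : Set G) : Subgroup G) : Set G) = bW 2 E :=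
    inf_eq_left.2 fun w hw => mem_centralizer_iff.2 fun a ha =>
      (mem_centralizer_iff.1 (Subgroup.mem_inf.1 ha).2 w hw).symm
  rw [e1,
    hcardA, hcardC, hcardW, mul_comm (Nat.card ↥R), mul_assoc] at hoff
  obtain ⟨heq, hgen⟩ := perm_offender ⟨m, rfl⟩ R hRc (Nat.le_of_mul_le_mul_left hoff Nat.card_pos)
  refine ⟨?_, fun a ha i hi => ?_⟩
  · rw [hcardA, hcardC, hcardW, ← heq]; ring
  · obtain ⟨⟨a', ha', -, h'⟩, hp⟩ := hgen _ ⟨a, ha, hAN ha, rfl⟩ i hi
    exact ⟨⟨a', ha', h'⟩, fun b hb => hp _ ⟨b, hb, hAN hb, rfl⟩⟩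

end

section
variable (hG : centralizer (pCore 2 G : Set G) ≤ pCore 2 G) (hE : IsBaumannBlock 2 (T : Subgroup G) E)
  (hEs : E.IsSubnormal) (hm : 2 ≤ m)
include hE hm

/-- Some elementary abelian subgroup of largest order induces a transposition. -/
theorem exists_swap_offender (hG : centralizer (pCore 2 G : Set G) ≤ pCore 2 G) :
    ∃ A ∈ maxElementaryAbelianSubgroups 2 G, A ≤ (T : Subgroup G) ∧ ∃ a ∈ A, ∃ i j,
      i ≠ j ∧ M.perm a = swap i j := by
  obtain ⟨-, -, hJ⟩ := Block.block_position hG hE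
  obtain ⟨hQ, hWE⟩ := core_two hE
  obtain ⟨A, hA, hAT, hmov⟩ : ∃ A ∈ maxElementaryAbelianSubgroups 2 G, A ≤ (T : Subgroup G) ∧
      ¬ A ≤ centralizer (bWE 2 E : Set G) := by
    by_contra hc
    push Not at hc
    obtain ⟨A₁, hA₁, hA₁T⟩ := CfsgLib.Transfer.exists_maxEA_le_sylow T
    refine hJ (commutator_eq_bot_iff_le_centralizer.2 (le_centralizer_iff.1 ?_))
    refine map_le_iff_le_comap.2 (sSup_le fun A hA => map_le_iff_le_comap.1 ?_)
    exact hc _ (CfsgLib.Transfer.maxEA_map_subtype hA₁ hA₁T hA) (map_subtype_le A)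
  obtain ⟨a, ha, hac⟩ := SetLike.not_le_iff_exists.1 hmov
  rw [hWE, M.centralizes_iff (by omega) (maxEA_normalizes hE hA hAT ha)] at hac
  obtain ⟨i, hi⟩ : ∃ i, M.perm a i ≠ i := by
    by_contra hc
    push Not at hc
    exact hac (Perm.ext hc)
  obtain ⟨⟨a', ha', h'⟩, -⟩ := (offender_alt M hE hm hA hAT).2 a ha i hi
  exact ⟨A, hA, hAT, a', ha', i, _, Ne.symm hi, h'⟩

include hG hEs

/-- The even permutations induced by `T` come from `T ∩ E`; they form a Sylow subgroup with one fixed point. -/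
theorem perm_sylow : (∃ S : Sylow 2 (Perm (Fin (2 * m + 1))), (S : Subgroup _) = M.permOf (T : Subgroup G)) ∧
    (∀ x ∈ M.permOf (T : Subgroup G), x ∈ alternatingGroup (Fin (2 * m + 1)) →
      ∃ s ∈ (T : Subgroup G) ⊓ E, M.perm s = x) ∧
    ∃ ω, (∀ x ∈ M.permOf (T : Subgroup G), x ω = ω) ∧
      ∀ i, (∀ s ∈ (T : Subgroup G) ⊓ E, M.perm s i = i) → i = ω := by
  classical
  set P := M.permOf (T : Subgroup G) with hP
  let π : ↥E →* ↥(alternatingGroup (Fin (2 * m + 1))) :=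
    MonoidHom.mk' (fun e => ⟨M.perm e, (M.perm_range _).2 ⟨e, e.2, rfl⟩⟩)
      fun a b => Subtype.ext (M.perm_mul a (le_normalizer a.2) b (le_normalizer b.2))
  have hπ : Function.Surjective π := fun x => by
    obtain ⟨e, he, hex⟩ := (M.perm_range _).1 x.2
    exact ⟨⟨e, he⟩, Subtype.ext hex⟩
  obtain ⟨Q, hQ⟩ := exists_sylow_eq_inf_of_isSubnormal T hEs
  set Pb := Q.mapSurjective hπ with hPb
  have hPbP : ∀ y ∈ (Pb : Subgroup ↥(alternatingGroup (Fin (2 * m + 1)))),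
      ∃ s ∈ (T : Subgroup G) ⊓ E, M.perm s = y := by
    intro y hy
    rw [hPb, Sylow.coe_mapSurjective] at hy
    obtain ⟨e, he, rfl⟩ := hy
    rw [hQ] at he
    exact ⟨e, ⟨he, e.2⟩, rfl⟩
  have hsub : ∀ s ∈ (T : Subgroup G) ⊓ E, M.perm s ∈ P := fun s hs => ⟨s, hs.1, le_normalizer hs.2, rfl⟩
  -- the even part
  have heven : ∀ S : Subgroup (Perm (Fin (2 * m + 1))), IsPGroup 2 ↥S → P ≤ S → ∀ x ∈ S,
      x ∈ alternatingGroup (Fin (2 * m + 1)) → ∃ s ∈ (T : Subgroup G) ⊓ E, M.perm s = x := by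
    intro S hS hPS x hxS hx
    have hle : (Pb : Subgroup _) ≤ S.subgroupOf (alternatingGroup (Fin (2 * m + 1))) := fun y hy => by
      obtain ⟨s, hs, hsy⟩ := hPbP y hy
      rw [mem_subgroupOf, ← hsy]
      exact hPS (hsub s hs)
    have h1 := Pb.3 hS.comap_subtype hle
    exact hPbP ⟨x, hx⟩ (h1.le (show (⟨x, hx⟩ : ↥(alternatingGroup (Fin (2 * m + 1)))) ∈ S.subgroupOf _ from hxS))
  have hPp := M.permOf_pGroup T.2
  refine ⟨?_, heven P hPp le_rfl, ?_⟩
  · obtain ⟨S, hS⟩ := hPp.exists_le_sylow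
    refine ⟨S, le_antisymm (fun x hx => ?_) hS⟩
    rcases Int.units_eq_one_or (Perm.sign x) with h | h
    · obtain ⟨s, hs, rfl⟩ := heven _ S.2 hS x hx (Perm.mem_alternatingGroup.2 h)
      exact hsub s hs
    obtain ⟨A, hA, hAT, a, ha, i, j, hij, hat⟩ := exists_swap_offender M hE hm hG
    have htP : swap i j ∈ P := ⟨a, hAT ha, maxEA_normalizes hE hA hAT ha, hat⟩
    obtain ⟨s, hs, hsx⟩ := heven _ S.2 hS (x * swap i j) (mul_mem hx (hS htP))
      (Perm.mem_alternatingGroup.2 (by rw [map_mul, h, Perm.sign_swap hij]; decide))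
    have h2 := mul_mem (hsub s hs) htP
    rwa [hsx, mul_assoc, swap_mul_self, mul_one] at h2
  · obtain ⟨ω, hω, huniq⟩ := exists_unique_fixed hm Pb
    have huniq' : ∀ i, (∀ s ∈ (T : Subgroup G) ⊓ E, M.perm s i = i) → i = ω := fun i hi => huniq i fun y hy => by
      obtain ⟨s, hs, hsy⟩ := hPbP y hy
      rw [mem_altStab, ← hsy]
      exact hi s hs
    refine ⟨ω, ?_, huniq'⟩
    rintro _ ⟨g, hgT, hgN, rfl⟩
    refine huniq' _ fun s hs => ?_
    have hs' : g⁻¹ * s * g ∈ (T : Subgroup G) ⊓ E := Subgroup.mem_inf.2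
      ⟨mul_mem (mul_mem (inv_mem hgT) hs.1) hgT, (mem_normalizer_iff''.1 hgN s).1 hs.2⟩
    have h1 : (π ⟨_, hs'.2⟩) ∈ altStab ω := by
      refine hω ?_
      rw [hPb, Sylow.coe_mapSurjective]
      refine mem_map_of_mem π ?_
      rw [hQ]; exact hs'.1
    have h2 : M.perm (g⁻¹ * s * g) ω = ω := h1
    rw [M.perm_mul _ (mul_mem (inv_mem hgN) (le_normalizer hs.2)) g hgN, M.perm_mul _ (inv_mem hgN) s (le_normalizer hs.2),
      M.perm_inv hgN, Perm.mul_apply, Perm.mul_apply, Perm.inv_def, Equiv.symm_apply_eq] at h2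
    exact h2

/-- The element of weight two on a transposition induced by `T` is such a commutator. -/
theorem pairElt_mem_adj {i j : Fin (2 * m + 1)} (hij : i ≠ j) (hswap : swap i j ∈ M.permOf (T : Subgroup G)) :
    M.pairElt i j ∈ adjOf (T : Subgroup G) := by
  classical
  obtain ⟨A, hA, hAT, a, ha, i₀, j₀, hij₀, hat⟩ := exists_swap_offender M hE hm hG
  obtain ⟨-, heven, -⟩ := perm_sylow M hG hE hEs hm
  have hAN := maxEA_normalizes hE hA hAT
  obtain ⟨hcard, -⟩ := offender_alt M hE hm hA hAT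
  set W := bW 2 E with hW
  have hWe := elemAb_bW (G := G) E
  set D := A ⊓ centralizer (W : Set G) with hD
  have hDW : ∀ d ∈ D, ∀ w ∈ W, d * w = w * d := fun d hd w hw => (mem_centralizer_iff.1 hd.2 w hw).symm
  have hDe : IsElementaryAbelian 2 D := CfsgLib.PGroup.elemAb_mono hA.1 inf_le_left
  have hCA : W ⊓ centralizer (A : Set G) = A ⊓ W := le_antisymm
    (le_inf (inf_centralizer_le_of_maxEA hA hWe) inf_le_left)
    fun x hx => ⟨hx.2, mem_centralizer_iff.2 fun b hb => CfsgLib.PGroup.elemAb_comm hA.1 hb hx.1⟩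
  rw [hCA] at hcard
  have hmax : ∀ X : Subgroup G, IsElementaryAbelian 2 X → Nat.card ↥A ≤ Nat.card ↥X →
      X ∈ maxElementaryAbelianSubgroups 2 G := fun X hX hle => ⟨hX, fun B hB => (hA.2 B hB).trans hle⟩
  have hWT : W ≤ (T : Subgroup G) :=
    ((bW_le_core E).trans (core_le_pCore hEs)).trans (CfsgLib.Cores.pCore_le_sylow T)
  -- the two subgroups
  set A' := D ⊔ W with hA'
  have hA'e : IsElementaryAbelian 2 A' := BlockBaumann.elemAb_sup hDe hWe hDW
  have hle1 : D ⊓ W ≤ A ⊓ W := inf_le_inf_right _ inf_le_left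
  have hA'm : A' ∈ maxElementaryAbelianSubgroups 2 G := by
    refine hmax _ hA'e (Nat.le_of_mul_le_mul_right ?_ (Nat.card_pos (α := ↥(A ⊓ W : Subgroup G))))
    calc Nat.card ↥A * Nat.card ↥(A ⊓ W) = Nat.card ↥D * Nat.card ↥W := hcard
      _ ≤ Nat.card ↥A' * Nat.card ↥(D ⊓ W) := CfsgLib.PGroup.card_mul_card_le_sup_inf D W
      _ ≤ _ := Nat.mul_le_mul_left _ (card_le_of_le hle1)
  set C := W ⊓ centralizer ({a} : Set G) with hC
  have haN := hAN ha
  -- `C` has index two in `W`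
  have hf : ∀ w ∈ W, a * w * a⁻¹ * w⁻¹ = 1 ∨ a * w * a⁻¹ * w⁻¹ = M.pairElt i₀ j₀ := by
    intro w hw
    have hmem : a * w * a⁻¹ * w⁻¹ ∈ W := mul_mem (M.conj_mem haN hw) (inv_mem hw)
    have hv : M.vec (a * w * a⁻¹ * w⁻¹) = fun k => M.vec w (swap i₀ j₀ k) + M.vec w k := by
      funext k
      have h1 := M.vec_mul _ hmem w hw
      rw [inv_mul_cancel_right] at h1
      have h2 := M.vec_conj a haN w hw k
      rw [h1, hat, swap_inv, Pi.add_apply] at h2
      rw [← h2, add_assoc, CharTwo.add_self_eq_zero, add_zero]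
    rcases (show ∀ t : ZMod 2, t = 0 ∨ t = 1 by decide) (M.vec w i₀ + M.vec w j₀) with h | h
    · refine Or.inl (M.vec_inj _ hmem 1 (one_mem _) ?_)
      rw [M.vec_one, hv]
      funext k
      by_cases h1 : k = i₀
      · rw [h1, swap_apply_left, add_comm]; exact h
      by_cases h2 : k = j₀
      · rw [h2, swap_apply_right]; exact h
      rw [swap_apply_of_ne_of_ne h1 h2]; exact CharTwo.add_self_eq_zero _
    · refine Or.inr (M.vec_inj _ hmem _ (M.pairElt_mem _ _) ?_)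
      rw [M.vec_pairElt, hv]
      funext k
      rw [pairVec_apply]
      by_cases h1 : k = i₀
      · rw [h1, swap_apply_left, add_comm, h, if_pos rfl, if_neg hij₀, add_zero]
      by_cases h2 : k = j₀
      · rw [h2, swap_apply_right, h, if_neg hij₀.symm, if_pos rfl, zero_add]
      rw [swap_apply_of_ne_of_ne h1 h2, if_neg h1, if_neg h2, add_zero]; exact CharTwo.add_self_eq_zero _
  have hindex : Nat.card ↥W ≤ 2 * Nat.card ↥C := by
    let δ : ↥W → Bool := fun w => decide (a * (w : G) * a⁻¹ * (w : G)⁻¹ = 1)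
    obtain ⟨w₁, hw₁⟩ : ∃ w₁ : ↥W, ∀ w : ↥W, δ w = false →
        a * (w : G) * a⁻¹ * (w : G)⁻¹ = a * (w₁ : G) * a⁻¹ * (w₁ : G)⁻¹ := by
      by_cases h : ∃ w : ↥W, δ w = false
      · obtain ⟨w₁, h1⟩ := h
        refine ⟨w₁, fun w hw => ?_⟩
        simp only [δ, decide_eq_false_iff_not] at hw h1
        rw [(hf w w.2).resolve_left hw, (hf w₁ w₁.2).resolve_left h1]
      · exact ⟨1, fun w hw => absurd ⟨w, hw⟩ h⟩
    have hcomm : ∀ {w : G}, w ∈ W → a * w * a⁻¹ * w⁻¹ = 1 → w ∈ C := fun hw h => ⟨hw,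
      mem_centralizer_singleton_iff.2 (mul_inv_eq_iff_eq_mul.1 (mul_inv_eq_one.1 h)).symm⟩
    have hmem : ∀ w : ↥W, δ w = false → (w₁ : G)⁻¹ * w ∈ C := by
      intro w hw
      refine hcomm (mul_mem (inv_mem w₁.2) w.2) ?_
      have e := hw₁ w hw
      have hWc : ∀ {x y : G}, x ∈ W → y ∈ W → x * y = y * x := fun hx hy => bW_comm hx hy
      have ew : a * ((w₁ : G)⁻¹) * a⁻¹ ∈ W := M.conj_mem haN (inv_mem w₁.2)
      calc a * ((w₁ : G)⁻¹ * w) * a⁻¹ * ((w₁ : G)⁻¹ * w)⁻¹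
          = a * (w₁ : G)⁻¹ * a⁻¹ * (a * w * a⁻¹ * (w : G)⁻¹) * w₁ := by group
        _ = a * (w₁ : G)⁻¹ * a⁻¹ * (a * w₁ * a⁻¹ * (w₁ : G)⁻¹) * w₁ := by rw [e]
        _ = 1 := by group
    let g : ↥W → Bool × ↥C := fun w =>
      if h : δ w = true then (true, ⟨w, hcomm w.2 (by simpa [δ] using h)⟩)
      else (false, ⟨_, hmem w (by simpa using h)⟩)
    have hg : Function.Injective g := by
      intro x y hxy
      by_cases h1 : δ x = true <;> by_cases h2 : δ y = true <;>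
        simp only [g, dif_pos, dif_neg, h1, h2, not_false_eq_true, Prod.mk.injEq, Subtype.mk.injEq,
          reduceCtorEq, false_and, true_and, mul_right_inj] at hxy
      exacts [Subtype.ext hxy, Subtype.ext hxy]
    have := Nat.card_le_card_of_injective g hg
    simpa [Nat.card_prod, Nat.card_eq_fintype_card (α := Bool)] using this
  set A0 := D ⊔ C with hA0
  set At := A0 ⊔ zpowers a with hAt
  have hA0e : IsElementaryAbelian 2 A0 := BlockBaumann.elemAb_sup hDe (CfsgLib.PGroup.elemAb_mono hWe inf_le_left)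
    fun d hd c hc => hDW d hd c hc.1
  have hA0a : A0 ≤ centralizer ({a} : Set G) := sup_le
    (fun d hd => mem_centralizer_singleton_iff.2 (CfsgLib.PGroup.elemAb_comm hA.1 hd.1 ha)) inf_le_right
  have hAte : IsElementaryAbelian 2 At := by
    refine BlockBaumann.elemAb_sup hA0e (CfsgLib.PGroup.elemAb_mono hA.1 (zpowers_le.2 ha)) fun x hx y hy => ?_
    have hc : zpowers a ≤ centralizer ({x} : Set G) := zpowers_le.2
      (mem_centralizer_singleton_iff.2 (mem_centralizer_singleton_iff.1 (hA0a hx)).symm)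
    exact (mem_centralizer_singleton_iff.1 (hc hy)).symm
  obtain ⟨ω, hωfix, -⟩ := (perm_sylow M hG hE hEs hm).2.2
  have hω0 : i₀ ≠ ω ∧ j₀ ≠ ω := by
    have h1 := hωfix _ ⟨a, hAT ha, haN, hat⟩
    constructor <;> intro e <;> rw [← e] at h1
    · rw [swap_apply_left] at h1; exact hij₀ h1.symm
    · rw [swap_apply_right] at h1; exact hij₀ h1
  set w₀ := M.pairElt i₀ ω with hw₀
  have hw₀W : w₀ ∈ W := M.pairElt_mem _ _
  have haw : a * w₀ ≠ w₀ * a := fun e => by
    rcases (M.commute_pairElt_iff haN hω0.1).1 e with ⟨h1, -⟩ | ⟨h1, -⟩ <;> rw [hat, swap_apply_left] at h1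
    · exact hij₀ h1.symm
    · exact hω0.2 h1
  have hA0A' : A0 ≤ A' := sup_le_sup_left inf_le_left _
  have haA' : a ∉ A' := fun h =>
    haw (CfsgLib.PGroup.elemAb_comm hA'e h (mem_sup_right hw₀W))
  have haA0 : a ∉ A0 := fun h => haA' (hA0A' h)
  have hA0card : Nat.card ↥A ≤ 2 * Nat.card ↥A0 := by
    refine Nat.le_of_mul_le_mul_right ?_ (Nat.card_pos (α := ↥(A ⊓ W : Subgroup G)))
    calc Nat.card ↥A * Nat.card ↥(A ⊓ W) = Nat.card ↥D * Nat.card ↥W := hcard
      _ ≤ Nat.card ↥D * (2 * Nat.card ↥C) := Nat.mul_le_mul_left _ hindex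
      _ = 2 * (Nat.card ↥D * Nat.card ↥C) := by ring
      _ ≤ 2 * (Nat.card ↥A0 * Nat.card ↥(D ⊓ C)) := Nat.mul_le_mul_left _ (CfsgLib.PGroup.card_mul_card_le_sup_inf D C)
      _ ≤ 2 * (Nat.card ↥A0 * Nat.card ↥(A ⊓ W)) := Nat.mul_le_mul_left _ (Nat.mul_le_mul_left _
          (card_le_of_le (inf_le_inf inf_le_left inf_le_left)))
      _ = _ := by ring
  have htwo : 2 * Nat.card ↥A0 ≤ Nat.card ↥At := by
    let g : Bool × ↥A0 → ↥At := fun z => if z.1 then ⟨(z.2 : G), mem_sup_left z.2.2⟩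
      else ⟨(z.2 : G) * a, mul_mem (mem_sup_left z.2.2) (mem_sup_right (mem_zpowers a))⟩
    have hg : Function.Injective g := by
      have key : ∀ x y : ↥A0, (x : G) ≠ (y : G) * a := fun x y e => haA0 (by
        rw [show a = (y : G)⁻¹ * x by rw [e]; group]
        exact mul_mem (inv_mem y.2) x.2)
      rintro ⟨b, x⟩ ⟨c, y⟩ h
      cases b <;> cases c <;> simp [g] at h
      · exact Prod.ext rfl h
      · exact absurd h.symm (key _ _)
      · exact absurd h (key _ _)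
      · exact Prod.ext rfl h
    have := Nat.card_le_card_of_injective g hg
    simpa [Nat.card_prod, Nat.card_eq_fintype_card (α := Bool)] using this
  have hAtm : At ∈ maxElementaryAbelianSubgroups 2 G := hmax _ hAte (hA0card.trans htwo)
  have hadj : Nat.card ↥A' = 2 * Nat.card ↥(A' ⊓ At) := by
    have h1 : Nat.card ↥A' = Nat.card ↥At := le_antisymm (hAtm.2 _ hA'e) (hA'm.2 _ hAte)
    have h2 : Nat.card ↥A = Nat.card ↥At := le_antisymm (hAtm.2 _ hA.1) (hA.2 _ hAte)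
    have h3 : Nat.card ↥A0 ≤ Nat.card ↥(A' ⊓ At) := card_le_of_le (le_inf hA0A' le_sup_left)
    have h4 : (A' ⊓ At).subgroupOf At ≠ ⊤ := fun h => haA' (Subgroup.mem_inf.1 (subgroupOf_eq_top.1 h
      (mem_sup_right (mem_zpowers a)))).1
    have h5 := ((A' ⊓ At).subgroupOf At).card_mul_index
    rw [Nat.card_congr (subgroupOfEquivOfLe (inf_le_right : A' ⊓ At ≤ At)).toEquiv] at h5
    have h6 : 2 ≤ ((A' ⊓ At).subgroupOf At).index := by
      have h0 := Subgroup.index_ne_zero_of_finite (H := (A' ⊓ At).subgroupOf At)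
      have h1' : ((A' ⊓ At).subgroupOf At).index ≠ 1 := fun h => h4 (index_eq_one.1 h)
      omega
    nlinarith
  -- conjugating to the transposition `(i j)`
  obtain ⟨g₀, hg₀, hgi, hgj⟩ := exists_even_map (by omega : 5 ≤ 2 * m + 1) hij₀ hij
  obtain ⟨e, he, hee⟩ := (M.perm_range _).1 hg₀
  have heN := le_normalizer (H := E) he
  set c := (MulAut.conj e).toMonoidHom with hc
  have hQT : pCoreOf 2 E ≤ (T : Subgroup G) := (core_le_pCore hEs).trans (CfsgLib.Cores.pCore_le_sylow T)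
  have hbr : ∀ x ∈ normalizer (E : Set G), e * x * e⁻¹ * x⁻¹ ∈ E := fun x hx => by
    rw [mul_assoc e x e⁻¹, mul_assoc]
    exact mul_mem he ((mem_normalizer_iff.1 hx _).1 (inv_mem he))
  have hDT : D.map c ≤ (T : Subgroup G) := by
    rintro _ ⟨d, hd, rfl⟩
    have h1 : ⁅e, d⁆ ∈ pCoreOf 2 E := by
      rw [← commutatorElement_inv]
      exact inv_mem (commutator_mem_of_centralizes hE (hAN hd.1) ((core_two hE).2.symm ▸ hd.2) he)
    show e * d * e⁻¹ ∈ (T : Subgroup G)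
    rw [show e * d * e⁻¹ = ⁅e, d⁆ * d by rw [commutatorElement_def]; group]
    exact mul_mem (hQT h1) (hAT hd.1)
  have hWc : W.map c ≤ W := by
    rintro _ ⟨w, hw, rfl⟩
    exact M.conj_mem heN hw
  have hperm : M.perm (e * a * e⁻¹) = swap i j := by
    rw [M.perm_mul _ (mul_mem heN haN) _ (inv_mem heN), M.perm_mul e heN a haN, M.perm_inv heN, hee, hat,
      ← swap_apply_apply, hgi, hgj]
  have haT : e * a * e⁻¹ ∈ (T : Subgroup G) := by
    have hmem := hbr a haN
    have hp : M.perm (e * a * e⁻¹ * a⁻¹) = swap i j * swap i₀ j₀ := by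
      rw [M.perm_mul _ (mul_mem (mul_mem heN haN) (inv_mem heN)) _ (inv_mem haN), hperm, M.perm_inv haN, hat, swap_inv]
    obtain ⟨s, hs, hsx⟩ := heven _ (hp ▸ mul_mem hswap ⟨a, hAT ha, haN, hat⟩)
      ((M.perm_range _).2 ⟨_, hmem, rfl⟩)
    have h1 : s⁻¹ * (e * a * e⁻¹ * a⁻¹) ∈ pCoreOf 2 E := (M.perm_eq_one _ (mul_mem (inv_mem hs.2) hmem)).1 (by
      rw [M.perm_mul _ (inv_mem (le_normalizer hs.2)) _ (le_normalizer hmem), M.perm_inv (le_normalizer hs.2), hsx,
        inv_mul_cancel])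
    have h2 := mul_mem (mul_mem hs.1 (hQT h1)) (hAT ha)
    rwa [mul_inv_cancel_left, inv_mul_cancel_right] at h2
  have hA'T : A'.map c ≤ (T : Subgroup G) := by
    rw [hA', Subgroup.map_sup]; exact sup_le hDT (hWc.trans hWT)
  have hAtT : At.map c ≤ (T : Subgroup G) := by
    rw [hAt, hA0, Subgroup.map_sup, Subgroup.map_sup, MonoidHom.map_zpowers]
    exact sup_le (sup_le hDT (((map_mono inf_le_left).trans hWc).trans hWT)) (zpowers_le.2 haT)
  refine ⟨A'.map c, At.map c, hA'T, hAtT, CfsgLib.Transfer.maxEA_map (MulAut.conj e) hA'm,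
    CfsgLib.Transfer.maxEA_map (MulAut.conj e) hAtm, ?_, c w₀, mem_map_of_mem c (mem_sup_right hw₀W), c a,
    mem_map_of_mem c (mem_sup_right (mem_zpowers a)), ?_⟩
  · rw [← map_inf_eq _ _ _ (MulAut.conj e).injective, card_map_of_injective (f := c) (MulAut.conj e).injective,
      card_map_of_injective (f := c) (MulAut.conj e).injective, hadj]
  · have h1 : ⁅w₀, a⁆ = M.pairElt i₀ j₀ := by
      have hne : a * w₀ * a⁻¹ * w₀⁻¹ ≠ 1 := fun h => haw (mul_inv_eq_iff_eq_mul.1 (mul_inv_eq_one.1 h))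
      rw [show ⁅w₀, a⁆ = (a * w₀ * a⁻¹ * w₀⁻¹)⁻¹ by rw [commutatorElement_def]; group,
        (hf w₀ hw₀W).resolve_left hne]
      exact inv_eq_of_mul_eq_one_left (bW_sq (M.pairElt_mem _ _))
    rw [← map_commutatorElement, h1]
    show _ = e * M.pairElt i₀ j₀ * e⁻¹
    rw [M.conj_pairElt heN, hee, hgi, hgj]

/-- The commutators seen from an alternating member. -/
theorem adj_alt {z : G} (hz : z ∈ adjOf (T : Subgroup G)) :
    z ∈ centralizer (E : Set G) ∨
      ∃ i j, i ≠ j ∧ swap i j ∈ M.permOf (T : Subgroup G) ∧ z = M.pairElt i j := by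
  classical
  obtain ⟨A, B, hAT, hBT, hA, hB, hcard, u, hu, v, hv, rfl⟩ := hz
  obtain ⟨ω, hωfix, -⟩ := (perm_sylow M hG hE hEs hm).2.2
  have hPp := M.permOf_pGroup T.2
  have key : ∀ {A B : Subgroup G}, A ≤ (T : Subgroup G) → B ≤ (T : Subgroup G) →
      A ∈ maxElementaryAbelianSubgroups 2 G → B ∈ maxElementaryAbelianSubgroups 2 G →
      Nat.card ↥A = 2 * Nat.card ↥(A ⊓ B) → (∃ a ∈ A, M.perm a ∉ M.permOf B) →
      ∀ u ∈ A, ∀ v ∈ B, ⁅u, v⁆ = 1 ∨
        ∃ i j, i ≠ j ∧ swap i j ∈ M.permOf (T : Subgroup G) ∧ ⁅u, v⁆ = M.pairElt i j := by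
    rintro A B hAT hBT hA hB hcard ⟨a, ha, hab⟩ u hu v hv
    have hAN := maxEA_normalizes hE hA hAT
    have hBN := maxEA_normalizes hE hB hBT
    obtain ⟨i, j, hij, hiA, hiB⟩ : ∃ i j, i ≠ j ∧ swap i j ∈ M.permOf A ∧ swap i j ∉ M.permOf B := by
      by_contra hc
      push Not at hc
      refine hab (le_of_swaps ?_ hc ⟨a, ha, hAN ha, rfl⟩)
      rintro _ ⟨b, hb, -, rfl⟩ i hi
      obtain ⟨⟨b', hb', h'⟩, -⟩ := (offender_alt M hE hm hA hAT).2 b hb i hi
      exact ⟨b', hb', hAN hb', h'⟩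
    obtain ⟨a', ha', -, ha'i⟩ := hiA
    have hsP : swap i j ∈ M.permOf (T : Subgroup G) := ⟨a', hAT ha', hAN ha', ha'i⟩
    have hω : i ≠ ω ∧ j ≠ ω := by
      have h1 := hωfix _ hsP
      constructor <;> intro e <;> rw [← e] at h1
      · rw [swap_apply_left] at h1; exact hij h1.symm
      · rw [swap_apply_right] at h1; exact hij h1
    have hfix : ∀ b ∈ B, M.perm b i = i := fun b hb => by
      by_contra hne
      obtain ⟨⟨b', hb', h'⟩, -⟩ := (offender_alt M hE hm hB hBT).2 b hb i hne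
      have h1 := swap_eq_of_overlap hPp hij (Ne.symm hne) hsP ⟨b', hBT hb', hBN hb', h'⟩
      exact hiB ⟨b', hb', hBN hb', by rw [h', ← h1]⟩
    set w := M.pairElt i ω with hw
    have hwB : w ∈ B := inf_centralizer_le_of_maxEA hB (elemAb_bW E) ⟨M.pairElt_mem _ _,
      mem_centralizer_iff.2 fun b hb => (M.commute_pairElt_iff (hBN hb) hω.1).2
        (Or.inl ⟨hfix b hb, hωfix _ ⟨b, hBT hb, hBN hb, rfl⟩⟩)⟩
    have hwA : w ∉ A := fun h => by
      rcases (M.commute_pairElt_iff (hAN ha') hω.1).1 (CfsgLib.PGroup.elemAb_comm hA.1 ha' h) with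
        ⟨h1, -⟩ | ⟨h1, -⟩ <;> rw [ha'i, swap_apply_left] at h1
      · exact hij h1.symm
      · exact hω.2 h1
    rcases adj_move hA hB hcard hwB hwA hu hv with h | ⟨-, h⟩
    · exact Or.inl h
    have hoff := ((offender_alt M hE hm hA hAT).2 a' ha' i (by rw [ha'i, swap_apply_left]; exact hij.symm)).2 u hu
    rw [ha'i, swap_apply_left] at hoff
    rw [h, commutatorElement_def, hw, M.conj_pairElt (hAN hu), hωfix _ ⟨u, hAT hu, hAN hu, rfl⟩]
    rcases hoff with e | e <;> rw [e]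
    · exact Or.inl (mul_inv_cancel _)
    · refine Or.inr ⟨i, j, hij, hsP, ?_⟩
      rw [inv_eq_of_mul_eq_one_left (bW_sq (M.pairElt_mem i ω))]
      refine M.vec_inj _ (mul_mem (M.pairElt_mem _ _) (M.pairElt_mem _ _)) _ (M.pairElt_mem _ _) ?_
      rw [M.vec_mul _ (M.pairElt_mem _ _) _ (M.pairElt_mem _ _), M.vec_pairElt, M.vec_pairElt, M.vec_pairElt,
        pairVec_comm i ω, pairVec_add_pairVec, pairVec_comm]
  have hAN := maxEA_normalizes hE hA hAT
  have hBN := maxEA_normalizes hE hB hBT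
  have fin : ∀ x : G, (x = 1 ∨ ∃ i j, i ≠ j ∧ swap i j ∈ M.permOf (T : Subgroup G) ∧ x = M.pairElt i j) →
      x ∈ centralizer (E : Set G) ∨ ∃ i j, i ≠ j ∧ swap i j ∈ M.permOf (T : Subgroup G) ∧ x = M.pairElt i j :=
    fun x h => h.imp_left fun e => by rw [e]; exact one_mem _
  by_cases hc1 : ∃ a ∈ A, M.perm a ∉ M.permOf B
  · exact fin _ (key hAT hBT hA hB hcard hc1 u hu v hv)
  by_cases hc2 : ∃ b ∈ B, M.perm b ∉ M.permOf A
  · refine fin _ ?_
    rcases key hBT hAT hB hA (adj_symm hA hB hcard) hc2 v hv u hu with h | ⟨i, j, hij, hs, h⟩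
    · exact Or.inl (by rw [← commutatorElement_inv, h, inv_one])
    · exact Or.inr ⟨i, j, hij, hs, by
        rw [← commutatorElement_inv, h]; exact inv_eq_of_mul_eq_one_left (bW_sq (M.pairElt_mem _ _))⟩
  push Not at hc1 hc2
  have h2 : ∀ a ∈ A, M.perm a * M.perm a = 1 := fun a ha => by
    rw [← M.perm_mul a (hAN ha) a (hAN ha), show a * a = 1 by rw [← pow_two]; exact hA.1.2 a ha, M.perm_one]
  obtain ⟨y, hyN, hyC, hy⟩ := adj_same (K := E) hA hB hcard hAN hBN (W := bW 2 E)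
    (fun a ha => by
      obtain ⟨b, hb, -, hab⟩ := hc1 a ha
      refine ⟨b, hb, (M.centralizes_iff (by omega) (mul_mem (hAN ha) (hBN hb))).2 ?_⟩
      rw [M.perm_mul a (hAN ha) b (hBN hb), hab, h2 a ha])
    (fun b hb => by
      obtain ⟨a, ha, -, hab⟩ := hc2 b hb
      refine ⟨a, ha, (M.centralizes_iff (by omega) (mul_mem (hAN ha) (hBN hb))).2 ?_⟩
      rw [M.perm_mul a (hAN ha) b (hBN hb), ← hab, h2 a ha])
    hu hv
  exact Or.inl (hy ▸ sq_centralizes hE hyN hyC)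

end

end CfsgLib.LocalEven.CStar
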