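import Cfsg.Agent.Lib.LocalEven.CStar.Structure

/-!
Commutators of adjacent elementary abelian subgroups of largest order give characteristic subgroups of a Sylow
2-subgroup, split by their behaviour under 2-power powers.
-/

set_option autoImplicit false

namespace CfsgLib.LocalEven.CStar

open Cfsg Subgroup
open CfsgLib.LocalEven CfsgLib.LocalEven.SubBlock
open scoped commutatorElement

variable {G : Type*} [Group G] [Finite G]

/-- The commutators from pairs of elementary abelian subgroups of largest order in `T`, of index two over their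
intersection. -/
def adjOf (T : Subgroup G) : Set G :=
  {z | ∃ A B : Subgroup G, A ≤ T ∧ B ≤ T ∧ A ∈ maxElementaryAbelianSubgroups 2 G ∧
    B ∈ maxElementaryAbelianSubgroups 2 G ∧ Nat.card ↥A = 2 * Nat.card ↥(A ⊓ B) ∧
    ∃ u ∈ A, ∃ v ∈ B, z = ⁅u, v⁆}

/-- Every `2^r`-th power of an element of `T` commutes with `z`. -/
def PowFix (T : Subgroup G) (r : ℕ) (z : G) : Prop := ∀ g ∈ T, Commute (g ^ 2 ^ r) z

omit [Finite G] in
theorem adjOf_le (T : Subgroup G) : adjOf T ⊆ T := by
  rintro z ⟨A, B, hA, hB, -, -, -, u, hu, v, hv, rfl⟩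
  rw [commutatorElement_def]
  exact mul_mem (mul_mem (mul_mem (hA hu) (hB hv)) (inv_mem (hA hu))) (inv_mem (hB hv))

omit [Finite G] in
/-- A set of such commutators cut out by a property stable under automorphisms spans a characteristic subgroup. -/
theorem closure_adj_characteristic {T : Subgroup G} {P : G → Prop}
    (hP : ∀ (φ : ↥T ≃* ↥T) (z : ↥T), P z → P (φ z)) :
    ((closure {z ∈ adjOf T | P z}).subgroupOf T).Characteristic := by
  set S := {z ∈ adjOf T | P z} with hS
  have hST : S ⊆ T := fun z hz => adjOf_le T hz.1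
  rw [characteristic_iff_map_le]
  intro φ
  rintro _ ⟨x, hx, rfl⟩
  have key : ∀ g ∈ closure S, ∀ hg : g ∈ T, ((φ ⟨g, hg⟩ : ↥T) : G) ∈ closure S := by
    intro g hg
    induction hg using closure_induction with
    | mem z hz =>
      intro hzT
      refine subset_closure ⟨?_, hP φ ⟨z, hzT⟩ hz.2⟩
      obtain ⟨A, B, hA, hB, hAm, hBm, hcard, u, hu, v, hv, rfl⟩ := hz.1
      let f := T.subtype.comp φ.toMonoidHom
      have hf : Function.Injective f := T.subtype_injective.comp φ.injective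
      have hmax : ∀ X : Subgroup G, X ≤ T → X ∈ maxElementaryAbelianSubgroups 2 G →
          (X.subgroupOf T).map f ∈ maxElementaryAbelianSubgroups 2 G := fun X hX hXm => by
        have e : Nat.card ↥((X.subgroupOf T).map f) = Nat.card ↥X := by
          rw [card_map_of_injective hf, Nat.card_congr (subgroupOfEquivOfLe hX).toEquiv]
        have h1 : IsElementaryAbelian 2 (X.subgroupOf T) := by
          refine ⟨⟨⟨fun a b => Subtype.ext (Subtype.ext (CfsgLib.PGroup.elemAb_comm hXm.1 a.2 b.2))⟩⟩,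
            fun a ha => Subtype.ext ?_⟩
          exact hXm.1.2 _ ha
        exact ⟨CfsgLib.PGroup.elemAb_map h1 f, fun Y hY => (hXm.2 Y hY).trans e.ge⟩
      have hle : ∀ X : Subgroup ↥T, X.map f ≤ T := fun X => by
        rintro _ ⟨y, -, rfl⟩; exact (φ y).2
      refine ⟨(A.subgroupOf T).map f, (B.subgroupOf T).map f, hle _, hle _, hmax A hA hAm, hmax B hB hBm, ?_,
        f ⟨u, hA hu⟩, mem_map_of_mem f hu, f ⟨v, hB hv⟩, mem_map_of_mem f hv, ?_⟩
      · rw [← map_inf_eq _ _ _ hf, card_map_of_injective hf, card_map_of_injective hf,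
          Nat.card_congr (subgroupOfEquivOfLe hA).toEquiv, show A.subgroupOf T ⊓ B.subgroupOf T =
            (A ⊓ B).subgroupOf T from (comap_inf A B T.subtype).symm,
          Nat.card_congr (subgroupOfEquivOfLe (inf_le_left.trans hA)).toEquiv, hcard]
      · rw [← map_commutatorElement]
        exact congrArg f (Subtype.ext rfl)
    | one => intro h; rw [show (⟨1, h⟩ : ↥T) = 1 from rfl, map_one]; exact one_mem _
    | mul a b ha hb iha ihb =>
      intro h
      have haT : a ∈ T := (closure_le _).2 hST ha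
      have hbT : b ∈ T := (closure_le _).2 hST hb
      rw [show (⟨a * b, h⟩ : ↥T) = ⟨a, haT⟩ * ⟨b, hbT⟩ from rfl, map_mul, Subgroup.coe_mul]
      exact mul_mem (iha haT) (ihb hbT)
    | inv a ha iha =>
      intro h
      have haT : a ∈ T := (closure_le _).2 hST ha
      rw [show (⟨a⁻¹, h⟩ : ↥T) = ⟨a, haT⟩⁻¹ from rfl, map_inv, InvMemClass.coe_inv]
      exact inv_mem (iha haT)
  exact mem_subgroupOf.2 (key x hx x.2)

omit [Finite G] in
theorem powFix_map {T : Subgroup G} (r : ℕ) (φ : ↥T ≃* ↥T) (z : ↥T) (h : PowFix T r (z : G)) :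
    PowFix T r ((φ z : ↥T) : G) := by
  intro g hg
  have h1 : Commute ((φ.symm ⟨g, hg⟩) ^ 2 ^ r) z := Subtype.ext (by
    simpa using (h _ (φ.symm ⟨g, hg⟩).2).eq)
  have h2 := congrArg Subtype.val (h1.map φ).eq
  show _ = _
  simpa using h2

omit [Finite G] in
theorem adjPos_characteristic (T : Subgroup G) (r : ℕ) :
    ((closure {z ∈ adjOf T | PowFix T r z}).subgroupOf T).Characteristic :=
  closure_adj_characteristic fun φ z => powFix_map r φ z

omit [Finite G] in
theorem adjNeg_characteristic (T : Subgroup G) (r : ℕ) :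
    ((closure {z ∈ adjOf T | ¬ PowFix T r z}).subgroupOf T).Characteristic :=
  closure_adj_characteristic fun φ z hz h => hz (by simpa using powFix_map r φ.symm (φ z) h)

omit [Finite G] in
theorem normalizer_le_charJoin {T C : Subgroup G} (hle : C ≤ T) (hne : C ≠ ⊥)
    (hch : (C.subgroupOf T).Characteristic) : normalizer (C : Set G) ≤ charNormalizersJoin T :=
  le_iSup (fun D : {D : Subgroup G // D ≤ T ∧ D ≠ ⊥ ∧ (D.subgroupOf T).Characteristic} =>
    normalizer ((D : Subgroup G) : Set G)) ⟨C, hle, hne, hch⟩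

omit [Finite G] in
theorem centralizer_le_charJoin {T C : Subgroup G} (hle : C ≤ T) (hne : C ≠ ⊥)
    (hch : (C.subgroupOf T).Characteristic) : centralizer (C : Set G) ≤ charNormalizersJoin T :=
  (centralizer_le_normalizer _).trans (normalizer_le_charJoin hle hne hch)

omit [Finite G] in
theorem char_of_isGroupInvariant {T C : Subgroup G} (hC : C ≤ T)
    (h : ∀ φ : ↥T ≃* ↥T, ∀ x : ↥T, (x : G) ∈ C → ((φ x : ↥T) : G) ∈ C) : (C.subgroupOf T).Characteristic := by
  rw [characteristic_iff_map_le]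
  rintro φ _ ⟨x, hx, rfl⟩
  exact h φ x hx

/-- `C*(G,T) ≤ C(G,T)`. -/
theorem cStar_le_charJoin {p : ℕ} [Fact p.Prime] (T : Sylow p G)
    (hB : baumannSubgroupOf p (T : Subgroup G) ≠ ⊥) :
    cStarOf p (T : Subgroup G) ≤ charNormalizersJoin (T : Subgroup G) := by
  set B := baumannSubgroupOf p (T : Subgroup G) with hBdef
  have hfun : ∀ φ : ↥(T : Subgroup G) ≃* ↥(T : Subgroup G),
      Function.Injective ((T : Subgroup G).subtype.comp φ.toMonoidHom) ∧
      (⊤ : Subgroup ↥(T : Subgroup G)).map ((T : Subgroup G).subtype.comp φ.toMonoidHom) = (T : Subgroup G) := by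
    intro φ
    refine ⟨(T : Subgroup G).subtype_injective.comp φ.injective, ?_⟩
    rw [← map_map, map_top_of_surjective φ.toMonoidHom φ.surjective, ← MonoidHom.range_eq_map, range_subtype]
  have hid : (⊤ : Subgroup ↥(T : Subgroup G)).map (T : Subgroup G).subtype = (T : Subgroup G) := by
    rw [← MonoidHom.range_eq_map, range_subtype]
  refine sup_le ?_ (iSup_le fun C => ?_)
  · by_cases hZ : omegaOneCenter p (T : Subgroup G) = ⊥
    · have hT : (T : Subgroup G) = ⊥ := by
        by_contra hne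
        haveI : Nontrivial ↥(T : Subgroup G) := (Subgroup.nontrivial_iff_ne_bot _).2 hne
        haveI := T.2.center_nontrivial
        have hd : p ∣ Nat.card ↥(center ↥(T : Subgroup G)) := by
          obtain ⟨k, hk⟩ := IsPGroup.iff_card.1 (T.2.to_subgroup (center ↥(T : Subgroup G)))
          rw [hk]
          refine dvd_pow_self p fun h0 => ?_
          rw [h0, pow_zero] at hk
          exact Finite.one_lt_card.ne' hk
        obtain ⟨z, hz⟩ := exists_prime_orderOf_dvd_card' p hd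
        have hzp : ((z : ↥(T : Subgroup G)) : G) ^ p = 1 := by
          rw [← SubgroupClass.coe_pow, ← SubgroupClass.coe_pow, orderOf_dvd_iff_pow_eq_one.1 (dvd_of_eq hz)]
          rfl
        have h1 : ((z : ↥(T : Subgroup G)) : G) ∈ omegaOneCenter p (T : Subgroup G) :=
          Oz.mem_iff.2 ⟨(z : ↥(T : Subgroup G)).2,
            fun s hs => congrArg Subtype.val (mem_center_iff.1 z.2 ⟨s, hs⟩), hzp⟩
        rw [hZ, mem_bot] at h1
        have h2 : z = 1 := Subtype.ext (Subtype.ext h1)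
        rw [h2, orderOf_one] at hz
        exact (Fact.out : p.Prime).one_lt.ne hz
      exact absurd (le_bot_iff.1 (hBdef ▸ ((Baumann.baumann_le _).trans hT.le))) hB
    refine centralizer_le_charJoin (Oz.le_self _) hZ (char_of_isGroupInvariant (Oz.le_self _) fun φ x hx => ?_)
    have h1 : x ∈ omegaOneCenter p (⊤ : Subgroup ↥(T : Subgroup G)) := by
      rw [show omegaOneCenter p (T : Subgroup G) = (omegaOneCenter p (⊤ : Subgroup ↥(T : Subgroup G))).map
        (T : Subgroup G).subtype from ((PushMin.lift_omegaOneCenter (T : Subgroup G).subtype_injective _).trans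
          (congrArg (omegaOneCenter p) hid)).symm] at hx
      exact (mem_map_iff_mem (T : Subgroup G).subtype_injective).1 hx
    obtain ⟨hf, hm⟩ := hfun φ
    exact ((PushMin.lift_omegaOneCenter hf _).trans (congrArg (omegaOneCenter p) hm)).le (mem_map_of_mem _ h1)
  · obtain ⟨C, hC, hne, hch⟩ := C
    refine normalizer_le_charJoin (hC.trans (Baumann.baumann_le _)) hne
      (char_of_isGroupInvariant (hC.trans (Baumann.baumann_le _)) fun φ x hx => ?_)
    obtain ⟨hf, hm⟩ := hfun φ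
    have hBid : (baumannSubgroupOf p (⊤ : Subgroup ↥(T : Subgroup G))).map (T : Subgroup G).subtype = B := by
      rw [lift_baumann (T : Subgroup G).subtype_injective, hid]
    have hBφ : (baumannSubgroupOf p (⊤ : Subgroup ↥(T : Subgroup G))).map
        ((T : Subgroup G).subtype.comp φ.toMonoidHom) = B := by rw [lift_baumann hf, hm]
    have hxB : x ∈ baumannSubgroupOf p (⊤ : Subgroup ↥(T : Subgroup G)) :=
      (mem_map_iff_mem (T : Subgroup G).subtype_injective).1 (hBid.ge (hC hx))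
    have hmemB : ∀ y : ↥(T : Subgroup G), (y : G) ∈ B → ((φ y : ↥(T : Subgroup G)) : G) ∈ B := fun y hy =>
      hBφ.le ⟨y, (mem_map_iff_mem (T : Subgroup G).subtype_injective).1 (hBid.ge hy), rfl⟩
    let ψ : ↥B →* ↥B :=
      { toFun := fun y => ⟨((φ ⟨y, Baumann.baumann_le _ y.2⟩ : ↥(T : Subgroup G)) : G), hmemB _ y.2⟩
        map_one' := Subtype.ext (by simp [show (⟨((1 : ↥B) : G), Baumann.baumann_le _ (1 : ↥B).2⟩ : ↥(T : Subgroup G)) = 1 from rfl])
        map_mul' := fun a b => Subtype.ext (by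
          show ((φ ⟨(a : G) * b, _⟩ : ↥(T : Subgroup G)) : G) = _ * _
          rw [show (⟨(a : G) * b, _⟩ : ↥(T : Subgroup G)) = ⟨a, Baumann.baumann_le _ a.2⟩ * ⟨b, Baumann.baumann_le _ b.2⟩ from rfl,
            map_mul, Subgroup.coe_mul]) }
    have hψ : Function.Injective ψ := fun a b h => by
      have h1 : φ ⟨a, Baumann.baumann_le _ a.2⟩ = φ ⟨b, Baumann.baumann_le _ b.2⟩ :=
        Subtype.ext (show ((ψ a : ↥B) : G) = (ψ b : ↥B) by rw [h])
      exact Subtype.ext (congrArg Subtype.val (φ.injective h1) :)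
    exact ((characteristic_iff_map_le.1 hch) (MulEquiv.ofBijective ψ ⟨hψ, Finite.surjective_of_injective hψ⟩)
      (mem_map_of_mem _ (show (⟨x, hC hx⟩ : ↥B) ∈ C.subgroupOf B from hx)) :)

variable {T : Sylow 2 G} {E : Subgroup G}

/-- For `p = 2` the core of a block is `[W,E] = W`. -/
theorem core_two (hE : IsBaumannBlock 2 (T : Subgroup G) E) :
    pCoreOf 2 E = bW 2 E ∧ bWE 2 E = bW 2 E := by
  obtain ⟨-, -, h3, -, hcases⟩ := id hE
  have hQ : pCoreOf 2 E = bW 2 E := by
    rcases hcases with ⟨K, _, _, n, -, -, -, h | ⟨h, -⟩⟩ | ⟨-, m, -, -, h⟩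
    · exact h
    · omega
    · exact h
  rw [hQ] at h3
  exact ⟨hQ, h3⟩

theorem elemAb_bW (E : Subgroup G) : IsElementaryAbelian 2 (bW 2 E) := Oz.elemAb (p := 2) (pCoreOf 2 E)

/-- An element centralising `W` has square centralising the block. -/
theorem sq_centralizes (hE : IsBaumannBlock 2 (T : Subgroup G) E) {y : G} (hy : y ∈ normalizer (E : Set G))
    (hc : y ∈ centralizer (bW 2 E : Set G)) : y * y ∈ centralizer (E : Set G) := by
  obtain ⟨hQ, hWE⟩ := core_two hE
  refine mem_centralizer_iff.2 fun x hx => ?_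
  have h1 : ⁅y, x⁆ ∈ bW 2 E := hQ ▸ commutator_mem_of_centralizes hE hy (hWE.symm ▸ hc) hx
  have h2 : ⁅y * y, x⁆ = 1 := by
    rw [show ⁅y * y, x⁆ = y * ⁅y, x⁆ * y⁻¹ * ⁅y, x⁆ by simp only [commutatorElement_def]; group,
      ← mem_centralizer_iff.1 hc _ h1, mul_inv_cancel_right]
    have := (Oz.mem_iff.1 h1).2.2
    rwa [pow_two] at this
  exact (commutatorElement_eq_one_iff_mul_comm.1 h2).symm

variable {A B : Subgroup G}

theorem inf_centralizer_le_of_maxEA (hB : B ∈ maxElementaryAbelianSubgroups 2 G) {W : Subgroup G}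
    (hW : IsElementaryAbelian 2 W) : W ⊓ centralizer (B : Set G) ≤ B := by
  intro w hw
  have h := BlockBaumann.elemAb_sup hB.1 (CfsgLib.PGroup.elemAb_mono hW (inf_le_left : W ⊓ centralizer (B : Set G) ≤ W))
    fun b hb c hc => mem_centralizer_iff.1 hc.2 b hb
  rw [eq_of_le_of_card_ge (le_sup_left : B ≤ B ⊔ (W ⊓ centralizer (B : Set G))) (hB.2 _ h)]
  exact mem_sup_right hw

section
variable (hA : A ∈ maxElementaryAbelianSubgroups 2 G) (hB : B ∈ maxElementaryAbelianSubgroups 2 G)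
  (hcard : Nat.card ↥A = 2 * Nat.card ↥(A ⊓ B))
include hA hB hcard

theorem adj_symm : Nat.card ↥B = 2 * Nat.card ↥(B ⊓ A) := by
  rw [inf_comm, le_antisymm (hA.2 B hB.1) (hB.2 A hA.1), hcard]

omit hA hB in
theorem adj_decomp {u : G} (hu : u ∈ A) (huB : u ∉ B) {a : G} (ha : a ∈ A) : a ∈ B ∨ u⁻¹ * a ∈ A ⊓ B := by
  have hidx : (B.subgroupOf A).index = 2 := by
    have h1 := (B.subgroupOf A).card_mul_index
    rw [← inf_subgroupOf_left, Nat.card_congr (subgroupOfEquivOfLe inf_le_left).toEquiv, hcard, mul_comm 2] at h1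
    rw [← inf_subgroupOf_left]
    exact Nat.eq_of_mul_eq_mul_left Nat.card_pos h1
  by_cases haB : a ∈ B
  · exact Or.inl haB
  refine Or.inr (Subgroup.mem_inf.2 ⟨mul_mem (inv_mem hu) ha, ?_⟩)
  have := (mul_mem_iff_of_index_two hidx (a := (⟨u, hu⟩ : ↥A)⁻¹) (b := ⟨a, ha⟩)).2
    (iff_of_false (fun h => huB (by simpa [mem_subgroupOf] using h)) haB)
  simpa [mem_subgroupOf] using this

omit hB hcard in
theorem commutator_eq_one_of_mem {u v : G} (hu : u ∈ A) (hv : v ∈ A) : ⁅u, v⁆ = 1 :=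
  commutatorElement_eq_one_iff_mul_comm.2 (CfsgLib.PGroup.elemAb_comm hA.1 hu hv)

/-- The commutator through a chosen element of `B ∖ A`. -/
theorem adj_move {w : G} (hw : w ∈ B) (hwA : w ∉ A) {u v : G} (hu : u ∈ A) (hv : v ∈ B) :
    ⁅u, v⁆ = 1 ∨ (u ∉ B ∧ ⁅u, v⁆ = ⁅u, w⁆) := by
  by_cases huB : u ∈ B
  · exact Or.inl (commutator_eq_one_of_mem hB huB hv)
  rcases adj_decomp (adj_symm hA hB hcard) hw hwA hv with h | h
  · exact Or.inl (commutator_eq_one_of_mem hA hu h)
  refine Or.inr ⟨huB, ?_⟩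
  rw [show v = w * (w⁻¹ * v) by group, show ⁅u, w * (w⁻¹ * v)⁆ = ⁅u, w⁆ * (w * ⁅u, w⁻¹ * v⁆ * w⁻¹) by
    simp only [commutatorElement_def]; group, commutator_eq_one_of_mem hA hu h.2, mul_one, mul_inv_cancel, mul_one]

/-- The commutator when both induce the same on `W`. -/
theorem adj_same {W K : Subgroup G} (hAK : A ≤ normalizer (K : Set G)) (hBK : B ≤ normalizer (K : Set G))
    (hAB : ∀ a ∈ A, ∃ b ∈ B, a * b ∈ centralizer (W : Set G))
    (hBA : ∀ b ∈ B, ∃ a ∈ A, a * b ∈ centralizer (W : Set G)) {u v : G} (hu : u ∈ A) (hv : v ∈ B) :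
    ∃ y, y ∈ normalizer (K : Set G) ∧ y ∈ centralizer (W : Set G) ∧ ⁅u, v⁆ = y * y := by
  have hinvA : ∀ a ∈ A, a⁻¹ = a := fun a ha => inv_eq_of_mul_eq_one_left (by rw [← pow_two]; exact hA.1.2 a ha)
  have hinvB : ∀ a ∈ B, a⁻¹ = a := fun a ha => inv_eq_of_mul_eq_one_left (by rw [← pow_two]; exact hB.1.2 a ha)
  have hone : ∀ {x : G}, x = 1 → ∃ y, y ∈ normalizer (K : Set G) ∧ y ∈ centralizer (W : Set G) ∧ x = y * y :=
    fun h => ⟨1, one_mem _, one_mem _, by rw [h, one_mul]⟩
  by_cases huB : u ∈ B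
  · exact hone (commutator_eq_one_of_mem hB huB hv)
  by_cases hvA : v ∈ A
  · exact hone (commutator_eq_one_of_mem hA hu hvA)
  have hc1 : ∀ d ∈ A ⊓ B, ⁅u * d, v⁆ = ⁅u, v⁆ := fun d hd => by
    rw [show ⁅u * d, v⁆ = u * ⁅d, v⁆ * u⁻¹ * ⁅u, v⁆ by simp only [commutatorElement_def]; group,
      commutator_eq_one_of_mem hB hd.2 hv, mul_one, mul_inv_cancel, one_mul]
  have hc2 : ∀ a ∈ A, ∀ d ∈ A ⊓ B, ⁅a, v * d⁆ = ⁅a, v⁆ := fun a ha d hd => by
    rw [show ⁅a, v * d⁆ = ⁅a, v⁆ * (v * ⁅a, d⁆ * v⁻¹) by simp only [commutatorElement_def]; group,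
      commutator_eq_one_of_mem hA ha hd.1, mul_one, mul_inv_cancel, mul_one]
  have hfin : ∀ a ∈ A, ∀ b ∈ B, a * b ∈ centralizer (W : Set G) → ⁅a, b⁆ = ⁅u, v⁆ →
      ∃ y, y ∈ normalizer (K : Set G) ∧ y ∈ centralizer (W : Set G) ∧ ⁅u, v⁆ = y * y := fun a ha b hb hab he =>
    ⟨a * b, mul_mem (hAK ha) (hBK hb), hab, by
      rw [← he, commutatorElement_def, hinvA a ha, hinvB b hb]; group⟩
  obtain ⟨b, hb, hub⟩ := hAB u hu
  rcases adj_decomp (adj_symm hA hB hcard) hv hvA hb with hbA | hbv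
  · obtain ⟨a, ha, hav⟩ := hBA v hv
    rcases adj_decomp hcard hu huB ha with haB | hau
    · refine hfin (u * b) (mul_mem hu hbA) (v * a) (mul_mem hv haB) ?_
        ((hc2 _ (mul_mem hu hbA) a ⟨ha, haB⟩).trans (hc1 b ⟨hbA, hb⟩))
      have hcomm : v * a = a * v := CfsgLib.PGroup.elemAb_comm hB.1 hv haB
      rw [hcomm]
      exact mul_mem hub hav
    · exact hfin a ha v hv hav (by rw [← mul_inv_cancel_left u a]; exact hc1 _ hau)
  · exact hfin u hu b hb hub (by rw [← mul_inv_cancel_left v b]; exact hc2 u hu _ ⟨hbv.2, hbv.1⟩)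

end

end CfsgLib.LocalEven.CStar
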