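import Cfsg.Agent.Lib.LocalEven.CStar.Basic
import Cfsg.Agent.Lib.LocalEven.SubBlock.Main

/-!
The induction for the subnormality of maximal blocks outside `C*(G,T)`.
-/

set_option autoImplicit false

namespace CfsgLib.LocalEven.CStar

open Cfsg Subgroup
open CfsgLib.LocalEven
open scoped commutatorElement

/-- Every block outside `C*(G,T)` in `H` lies in one in `H` that is subnormal in `H`. -/
def CoveredIn {G : Type*} [Group G] (p : ℕ) (T H : Subgroup G) : Prop :=
  ∀ E : Subgroup G, IsBaumannBlock p T E → ¬ E ≤ cStarOf p T → E ≤ H →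
    ∃ F : Subgroup G, IsBaumannBlock p T F ∧ E ≤ F ∧ F ≤ H ∧ (F.subgroupOf H).IsSubnormal

/-- A block outside `C*(G,T)` contained in no larger one. -/
def IsMaxBlock {G : Type*} [Group G] (p : ℕ) (T E : Subgroup G) : Prop :=
  IsBaumannBlock p T E ∧ ¬ E ≤ cStarOf p T ∧ ∀ F : Subgroup G, IsBaumannBlock p T F → E ≤ F → F = E

/-- What the induction gives in a proper subgroup above `O_p(G)B(T)`. -/
def Below {G : Type*} [Group G] (p : ℕ) (T : Subgroup G) : Prop :=
  ∀ H : Subgroup G, H ≠ ⊤ → pCore p G ≤ H → baumannSubgroupOf p T ≤ H → CoveredIn p T H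

variable {G : Type*} [Group G] [Finite G] {p : ℕ} [Fact p.Prime] {T : Sylow p G}

theorem exists_maxBlock_ge {E : Subgroup G} (hE : IsBaumannBlock p (T : Subgroup G) E)
    (hout : ¬ E ≤ cStarOf p (T : Subgroup G)) : ∃ F, IsMaxBlock p (T : Subgroup G) F ∧ E ≤ F := by
  obtain ⟨F, ⟨hF, hEF⟩, hmax⟩ := Set.exists_max_image
    {F : Subgroup G | IsBaumannBlock p (T : Subgroup G) F ∧ E ≤ F} (fun F => Nat.card ↥F) (Set.toFinite _)
    ⟨E, hE, le_rfl⟩
  exact ⟨F, ⟨hF, fun h => hout (hEF.trans h), fun F' hF' hle =>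
    (eq_of_le_of_card_ge hle (hmax F' ⟨hF', hEF.trans hle⟩)).symm⟩, hEF⟩

theorem IsMaxBlock.subnormal_in {E H : Subgroup G} (hE : IsMaxBlock p (T : Subgroup G) E)
    (hH : CoveredIn p (T : Subgroup G) H) (hle : E ≤ H) : (E.subgroupOf H).IsSubnormal := by
  obtain ⟨F, hF, hEF, -, hs⟩ := hH E hE.1 hE.2.1 hle
  rwa [hE.2.2 F hF hEF] at hs

/-- `C*` only depends on the Sylow subgroup through `B(T)`. -/
theorem cStar_eq_of_le {T' : Sylow p G} (hB : baumannSubgroupOf p (T : Subgroup G) ≠ ⊥)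
    (h : baumannSubgroupOf p (T : Subgroup G) ≤ (T' : Subgroup G)) :
    cStarOf p (T' : Subgroup G) = cStarOf p (T : Subgroup G) := by
  set B := baumannSubgroupOf p (T : Subgroup G) with hBdef
  have hB' := Baumann.baumann_eq_of_le h
  have hT : (T : Subgroup G) ≤ normalizer (B : Set G) := Baumann.baumann_normalized T
  have hT' : (T' : Subgroup G) ≤ normalizer (B : Set G) := by
    have h1 := Baumann.baumann_normalized T'
    rwa [hB', ← hBdef] at h1
  obtain ⟨g, hg⟩ := MulAction.exists_smul_eq ↥(normalizer (B : Set G)) (T.subtype hT) (T'.subtype hT')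
  have hgC : (g : G) ∈ cStarOf p (T : Subgroup G) := normalizer_baumann_le_cStar hB g.2
  have hconj : (T : Subgroup G).map (MulAut.conj (g : G)).toMonoidHom = (T' : Subgroup G) := by
    have h1 := congrArg (fun S : Sylow p ↥(normalizer (B : Set G)) =>
      (S : Subgroup ↥(normalizer (B : Set G))).map (normalizer (B : Set G)).subtype) hg
    simp only [Sylow.coe_subgroup_smul, CfsgLib.Solvable.conj_smul_eq_map, Sylow.coe_subtype] at h1
    rw [map_subgroupOf_eq_of_le hT', map_map] at h1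
    rw [← h1]
    conv_lhs => rw [← map_subgroupOf_eq_of_le hT, map_map]
    congr 1
  have hsame : (cStarOf p (T : Subgroup G)).map (MulAut.conj (g : G)).toMonoidHom = cStarOf p (T : Subgroup G) :=
    mem_normalizer_iff_map_conj_eq.1 (le_normalizer hgC)
  refine le_antisymm ?_ ?_
  · have h2 := lift_cStar (p := p) (f := (MulAut.conj (g : G)⁻¹).toMonoidHom) (MulAut.conj (g : G)⁻¹).injective
      (T' : Subgroup G)
    have e : (T' : Subgroup G).map (MulAut.conj (g : G)⁻¹).toMonoidHom = (T : Subgroup G) := by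
      rw [← hconj, map_map]
      conv_rhs => rw [← map_id (T : Subgroup G)]
      congr 1
      ext x
      simp [mul_assoc]
    rw [e] at h2
    intro x hx
    have h3 : (g : G)⁻¹ * x * g ∈ cStarOf p (T : Subgroup G) := h2 ⟨x, hx, by simp⟩
    simpa [mul_assoc] using mul_mem (mul_mem hgC h3) (inv_mem hgC)
  · have h2 := lift_cStar (p := p) (f := (MulAut.conj (g : G)).toMonoidHom) (MulAut.conj (g : G)).injective
      (T : Subgroup G)
    rwa [hconj, hsame] at h2

/-- A block outside `C*` is a block for every Sylow subgroup above `B(T)`. -/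
theorem block_of_le {T' : Sylow p G} {E : Subgroup G} (hE : IsBaumannBlock p (T : Subgroup G) E)
    (hout : ¬ E ≤ cStarOf p (T : Subgroup G))
    (h : baumannSubgroupOf p (T : Subgroup G) ≤ (T' : Subgroup G)) :
    IsBaumannBlock p (T' : Subgroup G) E := by
  have hB' := Baumann.baumann_eq_of_le h
  obtain ⟨h1, h2, h3, -, h5⟩ := id hE
  refine ⟨h1, by rw [hB']; exact h2, h3, fun h0 => hout ?_, by rw [hB']; exact h5⟩
  rw [← cStar_eq_of_le (baumann_ne_bot hE) h]
  exact (commutator_eq_bot_iff_le_centralizer.1 h0).trans (centralizer_le_cStar _)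

/-- The covering in a proper subgroup, from that of the subgroup as a group. -/
theorem coveredIn_of_group {H : Subgroup G} (hBH : baumannSubgroupOf p (T : Subgroup G) ≤ H)
    (h : ∀ T₀ : Sylow p ↥H, ∀ E : Subgroup ↥H, IsBaumannBlock p (T₀ : Subgroup ↥H) E →
      ¬ E ≤ cStarOf p (T₀ : Subgroup ↥H) →
      ∃ F : Subgroup ↥H, IsBaumannBlock p (T₀ : Subgroup ↥H) F ∧ F.IsSubnormal ∧ E ≤ F) :
    CoveredIn p (T : Subgroup G) H := by
  intro E hE hout hEH
  set B := baumannSubgroupOf p (T : Subgroup G) with hBdef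
  obtain ⟨T₀, hT₀⟩ := ((T.2.to_le (Baumann.baumann_le _)).of_equiv
    (subgroupOfEquivOfLe hBH).symm).exists_le_sylow
  obtain ⟨T', hT'⟩ := (T₀.2.map H.subtype).exists_le_sylow
  have hBT₀ : B ≤ (T₀ : Subgroup ↥H).map H.subtype := fun b hb => ⟨⟨b, hBH hb⟩, hT₀ hb, rfl⟩
  have hBT' : B ≤ (T' : Subgroup G) := hBT₀.trans hT'
  have hJ : thompsonSubgroupOf p ((T₀ : Subgroup ↥H).map H.subtype) = thompsonSubgroupOf p (T : Subgroup G) :=
    Baumann.thompson_eq_of_pGroup (T₀.2.map H.subtype) ((Baumann.thompson_le_baumann _).trans hBT₀)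
  have hT'J : thompsonSubgroupOf p (T' : Subgroup G) = thompsonSubgroupOf p (T : Subgroup G) :=
    Baumann.thompson_eq_of_le ((Baumann.thompson_le_baumann _).trans hBT')
  have hBeq : baumannSubgroupOf p ((T₀ : Subgroup ↥H).map H.subtype) = B := by
    refine le_antisymm ?_ (le_inf hBT₀ ?_)
    · rw [hBdef, ← Baumann.baumann_eq_of_le hBT', baumannSubgroupOf, baumannSubgroupOf, centerThompsonOf,
        centerThompsonOf, hJ, hT'J]
      exact inf_le_inf_right _ hT'
    · rw [centerThompsonOf, hJ, hBdef]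
      exact inf_le_right
  have hZle : omegaOneCenter p (T' : Subgroup G) ≤ omegaOneCenter p ((T₀ : Subgroup ↥H).map H.subtype) := by
    intro z hz
    have hzB : z ∈ B := by
      have hzZ := Block.le_of_omegaCentre (T := T') hz
      rw [hBdef, ← Baumann.baumann_eq_of_le hBT']
      exact ⟨Oz.le_self _ hz, mem_centralizer_iff.2 fun w hw =>
        ((Oz.mem_iff.1 hz).2.1 w (CfsgLib.Transfer.thompsonSubgroupOf_le p _ (Oz.le_self _ hw)))⟩
    obtain ⟨-, hc, hp⟩ := Oz.mem_iff.1 hz
    exact Oz.mem_iff.2 ⟨hBT₀ hzB, fun s hs => hc s (hT' hs), hp⟩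
  have hE' := block_of_le hE hout hBT'
  have hcs : (cStarOf p (T₀ : Subgroup ↥H)).map H.subtype ≤ cStarOf p (T : Subgroup G) := by
    rw [← cStar_eq_of_le (baumann_ne_bot hE) hBT']
    refine (lift_cStar H.subtype_injective _).trans (sup_le_sup (centralizer_le hZle) (le_of_eq ?_))
    rw [hBeq, Baumann.baumann_eq_of_le hBT']
  have hEmap : (E.subgroupOf H).map H.subtype = E := map_subgroupOf_eq_of_le hEH
  obtain ⟨F, hF, hFs, hEF⟩ := h T₀ (E.subgroupOf H)
    (descend_block H.subtype_injective (T := (T' : Subgroup G)) (by rw [hBeq, Baumann.baumann_eq_of_le hBT'])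
      (by rw [hEmap]; exact fun h0 => hE'.2.2.2.1 (le_bot_iff.1 ((commutator_mono le_rfl hZle).trans h0.le)))
      (by rw [hEmap]; exact hE'))
    (fun hle => hout (by rw [← hEmap]; exact (map_mono hle).trans hcs))
  have hEFm : E ≤ F.map H.subtype := hEmap.symm.le.trans (map_mono hEF)
  have hFG := lift_block (f := H.subtype) H.subtype_injective hF
  obtain ⟨h1, h2, h3, h4, h5⟩ := hFG
  refine ⟨F.map H.subtype, ⟨h1, by rw [← hBdef, ← hBeq]; exact h2, h3, fun h0 => hE.2.2.2.1 ?_,
    by rw [← hBdef, ← hBeq]; exact h5⟩, hEFm, map_subtype_le F, ?_⟩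
  · exact le_bot_iff.1 ((commutator_mono hEFm le_rfl).trans h0.le)
  · rwa [show (F.map H.subtype).subgroupOf H = F from comap_map_eq_self_of_injective H.subtype_injective F]

end CfsgLib.LocalEven.CStar
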