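import Cfsg.Agent.Lib.LocalEven.PushMin.Lift

/-!
Blocks of a subgroup, seen in the whole group.
-/

set_option autoImplicit false

namespace CfsgLib.LocalEven.CStar

open Cfsg Subgroup
open CfsgLib.LocalEven
open CfsgLib.LocalEven.PushMin (lift_omegaOneCenter lift_inf_centralizer lift_pCoreOf lift_pResidualOf
  lift_quot lift_actsSL2 lift_frattiniOf)
open scoped commutatorElement

variable {G H : Type*} [Group G] [Group H] {p : ℕ} {f : H →* G} (hf : Function.Injective f)
include hf

theorem lift_baumann (T : Subgroup H) :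
    (baumannSubgroupOf p T).map f = baumannSubgroupOf p (T.map f) := by
  rw [baumannSubgroupOf, baumannSubgroupOf, centerThompsonOf, centerThompsonOf, lift_inf_centralizer hf,
    CfsgLib.PStab.omegaOne_map hf, lift_inf_centralizer hf, CfsgLib.Transfer.thompsonSubgroupOf_map _ hf.injOn]

theorem lift_actsPerm {n : ℕ} {R : Subgroup (Equiv.Perm (Fin n))} {E U U₀ : Subgroup H}
    (h : ActsAsOddPermModuleOnSection n R E U U₀) :
    ActsAsOddPermModuleOnSection n R (E.map f) (U.map f) (U₀.map f) := by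
  obtain ⟨hEU, hU0, ρ, ψ, hρ, h1, h2, hker, heq⟩ := h
  let eE := E.equivMapOfInjective f hf
  let eU := U.equivMapOfInjective f hf
  refine ⟨(map_mono hEU).trans (le_normalizer_map _), map_mono hU0,
    ρ.comp eE.symm.toMonoidHom, ψ.comp eU.symm.toMonoidHom, ?_, fun u => h1 _, fun v hv => ?_, fun u => ?_,
    fun e u => ?_⟩
  · rw [MonoidHom.range_comp, MonoidHom.range_eq_top.2 eE.symm.surjective, ← MonoidHom.range_eq_map, hρ]
  · obtain ⟨u, hu⟩ := h2 v hv
    refine ⟨eU u, ?_⟩
    show Multiplicative.toAdd (ψ (eU.symm (eU u))) = v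
    rw [MulEquiv.symm_apply_apply, hu]
  · obtain ⟨v, rfl⟩ := eU.surjective u
    show ψ (eU.symm (eU v)) = 1 ↔ _
    rw [MulEquiv.symm_apply_apply, hker]
    exact (mem_map_iff_mem hf).symm
  · obtain ⟨a, rfl⟩ := eE.surjective e
    obtain ⟨v, rfl⟩ := eU.surjective u
    obtain ⟨w, hw, hw'⟩ := heq a v
    refine ⟨eU w, ?_, ?_⟩
    · show f (w : H) = f a * f v * (f a)⁻¹
      rw [hw, map_mul, map_mul, map_inv]
    · show ∀ i, Multiplicative.toAdd (ψ (eU.symm (eU w))) i =
        Multiplicative.toAdd (ψ (eU.symm (eU v))) ((ρ (eE.symm (eE a)))⁻¹ i)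
      rw [MulEquiv.symm_apply_apply, MulEquiv.symm_apply_apply, MulEquiv.symm_apply_apply]
      exact hw'

/-- A block of `H` is a block of `G`. -/
theorem lift_block [Finite G] [Finite H] [Fact p.Prime] {T E : Subgroup H} (hE : IsBaumannBlock p T E) :
    IsBaumannBlock p (T.map f) (E.map f) := by
  haveI := CfsgLib.Cores.pCore_characteristic (G := ↥E) p
  haveI := CfsgLib.Cores.pCore_characteristic (G := ↥(E.map f)) p
  obtain ⟨h1, h2, h3, h4, h5⟩ := hE
  refine ⟨by rw [← lift_pResidualOf hf, h1], by rw [← lift_baumann hf, ← map_commutator, h2],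
    by rw [← lift_pCoreOf hf, ← map_commutator, h3], fun h => h4 ?_, ?_⟩
  · rw [← lift_omegaOneCenter hf, ← map_commutator, Subgroup.map_eq_bot_iff_of_injective _ hf] at h
    exact h
  rcases h5 with ⟨F, iF, iFt, n, hn, hiso, hsec, hQW⟩ | ⟨hp, m, hiso, hsec, hQW⟩
  · refine Or.inl ⟨F, iF, iFt, n, hn, lift_quot hf E hiso, ?_, ?_⟩
    · rw [← lift_pCoreOf hf, ← lift_omegaOneCenter hf, ← lift_inf_centralizer hf]
      exact lift_actsSL2 hf hsec
    rcases hQW with h | ⟨hp, hs, hd, hfr, hc, hcard, hq⟩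
    · exact Or.inl (by rw [← lift_pCoreOf hf, ← lift_omegaOneCenter hf, ← h])
    refine Or.inr ⟨hp, ?_, ?_, ?_, ?_, ?_, ?_⟩
    · rw [← lift_pCoreOf hf, ← lift_omegaOneCenter hf]; exact lift_actsSL2 hf hs
    · rw [← lift_pCoreOf hf, ← lift_omegaOneCenter hf, ← lift_inf_centralizer hf, ← map_commutator, hd]
    · rw [← lift_pCoreOf hf, ← lift_omegaOneCenter hf, ← lift_inf_centralizer hf, ← hfr]
      exact (lift_frattiniOf hf _).symm
    · rw [← lift_pCoreOf hf, ← lift_omegaOneCenter hf, ← lift_inf_centralizer hf, ← lift_inf_centralizer hf, hc]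
    · rw [← lift_inf_centralizer hf, card_map_of_injective hf, hcard]
    · intro b hb hbc hle
      rw [← lift_baumann hf] at hb
      obtain ⟨a, ha, rfl⟩ := hb
      refine hq a ha (fun hac => hbc ?_) ?_
      · rw [← lift_pCoreOf hf, ← lift_omegaOneCenter hf]
        refine mem_centralizer_iff.2 ?_
        rintro _ ⟨w, hw, rfl⟩
        rw [← map_mul, ← map_mul, mem_centralizer_iff.1 hac w hw]
      · rw [← lift_pCoreOf hf, ← MonoidHom.map_zpowers, ← map_commutator, ← map_commutator,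
          ← lift_inf_centralizer hf, map_le_map_iff_of_injective hf] at hle
        exact hle
  · refine Or.inr ⟨hp, m, lift_quot hf E hiso, ?_,
      by rw [← lift_pCoreOf hf, ← lift_omegaOneCenter hf, ← hQW]⟩
    rw [← lift_pCoreOf hf, ← lift_omegaOneCenter hf, ← lift_inf_centralizer hf]
    exact lift_actsPerm hf hsec

end CfsgLib.LocalEven.CStar

namespace CfsgLib.LocalEven.CStar

open Cfsg Subgroup
open CfsgLib.LocalEven.PushMin (lift_omegaOneCenter)

variable {G H : Type*} [Group G] [Group H] {p : ℕ} {f : H →* G} (hf : Function.Injective f)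
include hf

theorem lift_char {B C : Subgroup H} (hC : C ≤ B) (hch : (C.subgroupOf B).Characteristic) :
    ((C.map f).subgroupOf (B.map f)).Characteristic := by
  let e := B.equivMapOfInjective f hf
  have he : (C.map f).subgroupOf (B.map f) = (C.subgroupOf B).map e.toMonoidHom := by
    ext y
    constructor
    · rintro ⟨c, hc, hcy⟩
      exact ⟨⟨c, hC hc⟩, hc, Subtype.ext hcy⟩
    · rintro ⟨x, hx, rfl⟩
      exact mem_map_of_mem f hx
  rw [he, characteristic_iff_map_eq]
  intro φ
  have h1 : (C.subgroupOf B).map ((e.trans φ).trans e.symm).toMonoidHom = C.subgroupOf B :=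
    characteristic_iff_map_eq.1 hch _
  conv_rhs => rw [← h1]
  rw [map_map, map_map]
  congr 1
  ext x
  simp

/-- `C*` of a subgroup lies in `C*`. -/
theorem lift_cStar (T : Subgroup H) : (cStarOf p T).map f ≤ cStarOf p (T.map f) := by
  rw [cStarOf, Subgroup.map_sup, charNormalizersJoin, Subgroup.map_iSup]
  refine sup_le_sup ?_ (iSup_le fun C => ?_)
  · rw [← lift_omegaOneCenter hf]
    rintro _ ⟨x, hx, rfl⟩
    refine mem_centralizer_iff.2 ?_
    rintro _ ⟨z, hz, rfl⟩
    rw [← map_mul, ← map_mul, mem_centralizer_iff.1 hx z hz]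
  · refine (le_normalizer_map f).trans ?_
    rw [charNormalizersJoin]
    refine le_trans ?_ (le_iSup (fun D : {D : Subgroup G // D ≤ baumannSubgroupOf p (T.map f) ∧ D ≠ ⊥ ∧
      (D.subgroupOf (baumannSubgroupOf p (T.map f))).Characteristic} => normalizer ((D : Subgroup G) : Set G))
      ⟨(C : Subgroup H).map f, ?_, fun h => C.2.2.1 ((map_eq_bot_iff_of_injective _ hf).1 h), ?_⟩)
    · exact le_rfl
    · rw [← lift_baumann hf]; exact map_mono C.2.1
    · rw [← lift_baumann hf]; exact lift_char hf C.2.1 C.2.2.2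

end CfsgLib.LocalEven.CStar

namespace CfsgLib.LocalEven.CStar

open Cfsg Subgroup
open CfsgLib.LocalEven.PushMin (lift_omegaOneCenter lift_inf_centralizer lift_pCoreOf lift_pResidualOf
  lift_frattiniOf)
open scoped commutatorElement

variable {G H : Type*} [Group G] [Group H] [Finite G] [Finite H] {p : ℕ} [Fact p.Prime] {f : H →* G}
  (hf : Function.Injective f)
include hf

omit [Fact p.Prime] [Finite G] [Finite H] in
theorem descend_actsSL2 {F : Type*} [Field F] {R : Subgroup (Matrix.SpecialLinearGroup (Fin 2) F)}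
    {E U U₀ : Subgroup H} (h : ActsAsSL2OnSection F R (E.map f) (U.map f) (U₀.map f)) :
    ActsAsSL2OnSection F R E U U₀ := by
  obtain ⟨hEU, hU0, ρ, ψ, hρ, hψ, hker, heq⟩ := h
  let eE := E.equivMapOfInjective f hf
  let eU := U.equivMapOfInjective f hf
  refine ⟨fun e he => ?_, (map_le_map_iff_of_injective hf).1 hU0,
    ρ.comp eE.toMonoidHom, ψ.comp eU.toMonoidHom, ?_, hψ.comp eU.surjective, fun u => ?_, fun e u => ?_⟩
  · refine mem_normalizer_iff.2 fun x => ?_
    rw [← mem_map_iff_mem hf (x := x), ← mem_map_iff_mem hf (x := e * x * e⁻¹), map_mul, map_mul, map_inv]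
    exact mem_normalizer_iff.1 (hEU (mem_map_of_mem f he)) (f x)
  · rw [MonoidHom.range_comp, MonoidHom.range_eq_top.2 eE.surjective, ← MonoidHom.range_eq_map, hρ]
  · show ψ (eU u) = 1 ↔ _
    rw [hker]
    exact mem_map_iff_mem hf
  · obtain ⟨w, hw, hw'⟩ := heq (eE e) (eU u)
    obtain ⟨v, rfl⟩ := eU.surjective w
    refine ⟨v, hf ?_, hw'⟩
    rw [map_mul, map_mul, map_inv]
    exact hw

omit [Fact p.Prime] [Finite G] [Finite H] in
theorem descend_actsPerm {n : ℕ} {R : Subgroup (Equiv.Perm (Fin n))} {E U U₀ : Subgroup H}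
    (h : ActsAsOddPermModuleOnSection n R (E.map f) (U.map f) (U₀.map f)) :
    ActsAsOddPermModuleOnSection n R E U U₀ := by
  obtain ⟨hEU, hU0, ρ, ψ, hρ, h1, h2, hker, heq⟩ := h
  let eE := E.equivMapOfInjective f hf
  let eU := U.equivMapOfInjective f hf
  refine ⟨fun e he => ?_, (map_le_map_iff_of_injective hf).1 hU0,
    ρ.comp eE.toMonoidHom, ψ.comp eU.toMonoidHom, ?_, fun u => h1 _, fun v hv => ?_, fun u => ?_, fun e u => ?_⟩
  · refine mem_normalizer_iff.2 fun x => ?_
    rw [← mem_map_iff_mem hf (x := x), ← mem_map_iff_mem hf (x := e * x * e⁻¹), map_mul, map_mul, map_inv]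
    exact mem_normalizer_iff.1 (hEU (mem_map_of_mem f he)) (f x)
  · rw [MonoidHom.range_comp, MonoidHom.range_eq_top.2 eE.surjective, ← MonoidHom.range_eq_map, hρ]
  · obtain ⟨u, hu⟩ := h2 v hv
    obtain ⟨u', rfl⟩ := eU.surjective u
    exact ⟨u', hu⟩
  · show ψ (eU u) = 1 ↔ _
    rw [hker]
    exact mem_map_iff_mem hf
  · obtain ⟨w, hw, hw'⟩ := heq (eE e) (eU u)
    obtain ⟨v, rfl⟩ := eU.surjective w
    refine ⟨v, hf ?_, hw'⟩
    rw [map_mul, map_mul, map_inv]
    exact hw

/-- A subgroup which is a block of `G` is a block of `H`. -/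
theorem descend_block {T₀ E : Subgroup H} {T : Subgroup G}
    (hB : baumannSubgroupOf p (T₀.map f) = baumannSubgroupOf p T)
    (hZ : ⁅E.map f, omegaOneCenter p (T₀.map f)⁆ ≠ ⊥) (hE : IsBaumannBlock p T (E.map f)) :
    IsBaumannBlock p T₀ E := by
  haveI := CfsgLib.Cores.pCore_characteristic (G := ↥E) p
  haveI := CfsgLib.Cores.pCore_characteristic (G := ↥(E.map f)) p
  obtain ⟨h1, h2, h3, -, h5⟩ := hE
  have hinj := Subgroup.map_injective hf
  have hquot : ∀ {R : Type} [Group R], Nonempty (↥(E.map f) ⧸ pCore p ↥(E.map f) ≃* R) →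
      Nonempty (↥E ⧸ pCore p ↥E ≃* R) := fun ⟨g⟩ =>
    ⟨(QuotientGroup.congr (pCore p ↥E) (pCore p ↥(E.map f)) (E.equivMapOfInjective f hf)
      (CfsgLib.Cores.map_pCore_equiv _)).trans g⟩
  rw [← hB, ← lift_baumann hf, ← map_commutator] at h2
  rw [← lift_pResidualOf hf] at h1
  rw [← lift_pCoreOf hf, ← map_commutator] at h3
  rw [← lift_omegaOneCenter hf, ← map_commutator] at hZ
  refine ⟨hinj h1, hinj h2, hinj h3, fun h => hZ (by rw [h, Subgroup.map_bot]), ?_⟩
  rcases h5 with ⟨F, iF, iFt, n, hn, hiso, hsec, hQW⟩ | ⟨hp, m, hiso, hsec, hQW⟩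
  · rw [← lift_pCoreOf hf, ← lift_omegaOneCenter hf, ← lift_inf_centralizer hf] at hsec
    refine Or.inl ⟨F, iF, iFt, n, hn, hquot hiso, descend_actsSL2 hf hsec, ?_⟩
    rcases hQW with h | ⟨hp, hs, hd, hfr, hc, hcard, hq⟩
    · rw [← lift_pCoreOf hf, ← lift_omegaOneCenter hf] at h
      exact Or.inl (hinj h)
    rw [← lift_pCoreOf hf, ← lift_omegaOneCenter hf] at hs
    rw [← lift_pCoreOf hf, ← lift_omegaOneCenter hf, ← lift_inf_centralizer hf] at hd hfr hc
    rw [← map_commutator] at hd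
    rw [← lift_inf_centralizer hf] at hc hcard
    rw [card_map_of_injective hf] at hcard
    rw [← lift_frattiniOf hf] at hfr
    refine Or.inr ⟨hp, descend_actsSL2 hf hs, hinj hd, hinj hfr, hinj hc, hcard, fun b hb hbc hle => ?_⟩
    refine hq (f b) ?_ (fun hac => hbc ?_) ?_
    · rw [← hB, ← lift_baumann hf]; exact mem_map_of_mem f hb
    · rw [← lift_pCoreOf hf, ← lift_omegaOneCenter hf] at hac
      exact mem_centralizer_iff.2 fun w hw =>
        hf (by rw [map_mul, map_mul]; exact mem_centralizer_iff.1 hac _ (mem_map_of_mem f hw))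
    · rw [← lift_pCoreOf hf, ← MonoidHom.map_zpowers, ← map_commutator, ← map_commutator,
        ← lift_inf_centralizer hf]
      exact map_mono hle
  · rw [← lift_pCoreOf hf, ← lift_omegaOneCenter hf] at hQW
    rw [← lift_pCoreOf hf, ← lift_omegaOneCenter hf, ← lift_inf_centralizer hf] at hsec
    exact Or.inr ⟨hp, m, hquot hiso, descend_actsPerm hf hsec, hinj hQW⟩

end CfsgLib.LocalEven.CStar
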