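import Cfsg.Agent.Lib.LocalEven.CStar.Root
import Cfsg.Agent.Lib.NoFF.Core

/-!
Two noncommuting members of a root class: their line is covered by the members on it, and is a component.
-/

set_option autoImplicit false
set_option linter.unusedSectionVars false
set_option linter.style.haveILetI false

namespace CfsgLib.LocalEven.CStar

open CfsgLib.Fusion (conjSub mem_conjSub conj_mem_conjSub conjSub_conjSub conjSub_one card_conjSub)

variable {Γ : Type*} [Group Γ] [Finite Γ] {M : Type*} [AddCommGroup M] [DistribMulAction Γ M] [Finite M]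

namespace RootClass

variable {A : Set (Subgroup Γ)} {P : Subgroup Γ → AddSubgroup M} {q : ℕ} (h : RootClass A P q)
include h

theorem exists_ne_one {D : Subgroup Γ} (hD : D ∈ A) : ∃ d ∈ D, d ≠ 1 := by
  by_contra hc
  push Not at hc
  have h1 : Nat.card ↥D = 1 := Subgroup.card_eq_one.2 ((Subgroup.eq_bot_iff_forall D).2 hc)
  have := h.two; rw [← h.cardD D hD, h1] at this; omega

theorem exists_ne_zero {D : Subgroup Γ} (hD : D ∈ A) : ∃ v ∈ P D, v ≠ 0 := by
  by_contra hc
  push Not at hc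
  have h1 : Nat.card ↥(P D) = 1 := AddSubgroup.card_eq_one.2 ((AddSubgroup.eq_bot_iff_forall (P D)).2 hc)
  have := h.two; rw [← h.cardP D hD, h1] at this; omega

/-- Commuting members fix each other's points. -/
theorem fix_of_comm {D R : Subgroup Γ} (hD : D ∈ A) (hR : R ∈ A) (hDR : Comm D R) {d : Γ} (hd : d ∈ D) {v : M}
    (hv : v ∈ P R) : d • v = v := by
  rcases eq_or_ne D R with e | hne
  · exact h.fixP D hD d hd v (e ▸ hv)
  have hle : P R ≤ AddMonoidHom.eqLocus (DistribSMul.toAddMonoidHom M d) (AddMonoidHom.id M) := by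
    refine le_trans (h.span R hR) ((AddSubgroup.closure_le _).2 ?_)
    rintro _ ⟨r, hr, u, rfl⟩
    show d • (r • u - u) = r • u - u
    have e1 : d • (r • u - u) - (r • u - u) = r • (d • u - u) - (d • u - u) := by
      rw [smul_sub, smul_sub, ← mul_smul, ← mul_smul, hDR d hd r hr]; abel
    have h1 : d • (r • u - u) - (r • u - u) ∈ P D := h.quad D hD d hd _
    have h2 : d • (r • u - u) - (r • u - u) ∈ P R := by rw [e1]; exact h.quad R hR r hr _
    exact sub_eq_zero.1 (h.indep2 D hD R hR hne hDR _ h1 h2)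
  exact hle hv

theorem eq_of_point {D R : Subgroup Γ} (hD : D ∈ A) (hR : R ∈ A) (e : P D = P R) : D = R := by
  by_contra hne
  have hc : Comm D R := fun a ha b hb => by
    have hcomm : ∀ v : M, a • b • v = b • a • v := fun v => by
      have h1 : a • (b • v - v) = b • v - v := h.fixP D hD a ha _ (e ▸ h.quad R hR b hb v)
      have h2 : b • (a • v - v) = a • v - v := h.fixP R hR b hb _ (e ▸ h.quad D hD a ha v)
      rw [smul_sub] at h1 h2
      calc a • b • v = (b • v - v) + a • v := by rw [← h1]; abel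
        _ = (a • v - v) + b • v := by abel
        _ = b • a • v := by rw [← h2]; abel
    refine inv_mul_eq_one.1 (h.faithful _ fun v => ?_)
    rw [mul_smul, inv_smul_eq_iff, mul_smul, mul_smul]
    exact (hcomm v).symm
  obtain ⟨v, hv, hv0⟩ := h.exists_ne_zero hD
  exact hv0 (h.indep2 D hD R hR hne hc v hv (e ▸ hv))

/-- An element normalising `D` inside a member. -/
theorem comm_of_conj_eq {D R : Subgroup Γ} (hD : D ∈ A) (hR : R ∈ A) {r s : Γ} (hr : r ∈ R) (hs : s ∈ R) (hne : r ≠ s)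
    (e : conjSub r D = conjSub s D) : Comm D R := by
  refine h.norm D hD R hR (s⁻¹ * r) (mul_mem (inv_mem hs) hr) (fun e1 => hne (inv_mul_eq_one.1 e1).symm) ?_
  rw [← conjSub_conjSub, e, conjSub_conjSub, inv_mul_cancel, conjSub_one]

theorem conj_inv_self {R : Subgroup Γ} {r : Γ} (hr : r ∈ R) : conjSub r R = R :=
  CfsgLib.Fusion.conjSub_eq_iff_mem_normalizer.2 (Subgroup.le_normalizer hr)

theorem conj_ne {D R : Subgroup Γ} (hne : D ≠ R) {r : Γ} (hr : r ∈ R) : conjSub r D ≠ R := fun e => by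
  refine hne ?_
  have h1 := congrArg (conjSub r⁻¹) e
  rwa [conjSub_conjSub, inv_mul_cancel, conjSub_one, h.conj_inv_self (inv_mem hr)] at h1

theorem point_conj_le {D R : Subgroup Γ} (hD : D ∈ A) (hR : R ∈ A) {r : Γ} (hr : r ∈ R) :
    P (conjSub r D) ≤ P D ⊔ P R := by
  intro v hv
  have h1 := (h.equiv D hD r v).1 hv
  have h2 := h.quad R hR r hr (r⁻¹ • v)
  rw [smul_inv_smul] at h2
  have := add_mem (AddSubgroup.mem_sup_left (T := P R) h1) (AddSubgroup.mem_sup_right (S := P D) h2)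
  rwa [add_sub_cancel] at this

theorem mem_point_conj {D R : Subgroup Γ} (hD : D ∈ A) (hR : R ∈ A) {r : Γ} (hr : r ∈ R) {v : M}
    (hvD : v ∈ P D) (hvR : v ∈ P R) : v ∈ P (conjSub r D) := by
  rw [h.equiv D hD r v, h.fixP R hR r⁻¹ (inv_mem hr) v hvR]
  exact hvD

/-- Distinct members have disjoint points. -/
theorem disjoint {D R : Subgroup Γ} (hD : D ∈ A) (hR : R ∈ A) (hne : D ≠ R) : ∀ v, v ∈ P D → v ∈ P R → v = 0 := by
  classical
  by_contra hcon
  obtain ⟨⟨D₀, R₀⟩, ⟨hD₀, hR₀, hne₀⟩, hmax⟩ := Set.exists_max_image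
    {x : Subgroup Γ × Subgroup Γ | x.1 ∈ A ∧ x.2 ∈ A ∧ x.1 ≠ x.2}
    (fun x => Nat.card ↥(P x.1 ⊓ P x.2)) (Set.toFinite _) ⟨(D, R), hD, hR, hne⟩
  set I := P D₀ ⊓ P R₀ with hI
  have hI2 : 1 < Nat.card ↥I := by
    refine lt_of_lt_of_le ?_ (hmax (D, R) ⟨hD, hR, hne⟩)
    push Not at hcon
    obtain ⟨v, h1, h2, h3⟩ := hcon
    haveI : Nontrivial ↥(P D ⊓ P R) :=
      ⟨⟨v, AddSubgroup.mem_inf.2 ⟨h1, h2⟩⟩, 0, fun e => h3 (congrArg Subtype.val e)⟩
    exact Finite.one_lt_card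
  have hnc : ¬ Comm D₀ R₀ := fun hc => by
    have : I = ⊥ := (AddSubgroup.eq_bot_iff_forall I).2 fun v hv =>
      h.indep2 D₀ hD₀ R₀ hR₀ hne₀ hc v (AddSubgroup.mem_inf.1 hv).1 (AddSubgroup.mem_inf.1 hv).2
    rw [this, AddSubgroup.card_bot] at hI2; omega
  let F : Option ↥R₀ → Subgroup Γ := fun o => o.elim R₀ fun r => conjSub (r : Γ) D₀
  have hFA : ∀ o, F o ∈ A := fun o => by
    cases o with
    | none => exact hR₀
    | some r => exact h.conj D₀ hD₀ _
  have hFinj : ∀ o o', o ≠ o' → F o ≠ F o' := by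
    rintro (_ | r) (_ | s) ho e
    · exact ho rfl
    · exact h.conj_ne hne₀ s.2 e.symm
    · exact h.conj_ne hne₀ r.2 e
    · exact hnc (h.comm_of_conj_eq hD₀ hR₀ r.2 s.2 (fun e1 => ho (congrArg some (Subtype.ext e1))) e)
  have hIF : ∀ o, I ≤ P (F o) := fun o v hv => by
    obtain ⟨h1, h2⟩ := AddSubgroup.mem_inf.1 hv
    cases o with
    | none => exact h2
    | some r => exact h.mem_point_conj hD₀ hR₀ r.2 h1 h2
  have hFS : ∀ o, P (F o) ≤ P D₀ ⊔ P R₀ := fun o => by
    cases o with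
    | none => exact le_sup_right
    | some r => exact h.point_conj_le hD₀ hR₀ r.2
  have hdis : ∀ o o', o ≠ o' → ∀ v, v ∈ P (F o) → v ∈ P (F o') → v ∈ I := fun o o' ho v h1 h2 => by
    have h3 := hmax (F o, F o') ⟨hFA o, hFA o', hFinj o o' ho⟩
    have h4 : I ≤ P (F o) ⊓ P (F o') := le_inf (hIF o) (hIF o')
    rw [AddSubgroup.eq_of_le_of_card_ge h4 h3]
    exact AddSubgroup.mem_inf.2 ⟨h1, h2⟩
  obtain ⟨hle, -⟩ := family_card (fun o => P (F o)) I (P D₀ ⊔ P R₀) hIF hFS (fun o => h.cardP _ (hFA o))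
    (le_sup_left.trans' inf_le_left) hdis
  rw [Finite.card_option, h.cardD R₀ hR₀] at hle
  have hsum := CfsgLib.NoFF.card_sup_mul_card_inf (P D₀) (P R₀)
  rw [← hI, h.cardP D₀ hD₀, h.cardP R₀ hR₀] at hsum
  have hIq : Nat.card ↥I < q := by
    refine lt_of_le_of_ne (h.cardP D₀ hD₀ ▸ AddSubgroup.card_le_of_le inf_le_left) fun e => hne₀ (h.eq_of_point hD₀ hR₀ ?_)
    have e1 : I = P D₀ := AddSubgroup.eq_of_le_of_card_ge inf_le_left (by rw [h.cardP D₀ hD₀, e])
    exact AddSubgroup.eq_of_le_of_card_ge (e1 ▸ (inf_le_right : I ≤ P R₀)) (by rw [h.cardP D₀ hD₀, h.cardP R₀ hR₀])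
  set i := Nat.card ↥I
  set s := Nat.card ↥(P D₀ ⊔ P R₀)
  have his : i ≤ s := by nlinarith
  obtain ⟨a, rfl⟩ : ∃ a, q = i + a := ⟨q - i, by omega⟩
  obtain ⟨b, hb⟩ : ∃ b, s = i + b := ⟨s - i, by omega⟩
  rw [hb] at hle hsum
  simp only [Nat.add_sub_cancel_left] at hle
  nlinarith [Nat.mul_le_mul_right i hle]

/-- The members `D` and `R^d`. -/
theorem cover {D R : Subgroup Γ} (hD : D ∈ A) (hR : R ∈ A) (hnc : ¬ Comm D R) {v : M} (hv : v ∈ P D ⊔ P R)
    (hv0 : v ≠ 0) : v ∈ P D ∨ ∃ d ∈ D, v ∈ P (conjSub d R) := by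
  classical
  have hne : D ≠ R := by
    rintro rfl
    exact hnc fun a ha b hb => by
      refine inv_mul_eq_one.1 (h.faithful _ fun w => ?_)
      rw [mul_smul, inv_smul_eq_iff, mul_smul, mul_smul]
      have h1 : a • (b • w - w) = b • w - w := h.fixP D hD a ha _ (h.quad D hD b hb w)
      have h2 : b • (a • w - w) = a • w - w := h.fixP D hD b hb _ (h.quad D hD a ha w)
      rw [smul_sub] at h1 h2
      calc b • a • w = (a • w - w) + b • w := by rw [← h2]; abel
        _ = (b • w - w) + a • w := by abel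
        _ = a • b • w := by rw [← h1]; abel
  let F : Option ↥D → Subgroup Γ := fun o => o.elim D fun d => conjSub (d : Γ) R
  have hFA : ∀ o, F o ∈ A := fun o => by
    cases o with
    | none => exact hD
    | some d => exact h.conj R hR _
  have hFinj : ∀ o o', o ≠ o' → F o ≠ F o' := by
    rintro (_ | r) (_ | s) ho e
    · exact ho rfl
    · exact h.conj_ne hne.symm s.2 e.symm
    · exact h.conj_ne hne.symm r.2 e
    · exact hnc (h.comm_of_conj_eq hR hD r.2 s.2 (fun e1 => ho (congrArg some (Subtype.ext e1))) e).symm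
  have hFS : ∀ o, P (F o) ≤ P D ⊔ P R := fun o => by
    cases o with
    | none => exact le_sup_left
    | some d => exact (h.point_conj_le hR hD d.2).trans (sup_comm (P R) (P D)).le
  obtain ⟨-, hcov⟩ := family_card (fun o => P (F o)) ⊥ (P D ⊔ P R) (fun o => bot_le) hFS
    (fun o => h.cardP _ (hFA o)) bot_le
    (fun o o' ho v h1 h2 => AddSubgroup.mem_bot.2 (h.disjoint (hFA o) (hFA o') (hFinj o o' ho) v h1 h2))
  have hsum := CfsgLib.NoFF.card_sup_mul_card_inf (P D) (P R)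
  rw [(AddSubgroup.eq_bot_iff_forall (P D ⊓ P R)).2 fun w hw =>
      h.disjoint hD hR hne w (AddSubgroup.mem_inf.1 hw).1 (AddSubgroup.mem_inf.1 hw).2,
    h.cardP D hD, h.cardP R hR, AddSubgroup.card_bot, mul_one] at hsum
  obtain ⟨o, ho⟩ := hcov (by
    rw [Finite.card_option, h.cardD D hD, hsum, AddSubgroup.card_bot]
    obtain ⟨k, rfl⟩ : ∃ k, q = k + 1 := ⟨q - 1, by have := h.two; omega⟩
    rw [Nat.add_sub_cancel]
    exact le_of_eq (Nat.sub_eq_of_eq_add (by ring))) v hv (fun e => hv0 (AddSubgroup.mem_bot.1 e))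
  cases o with
  | none => exact Or.inl ho
  | some d => exact Or.inr ⟨d, d.2, ho⟩

end RootClass

end CfsgLib.LocalEven.CStar
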