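import Cfsg.Agent.Lib.LocalEven.CStar.Assemble
import Cfsg.Agent.Lib.LocalEven.CStar.Hyp
import Cfsg.Agent.Lib.LocalEven.SubnormalSylow

/-!
General facts on one member: a subgroup of a member normalised by `N_T(E)` that contains no block lies in `C*(G,T)`.
-/

set_option autoImplicit false

namespace CfsgLib.LocalEven.CStar

open Cfsg Subgroup
open CfsgLib.LocalEven
open scoped commutatorElement

variable {G : Type*} [Group G] [Finite G] {p : ℕ} [Fact p.Prime] {T : Sylow p G}

theorem pResidualOf_le_of_le_sup {L P F : Subgroup G} (hP : IsPGroup p ↥P) (hn : P ≤ normalizer (L : Set G))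
    (hF : pResidualOf p F = F) (hle : F ≤ L ⊔ P) : F ≤ L := by
  haveI : (L.subgroupOf (L ⊔ P)).Normal := normal_subgroupOf_of_le_normalizer (sup_le le_normalizer hn)
  have hpg : IsPGroup p (↥(L ⊔ P) ⧸ L.subgroupOf (L ⊔ P)) := by
    intro q
    obtain ⟨x, rfl⟩ := QuotientGroup.mk_surjective q
    have hx := x.2
    rw [← SetLike.mem_coe, coe_mul_of_right_le_normalizer_left L P hn] at hx
    obtain ⟨l, hl, t, ht, he⟩ := hx
    obtain ⟨k, hk⟩ := hP ⟨t, ht⟩
    refine ⟨k, ?_⟩
    have e : (QuotientGroup.mk x : ↥(L ⊔ P) ⧸ L.subgroupOf (L ⊔ P)) =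
        QuotientGroup.mk (⟨t, mem_sup_right ht⟩ : ↥(L ⊔ P)) := by
      rw [QuotientGroup.eq, mem_subgroupOf, Subgroup.coe_mul, InvMemClass.coe_inv, ← he]
      show (l * t)⁻¹ * t ∈ L
      have h1 := (mem_normalizer_iff.1 (inv_mem (hn ht)) l⁻¹).1 (inv_mem hl)
      simpa [mul_assoc] using h1
    rw [e, ← QuotientGroup.mk_pow, QuotientGroup.eq_one_iff]
    have h1 : t ^ p ^ k = 1 := congrArg Subtype.val hk
    rw [mem_subgroupOf, Subgroup.coe_pow]
    show t ^ p ^ k ∈ L
    rw [h1]; exact one_mem L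
  have hres : pResidual p ↥F ≤ (F ⊓ L).subgroupOf F := by
    refine (closure_le _).2 fun x hx => ?_
    have hx' : (orderOf (inclusion hle x)).Coprime p := by
      rw [orderOf_injective (inclusion hle) (inclusion_injective hle) x]; exact hx
    obtain ⟨k, hk⟩ := hpg (QuotientGroup.mk (inclusion hle x))
    have h1 : (QuotientGroup.mk (inclusion hle x) : ↥(L ⊔ P) ⧸ L.subgroupOf (L ⊔ P)) = 1 :=
      orderOf_eq_one_iff.1 (Nat.eq_one_of_dvd_coprimes (Nat.Coprime.pow_right k hx')
        (orderOf_map_dvd (QuotientGroup.mk' (L.subgroupOf (L ⊔ P))) _) (orderOf_dvd_of_pow_eq_one hk))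
    rw [QuotientGroup.eq_one_iff, mem_subgroupOf] at h1
    exact ⟨x.2, h1⟩
  rw [← hF]
  exact (map_mono hres).trans ((map_subgroupOf_eq_of_le inf_le_left).le.trans inf_le_right)

theorem block_not_abelian {E : Subgroup G} (hE : IsBaumannBlock p (T : Subgroup G) E) :
    ¬ E ≤ centralizer (E : Set G) := fun h => SubBlock.bWE_not_le hE <| by
  have h0 : SubBlock.bWE p E = ⊥ :=
    commutator_eq_bot_iff_le_centralizer.2 ((SubBlock.bW_le E).trans h)
  rw [h0]; exact bot_le

section
variable (hG : centralizer (pCore p G : Set G) ≤ pCore p G)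
include hG

/-- The other members centralise a member. -/
theorem others_le_centralizer {E : Subgroup G} (hE : E ∈ members p (T : Subgroup G)) :
    sSup (members p (T : Subgroup G) \ {E}) ≤ centralizer (E : Set G) :=
  sSup_le fun F hF => commutator_eq_bot_iff_le_centralizer.1 (members_commute hG hF.1 hE hF.2)

/-- A subgroup of a member normalised by `N_T(E)` with no block inside lies in `C*(G,T)`. -/
theorem le_cStar_of_cap (hB : baumannSubgroupOf p (T : Subgroup G) ≠ ⊥)
    (hcov : Covered p (T : Subgroup G)) (hbel : Below p (T : Subgroup G)) {E D : Subgroup G}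
    (hE : E ∈ members p (T : Subgroup G)) (hDE : D ≤ E) (hZ : E ⊓ centralizer (E : Set G) ≤ D)
    (hED : ¬ E ≤ D)
    (hinv : ∀ t ∈ (T : Subgroup G), t ∈ normalizer (E : Set G) → D.map (MulAut.conj t).toMonoidHom ≤ D)
    (hno : ∀ F : Subgroup G, IsBaumannBlock p (T : Subgroup G) F → F ≤ D → (F.subgroupOf D).IsSubnormal → False) :
    D ≤ cStarOf p (T : Subgroup G) := by
  set CS := cStarOf p (T : Subgroup G) with hCS
  set L := ⨆ t : ↥(T : Subgroup G), D.map (MulAut.conj (t : G)).toMonoidHom with hL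
  set H := L ⊔ (T : Subgroup G) with hH
  have hTCS : (T : Subgroup G) ≤ CS := sylow_le_cStar T
  have hmem : ∀ {t : G}, t ∈ (T : Subgroup G) → E.map (MulAut.conj t).toMonoidHom ∈ members p (T : Subgroup G) :=
    fun ht => member_conj hG hE (hTCS ht)
  have hDL : D ≤ L := by
    refine le_iSup_of_le (1 : ↥(T : Subgroup G)) fun x hx => ⟨x, hx, ?_⟩
    simp
  have hTN : (T : Subgroup G) ≤ normalizer (L : Set G) := fun s hs => mem_normalizer_of_conj_le (by
    rw [hL, Subgroup.map_iSup]
    refine iSup_le fun t => le_iSup_of_le (⟨s, hs⟩ * t) (le_of_eq ?_)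
    rw [Subgroup.map_map]
    congr 1
    ext x
    simp [mul_assoc])
  have hLsup : L ≤ D ⊔ sSup (members p (T : Subgroup G) \ {E}) := iSup_le fun t => by
    by_cases h : E.map (MulAut.conj (t : G)).toMonoidHom = E
    · exact (hinv t t.2 (mem_normalizer_iff_map_conj_eq.2 h)).trans le_sup_left
    · exact (map_mono hDE).trans (le_trans (le_sSup (show E.map _ ∈ members p (T : Subgroup G) \ {E} from
        ⟨hmem t.2, h⟩)) le_sup_right)
  have hcap : ∀ F : Subgroup G, F ≤ L → F ≤ E → F ≤ D := fun F hFL hFE x hx => by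
    have h1 := hLsup (hFL hx)
    rw [← SetLike.mem_coe, coe_mul_of_left_le_normalizer_right D (sSup (members p (T : Subgroup G) \ {E}))
      ((hDE.trans (le_centralizer_iff.1 (others_le_centralizer hG hE))).trans (centralizer_le_normalizer _))] at h1
    obtain ⟨d, hd, g, hg, rfl⟩ := h1
    refine mul_mem hd (hZ ⟨?_, others_le_centralizer hG hE hg⟩)
    simpa using mul_mem (inv_mem (hDE hd)) (hFE hx)
  have hres : ∀ F : Subgroup G, pResidualOf p F = F → F ≤ H → F ≤ L := fun F hF hle =>
    pResidualOf_le_of_le_sup T.2 hTN hF hle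
  have hHtop : H ≠ ⊤ := fun h => hED (hcap E (hres E hE.1.1 (h ▸ le_top)) le_rfl)
  have hTH : (T : Subgroup G) ≤ H := le_sup_right
  refine (hDL.trans le_sup_left : D ≤ H).trans ?_
  by_contra hHC
  obtain ⟨F₀, hF₀, hF₀H, hout⟩ := exists_block_not_le hG hB le_rfl hTH hHC
  obtain ⟨F, hF, hle, hFH, hFs⟩ :=
    hbel H hHtop ((CfsgLib.Cores.pCore_le_sylow T).trans hTH) ((Baumann.baumann_le _).trans hTH) F₀ hF₀ hout hF₀H
  have houtF : ¬ F ≤ CS := fun h => hout (hle.trans h)
  obtain ⟨E', hE', hFE'⟩ := exists_member hcov hF houtF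
  -- `E'` is a `T`-conjugate of `E`
  obtain ⟨t, ht⟩ : ∃ t : ↥(T : Subgroup G), E.map (MulAut.conj (t : G)).toMonoidHom = E' := by
    by_contra hcon
    have h1 : L ≤ centralizer (E' : Set G) := iSup_le fun t => (map_mono hDE).trans
      (commutator_eq_bot_iff_le_centralizer.1 (members_commute hG (hmem t.2) hE' fun e => hcon ⟨t, e⟩))
    exact block_not_abelian hF (((hres F hF.1 hFH).trans h1).trans (centralizer_le hFE'))
  set φ := (MulAut.conj (t : G)⁻¹).toMonoidHom with hφ
  set F' := F.map φ with hF'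
  have hFb : IsBaumannBlock p (T : Subgroup G) F' := by
    have h1 := BlockBaumann.isBlock_conj (T := T) hF (t : G)⁻¹
    rwa [show (((t : G)⁻¹ • T : Sylow p G) : Subgroup G) = (T : Subgroup G) by
      rw [BlockBaumann.smul_coe]
      exact mem_normalizer_iff_map_conj_eq.1 (Subgroup.le_normalizer (inv_mem t.2))] at h1
  have hF'E : F' ≤ E := by
    rw [hF', map_le_iff_le_comap]
    refine hFE'.trans ?_
    rw [← ht, map_le_iff_le_comap]
    intro x hx
    simp [φ, mul_assoc, hx]
  have hF'H : F' ≤ H := by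
    rw [hF', map_le_iff_le_comap]
    intro x hx
    have := mul_mem (mul_mem (inv_mem (hTH t.2)) (hFH hx)) (hTH t.2)
    simpa [φ] using this
  have hF'D : F' ≤ D := hcap F' (hres F' hFb.1 hF'H) hF'E
  refine hno F' hFb hF'D ?_
  have hs : (F'.subgroupOf H).IsSubnormal := by
    have e : F'.subgroupOf H = (F.subgroupOf H).map (MulAut.conj (⟨(t : G)⁻¹, inv_mem (hTH t.2)⟩ : ↥H)).toMonoidHom := by
      ext x
      rw [mem_subgroupOf, hF', mem_map, mem_map]
      constructor
      · rintro ⟨y, hy, hyx⟩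
        exact ⟨⟨y, hFH hy⟩, hy, Subtype.ext hyx⟩
      · rintro ⟨y, hy, rfl⟩
        exact ⟨y, hy, rfl⟩
    rw [e]
    exact hFs.map (MulEquiv.surjective _)
  have hDH : D ≤ H := hDL.trans le_sup_left
  exact hs.comap (inclusion hDH)

end

end CfsgLib.LocalEven.CStar
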