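import Cfsg.Agent.Lib.LocalEven.BlockModule
import Cfsg.Agent.Lib.LocalEven.CStar.Lift
import Cfsg.Agent.Lib.LocalEven.Baumann
import Cfsg.Prelude.Def_EvenTechniques
import Cfsg.Prelude.Def_ClassificationK

/-!
The members of a block structure for `p = 2` are near components; the weakened local `C(X,T)` theorem for near
components follows from the block structure.
-/

set_option autoImplicit false

namespace CfsgLib.LocalEven.CStar

open Cfsg Subgroup
open scoped commutatorElement MatrixGroups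

universe u

section One

variable {X : Type u} [Group X] [Finite X] {T E : Subgroup X}

theorem pCoreOf_eq_omega_of_block (hE : IsBaumannBlock 2 T E) :
    pCoreOf 2 E = omegaOneCenter 2 (pCoreOf 2 E) := by
  obtain ⟨-, -, -, -, hc⟩ := hE
  rcases hc with ⟨F, _, _, n, -, -, -, h | ⟨h, -⟩⟩ | ⟨-, m, -, -, h⟩
  · exact h
  · exact absurd h (by norm_num)
  · exact h

theorem centralizer_pCore_le_of_block (hE : IsBaumannBlock 2 T E) :
    centralizer (pCore 2 ↥E : Set ↥E) ≤ pCore 2 ↥E := by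
  intro e he
  have h1 : (e : X) ∈ pCoreOf 2 E := by
    refine (BlockModule.isBlockModule_of_block hE).2 e e.2 fun w hw => ?_
    rw [← pCoreOf_eq_omega_of_block hE] at hw
    obtain ⟨q, hq, rfl⟩ := hw
    exact congrArg Subtype.val (mem_centralizer_iff.1 he q hq).symm
  obtain ⟨q, hq, e'⟩ := h1
  rwa [Subtype.ext (a1 := q) (a2 := e) e'] at hq

theorem pCore_commutator_top_of_block (hE : IsBaumannBlock 2 T E) :
    ⁅pCore 2 ↥E, (⊤ : Subgroup ↥E)⁆ = pCore 2 ↥E := by
  refine map_injective E.subtype_injective ?_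
  rw [map_commutator, ← MonoidHom.range_eq_map, range_subtype]
  exact hE.2.2.1

theorem pResidual_eq_top_of_block (hE : IsBaumannBlock 2 T E) : pResidual 2 ↥E = ⊤ := by
  refine map_injective E.subtype_injective ?_
  rw [← MonoidHom.range_eq_map, range_subtype]
  exact hE.1

theorem pCore_ne_top_of_block (hE : IsBaumannBlock 2 T E) : pCore 2 ↥E ≠ ⊤ := by
  intro h
  have hp : IsPGroup 2 ↥(⊤ : Subgroup ↥E) := h ▸ CfsgLib.Cores.isPGroup_pCore 2
  refine hE.2.2.2.1 ?_
  have hbot : pResidual 2 ↥E = ⊥ := by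
    rw [pResidual, closure_eq_bot_iff]
    intro g hg
    obtain ⟨k, hk⟩ := hp ⟨g, mem_top g⟩
    have hk' : g ^ 2 ^ k = 1 := congrArg Subtype.val hk
    exact orderOf_eq_one_iff.1
      (Nat.Coprime.eq_one_of_dvd ((show Nat.Coprime (orderOf g) 2 from hg).pow_right k) (orderOf_dvd_of_pow_eq_one hk'))
  have hE' : E = ⊥ := by rw [← hE.1, pResidualOf, hbot, Subgroup.map_bot]
  rw [hE', commutator_bot_left]

theorem pCore_le_omegaOne_of_block (hE : IsBaumannBlock 2 T E) :
    pCore 2 ↥E ≤ omegaOne 2 (pCore 2 ↥E ⊓ centralizer (pCore 2 ↥E : Set ↥E)) := by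
  refine (map_le_map_iff_of_injective E.subtype_injective).1 ?_
  show pCoreOf 2 E ≤ _
  conv_lhs => rw [pCoreOf_eq_omega_of_block hE]
  rw [omegaOneCenter, omegaOne, closure_le]
  rintro x ⟨⟨⟨q, hq, rfl⟩, hxc⟩, hx2⟩
  refine ⟨q, subset_closure ⟨⟨hq, mem_centralizer_iff.2 fun r hr => Subtype.ext ?_⟩, Subtype.ext hx2⟩, rfl⟩
  exact mem_centralizer_iff.1 hxc (r : X) ⟨r, hr, rfl⟩

theorem map_inf_center_of_block (hE : IsBaumannBlock 2 T E) :
    (pCore 2 ↥E ⊓ center ↥E).map E.subtype = omegaOneCenter 2 (pCoreOf 2 E) ⊓ centralizer (E : Set X) := by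
  rw [← pCoreOf_eq_omega_of_block hE]
  ext x
  constructor
  · rintro ⟨q, ⟨hq, hz⟩, rfl⟩
    exact ⟨⟨q, hq, rfl⟩, mem_centralizer_iff.2 fun y hy => congrArg Subtype.val (mem_center_iff.1 hz ⟨y, hy⟩)⟩
  · rintro ⟨⟨q, hq, rfl⟩, hc⟩
    exact ⟨q, ⟨hq, mem_center_iff.2 fun y => Subtype.ext (mem_centralizer_iff.1 hc y y.2)⟩, rfl⟩

theorem isNearComponent_of_block (hE : IsBaumannBlock 2 T E) (hq : IsSimpleGroup (↥E ⧸ pCore 2 ↥E)) :
    IsNearComponent ↥E := by
  have hcomm := pCore_commutator_top_of_block hE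
  have hc := centralizer_pCore_le_of_block hE
  refine ⟨hc, Or.inr hq, pResidual_eq_top_of_block hE, ?_, ?_, ?_⟩
  · rw [hcomm]; exact pCore_le_omegaOne_of_block hE
  · rw [hcomm, hcomm]
    intro h
    have h0 : ⁅pCore 2 ↥E, (⊤ : Subgroup ↥E)⁆ = ⊥ := by
      rw [commutator_eq_bot_iff_le_centralizer, coe_top, centralizer_univ]
      exact h.trans inf_le_right
    rw [hcomm] at h0
    refine pCore_ne_top_of_block hE (top_le_iff.1 ?_)
    have : centralizer (pCore 2 ↥E : Set ↥E) = ⊤ := by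
      rw [h0, coe_bot, centralizer_eq_top_iff_subset]
      rintro _ rfl
      exact one_mem _
    exact this ▸ hc
  · intro W hW h1 h2
    rw [hcomm] at h1 h2 ⊢
    have hn : E ≤ normalizer ((W.map E.subtype : Subgroup X) : Set X) := by
      have := le_normalizer_map (H := W) E.subtype
      rw [normalizer_eq_top, ← MonoidHom.range_eq_map, range_subtype] at this
      exact this
    rcases (BlockModule.isBlockModule_of_block hE).1 (W.map E.subtype)
      ((map_inf_center_of_block hE).ge.trans (map_mono h1))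
      (by rw [← pCoreOf_eq_omega_of_block hE]; exact map_mono h2) hn with h | h
    · exact Or.inl (map_injective E.subtype_injective (h.trans (map_inf_center_of_block hE).symm))
    · exact Or.inr (map_injective E.subtype_injective (h.trans (pCoreOf_eq_omega_of_block hE).symm))

end One

/-- In characteristic two `SL₂` is `PSL₂`. -/
theorem center_sl2_eq_bot_of_two {F : Type*} [Field F] [Fintype F] [DecidableEq F] (h2 : (2 : F) = 0) :
    center (Matrix.SpecialLinearGroup (Fin 2) F) = ⊥ := by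
  rw [eq_bot_iff]
  intro A hA
  obtain ⟨r, hr, hrA⟩ := Matrix.SpecialLinearGroup.mem_center_iff.1 hA
  rw [Fintype.card_fin] at hr
  have h1 : (r - 1) * (r - 1) = 0 := by linear_combination hr + (1 - r) * h2
  have hr1 : r = 1 := sub_eq_zero.1 (mul_self_eq_zero.1 h1)
  rw [hr1, map_one] at hrA
  rw [mem_bot]
  exact Subtype.ext hrA.symm

theorem isSimpleGroup_of_iso {A B : Type*} [Group A] [Group B] (e : A ≃* B) (hB : IsSimpleGroup B) :
    IsSimpleGroup A := by
  haveI := hB
  haveI : Nontrivial A := e.toEquiv.nontrivial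
  exact IsSimpleGroup.isSimpleGroup_of_surjective e.symm.toMonoidHom e.symm.surjective

theorem alternating_odd_simple {m : ℕ} (hm : 1 ≤ m) : IsSimpleGroup (alternatingGroup (Fin (2 * m + 1))) := by
  rcases Nat.lt_or_ge m 2 with h | h
  · obtain rfl : m = 1 := by omega
    haveI : Fact (Nat.Prime 3) := ⟨Nat.prime_three⟩
    haveI : Nontrivial (Fin (2 * 1 + 1)) := Fin.nontrivial_iff_two_le.2 (by norm_num)
    refine isSimpleGroup_of_prime_card (p := 3) ?_
    rw [nat_card_alternatingGroup, Nat.card_fin]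
    rfl
  · exact alternatingGroup.isSimpleGroup (by rw [Nat.card_fin]; omega)

section Main

variable {X : Type u} [Group X] [Finite X]

theorem baumann_subgroupOf_characteristic (T : Subgroup X) :
    ((baumannSubgroupOf 2 T).subgroupOf T).Characteristic := by
  have key : (baumannSubgroupOf 2 T).subgroupOf T = baumannSubgroupOf 2 (⊤ : Subgroup ↥T) := by
    refine map_injective T.subtype_injective ?_
    rw [map_subgroupOf_eq_of_le (Baumann.baumann_le _), lift_baumann T.subtype_injective,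
      ← MonoidHom.range_eq_map, range_subtype]
  rw [key, characteristic_iff_map_eq]
  intro φ
  rw [lift_baumann (f := φ.toMonoidHom) φ.injective, map_top_of_surjective _ φ.surjective]

theorem omegaOneCenter_subgroupOf_characteristic (T : Subgroup X) :
    ((omegaOneCenter 2 T).subgroupOf T).Characteristic := by
  have key : (omegaOneCenter 2 T).subgroupOf T = omegaOneCenter 2 (⊤ : Subgroup ↥T) := by
    refine map_injective T.subtype_injective ?_
    rw [map_subgroupOf_eq_of_le (show omegaOneCenter 2 T ≤ T from Oz.le_self T),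
      PushMin.lift_omegaOneCenter T.subtype_injective, ← MonoidHom.range_eq_map, range_subtype]
  rw [key, characteristic_iff_map_eq]
  intro φ
  rw [PushMin.lift_omegaOneCenter (f := φ.toMonoidHom) φ.injective, map_top_of_surjective _ φ.surjective]

theorem omegaOneCenter_ne_bot (T : Sylow 2 X) (hT : (T : Subgroup X) ≠ ⊥) :
    omegaOneCenter 2 (T : Subgroup X) ≠ ⊥ := by
  haveI : Fact (Nat.Prime 2) := ⟨Nat.prime_two⟩
  haveI : Nontrivial ↥(T : Subgroup X) := (Subgroup.nontrivial_iff_ne_bot _).2 hT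
  haveI := T.2.center_nontrivial
  obtain ⟨k, hk0, hk⟩ : ∃ k, 0 < k ∧ Nat.card (center ↥(T : Subgroup X)) = 2 ^ k := by
    obtain ⟨k, hk⟩ := IsPGroup.iff_card.1 (T.2.to_subgroup (center ↥(T : Subgroup X)))
    refine ⟨k, Nat.pos_of_ne_zero fun h => ?_, hk⟩
    rw [h, pow_zero] at hk
    exact Finite.one_lt_card.ne' hk
  obtain ⟨z, hz⟩ := exists_prime_orderOf_dvd_card' 2 (hk ▸ dvd_pow_self 2 hk0.ne')
  intro h
  have hz1 : ((z : ↥(T : Subgroup X)) : X) ∈ omegaOneCenter 2 (T : Subgroup X) := by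
    refine Oz.mem_iff.2 ⟨z.1.2, fun s hs => congrArg Subtype.val (mem_center_iff.1 z.2 ⟨s, hs⟩), ?_⟩
    have := pow_orderOf_eq_one z
    rw [hz] at this
    exact congrArg (fun t : center ↥(T : Subgroup X) => ((t : ↥(T : Subgroup X)) : X)) this
  rw [h, mem_bot] at hz1
  have : z = 1 := Subtype.ext (Subtype.ext hz1)
  rw [this, orderOf_one] at hz
  omega

theorem char_chain {T B K : Subgroup X} (hBT : B ≤ T) (hKB : K ≤ B) (hB : (B.subgroupOf T).Characteristic)
    (hK : (K.subgroupOf B).Characteristic) : (K.subgroupOf T).Characteristic := by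
  refine characteristic_iff_map_le.2 fun φ => ?_
  rintro _ ⟨x, hx, rfl⟩
  have hmem : ∀ (ψ : MulAut ↥T) (b : ↥B), ((ψ (Subgroup.inclusion hBT b) : ↥T) : X) ∈ B := fun ψ b =>
    characteristic_iff_map_le.1 hB ψ ⟨Subgroup.inclusion hBT b, b.2, rfl⟩
  let ψ : MulAut ↥B :=
    { toFun := fun b => ⟨_, hmem φ b⟩
      invFun := fun b => ⟨_, hmem φ.symm b⟩
      left_inv := fun b => Subtype.ext (by
        show ((φ.symm (⟨(φ (Subgroup.inclusion hBT b) : ↥T).1, _⟩ : ↥T) : ↥T) : X) = b
        simp)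
      right_inv := fun b => Subtype.ext (by
        show ((φ (⟨(φ.symm (Subgroup.inclusion hBT b) : ↥T).1, _⟩ : ↥T) : ↥T) : X) = b
        simp)
      map_mul' := fun a b => Subtype.ext (by simp [map_mul]) }
  exact characteristic_iff_map_le.1 hK ψ ⟨⟨(x : X), hKB hx⟩, hx, rfl⟩

theorem cStar_le_charCore (T : Sylow 2 X) (hT : (T : Subgroup X) ≠ ⊥) :
    cStarOf 2 (T : Subgroup X) ≤ charCore (T : Subgroup X) := by
  have key : ∀ C : Subgroup X, C ≤ (T : Subgroup X) → C ≠ ⊥ → (C.subgroupOf (T : Subgroup X)).Characteristic →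
      normalizer (C : Set X) ≤ charCore (T : Subgroup X) := by
    intro C h1 h2 h3
    have hmap : (C.subgroupOf (T : Subgroup X)).map (T : Subgroup X).subtype = C := map_subgroupOf_eq_of_le h1
    refine le_trans (by rw [hmap]) (le_iSup
      (fun D : {D : Subgroup ↥(T : Subgroup X) // D ≠ ⊥ ∧ D.Characteristic} =>
        normalizer (((D : Subgroup ↥(T : Subgroup X)).map (T : Subgroup X).subtype : Subgroup X) : Set X))
      ⟨C.subgroupOf (T : Subgroup X), fun h => h2 (by rw [← hmap, h, Subgroup.map_bot]), h3⟩)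
  refine sup_le ?_ (iSup_le fun ⟨C, hC, hne, hch⟩ => ?_)
  · refine (centralizer_le_normalizer _).trans (key _ ?_ ?_ ?_)
    · exact (Oz.le_self _)
    · exact omegaOneCenter_ne_bot T hT
    · exact omegaOneCenter_subgroupOf_characteristic (T : Subgroup X)
  · refine key C (hC.trans (Baumann.baumann_le _)) hne ?_
    exact char_chain (Baumann.baumann_le _) hC (baumann_subgroupOf_characteristic _) hch

/-- The weakened local `C(X,T)` theorem, from the block structure. -/
theorem near_components_generate (T : Sylow 2 X)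
    (hblocks : charNormalizersJoin (T : Subgroup X) ≠ ⊤ → ∃ 𝓑 : Set (Subgroup X),
      HasBaumannBlockStructure 2 (T : Subgroup X) 𝓑 ∧ ∀ E ∈ 𝓑, ∀ m : ℕ,
        Nonempty (↥E ⧸ pCore 2 ↥E ≃* ↥(alternatingGroup (Fin (2 * m + 1)))) → ∃ n : ℕ, 2 * m + 1 = 2 ^ n + 1)
    (hT : (T : Subgroup X) ≠ ⊥) :
    charCore (T : Subgroup X) ⊔
        (⨆ K : {K : Subgroup X // IsNearComponentOf K ∧ ((∃ (F : Type) (_ : Field F) (_ : Fintype F) (n : ℕ), 2 ≤ n ∧ Fintype.card F = 2 ^ n ∧
          Nonempty (↥(K : Subgroup X) ⧸ pCore 2 ↥(K : Subgroup X) ≃* Matrix.ProjectiveSpecialLinearGroup (Fin 2) F)) ∨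
        (∃ n : ℕ, 1 ≤ n ∧ Nonempty (↥(K : Subgroup X) ⧸ pCore 2 ↥(K : Subgroup X) ≃* alternatingGroup (Fin (2 ^ n + 1)))))},
          (K : Subgroup X)) = ⊤ := by
  classical
  by_cases htop : charNormalizersJoin (T : Subgroup X) = ⊤
  · refine top_le_iff.1 (le_trans ?_ le_sup_left)
    rw [← htop]
    refine iSup_le fun ⟨C, hC, hne, hch⟩ => ?_
    have hmap : (C.subgroupOf (T : Subgroup X)).map (T : Subgroup X).subtype = C := map_subgroupOf_eq_of_le hC
    exact le_trans (by rw [hmap]) (le_iSup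
      (fun D : {D : Subgroup ↥(T : Subgroup X) // D ≠ ⊥ ∧ D.Characteristic} =>
        normalizer (((D : Subgroup ↥(T : Subgroup X)).map (T : Subgroup X).subtype : Subgroup X) : Set X))
      ⟨C.subgroupOf (T : Subgroup X), fun h => hne (by rw [← hmap, h, Subgroup.map_bot]), hch⟩)
  obtain ⟨𝓑, ⟨hB1, hB2, hB3, hB4, -, -, hB7⟩, hdeg⟩ := hblocks htop
  refine top_le_iff.1 (hB4.ge.trans (sup_le_sup (cStar_le_charCore T hT) (sSup_le fun E hE => ?_)))
  have hsub : E.IsSubnormal := by
    have hN : E ≤ sSup 𝓑 := le_sSup hE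
    have h1 : (sSup 𝓑 : Subgroup X).Normal := by
      refine ⟨fun x hx g => ?_⟩
      have : sSup 𝓑 ≤ (sSup 𝓑 : Subgroup X).comap (MulAut.conj g).toMonoidHom :=
        sSup_le fun F hF => map_le_iff_le_comap.1 (le_sSup (hB2 F hF g))
      exact this hx
    refine IsSubnormal.step E (sSup 𝓑) hN h1.isSubnormal (normal_subgroupOf_of_le_normalizer ?_)
    refine sSup_le fun F hF => ?_
    by_cases e : F = E
    · exact e ▸ Subgroup.le_normalizer
    · exact (commutator_eq_bot_iff_le_centralizer.1 (hB3 F hF E hE e)).trans (centralizer_le_normalizer _)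
  have hblk := hB1 E hE
  rcases hB7 E hE with ⟨F, _, _, m, h3, hF, ⟨e⟩, -⟩ | ⟨-, m, ⟨e⟩, -⟩ | ⟨h, -⟩
  · have hm : 2 ≤ m := by
      rcases Nat.lt_or_ge m 2 with h | h
      · interval_cases m <;> simp_all
      · exact h
    have h2 : (2 : F) = 0 := by
      have h := Nat.cast_card_eq_zero F
      rw [hF, Nat.cast_pow, pow_eq_zero_iff (by omega)] at h
      simpa using h
    let e' : ↥E ⧸ pCore 2 ↥E ≃* Matrix.ProjectiveSpecialLinearGroup (Fin 2) F :=
      e.trans ((QuotientGroup.quotientBot (G := Matrix.SpecialLinearGroup (Fin 2) F)).symm.trans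
        (QuotientGroup.quotientMulEquivOfEq (center_sl2_eq_bot_of_two h2).symm))
    have hs : IsSimpleGroup (Matrix.ProjectiveSpecialLinearGroup (Fin 2) F) :=
      Matrix.ProjectiveSpecialLinearGroup.rank_two_simple (by
        have : 2 ^ 2 ≤ 2 ^ m := Nat.pow_le_pow_right (by norm_num) hm
        rw [Nat.card_eq_fintype_card, hF]; omega)
    exact le_iSup_of_le ⟨E, ⟨hsub, isNearComponent_of_block hblk (isSimpleGroup_of_iso e' hs)⟩,
      Or.inl ⟨F, _, _, m, hm, hF, ⟨e'⟩⟩⟩ le_rfl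
  · have hm : 1 ≤ m := by
      by_contra h0
      obtain rfl : m = 0 := by omega
      refine pCore_ne_top_of_block hblk ?_
      haveI : Subsingleton (alternatingGroup (Fin (2 * 0 + 1))) :=
        ⟨fun a b => Subtype.ext (Equiv.ext fun i => Fin.ext (by omega))⟩
      haveI : Subsingleton (↥E ⧸ pCore 2 ↥E) := e.toEquiv.subsingleton
      exact QuotientGroup.subgroup_eq_top_of_subsingleton _ this
    obtain ⟨n, hn⟩ := hdeg E hE m ⟨e⟩
    have hn1 : 1 ≤ n := by
      by_contra h0
      obtain rfl : n = 0 := by omega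
      omega
    refine le_iSup_of_le ⟨E, ⟨hsub, isNearComponent_of_block hblk (isSimpleGroup_of_iso e (alternating_odd_simple hm))⟩,
      Or.inr ⟨n, hn1, ?_⟩⟩ le_rfl
    rw [← hn]
    exact ⟨e⟩
  · exact absurd h (by norm_num)

/-- The weakened local `C(X,T)` theorem for a group of characteristic two. -/
theorem local_CT_near (hX : IsOfCharacteristicTwo X) (T : Sylow 2 X)
    (hblocks : charNormalizersJoin (T : Subgroup X) ≠ ⊤ → ∃ 𝓑 : Set (Subgroup X),
      HasBaumannBlockStructure 2 (T : Subgroup X) 𝓑 ∧ ∀ E ∈ 𝓑, ∀ m : ℕ,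
        Nonempty (↥E ⧸ pCore 2 ↥E ≃* ↥(alternatingGroup (Fin (2 * m + 1)))) → ∃ n : ℕ, 2 * m + 1 = 2 ^ n + 1) :
    charCore (T : Subgroup X) ⊔
        (⨆ K : {K : Subgroup X // IsNearComponentOf K ∧ ((∃ (F : Type) (_ : Field F) (_ : Fintype F) (n : ℕ), 2 ≤ n ∧ Fintype.card F = 2 ^ n ∧
          Nonempty (↥(K : Subgroup X) ⧸ pCore 2 ↥(K : Subgroup X) ≃* Matrix.ProjectiveSpecialLinearGroup (Fin 2) F)) ∨
        (∃ n : ℕ, 1 ≤ n ∧ Nonempty (↥(K : Subgroup X) ⧸ pCore 2 ↥(K : Subgroup X) ≃* alternatingGroup (Fin (2 ^ n + 1)))))},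
          (K : Subgroup X)) = ⊤ ∧
    (charCore (T : Subgroup X) ≠ ⊤ →
      ∃ K : Subgroup X, IsNearComponentOf K ∧ ((∃ (F : Type) (_ : Field F) (_ : Fintype F) (n : ℕ), 2 ≤ n ∧ Fintype.card F = 2 ^ n ∧
          Nonempty (↥K ⧸ pCore 2 ↥K ≃* Matrix.ProjectiveSpecialLinearGroup (Fin 2) F)) ∨
        (∃ n : ℕ, 1 ≤ n ∧ Nonempty (↥K ⧸ pCore 2 ↥K ≃* alternatingGroup (Fin (2 ^ n + 1)))))) := by
  haveI : Fact (Nat.Prime 2) := ⟨Nat.prime_two⟩
  by_cases hT : (T : Subgroup X) = ⊥
  · have hP : pCore 2 X = ⊥ := le_bot_iff.1 (hT ▸ CfsgLib.Cores.pCore_le_sylow T)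
    have h1 : (⊤ : Subgroup X) ≤ ⊥ := by
      intro x _
      have := hX (show x ∈ centralizer (pCore 2 X : Set X) by
        rw [hP, coe_bot, mem_centralizer_iff]
        rintro _ rfl
        rw [one_mul, mul_one])
      rwa [hP] at this
    have hsub : ∀ H : Subgroup X, H = ⊤ := fun H => top_le_iff.1 (h1.trans bot_le)
    exact ⟨hsub _, fun h => absurd (hsub _) h⟩
  have h := near_components_generate T hblocks hT
  refine ⟨h, fun hne => ?_⟩
  by_contra hno
  refine hne (top_le_iff.1 (h.ge.trans (sup_le le_rfl (iSup_le fun K => ?_))))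
  exact absurd ⟨K.1, K.2⟩ hno

end Main

end CfsgLib.LocalEven.CStar
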