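import Cfsg.Agent.Lib.LocalEven.PushMin.Case2Data

/-!
In the pushing-up situation an elementary abelian subgroup covering the Sylow subgroup modulo the core
centralises what the residual centralises in the core, and every element of the core centralised modulo
the module by the residual is centralised by it up to the module.
-/

set_option autoImplicit false

namespace CfsgLib.LocalEven.CStar

open Cfsg Subgroup
open CfsgLib.LocalEven.RankOne
open CfsgLib.LocalEven.PushUp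
open CfsgLib.Fusion (conjSub)
open scoped commutatorElement

variable {G : Type*} [Group G] [Finite G] {p n : ℕ} [hp : Fact p.Prime] {K : Subgroup G} [K.Normal]

/-- Critical length two: the module of the far neighbour meets the middle one in the near module. -/
structure FarData (n : ℕ) (P : Sylow p G) (W A H U : Subgroup G) : Prop extends Core2 n P W A H where
  U_le : U ≤ W
  U_fix : ∀ u ∈ U, u ∈ H → u ∈ vS P
  far_decomp : ∀ g ∈ pCore p G, ∃ u ∈ U, ∃ v ∈ vS P, ∃ r : G, (∀ a ∈ A, a * r = r * a) ∧ g = u * v * r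

/-- What is used of both configurations. -/
structure Covering (P : Sylow p G) (A : Subgroup G) : Prop where
  A_le : A ≤ (P : Subgroup G)
  cover : (P : Subgroup G) ≤ A ⊔ pCore p G
  A_pow : ∀ a ∈ A, a ^ p = 1
  A_comm : ∀ a ∈ A, ∀ a' ∈ A, a * a' = a' * a
  out : ∃ a ∈ A, a ∉ pCore p G
  split : ∀ g ∈ pCore p G, (∀ c ∈ cop p G, ⁅c, g⁆ ∈ vS P) →
    ∃ v ∈ vS P, ∀ a ∈ A, a * (v⁻¹ * g) = v⁻¹ * g * a

theorem covering_of_case1 {P : Sylow p G} {A B : Subgroup G} (c : Case1 P A B) (m : MemHyp n P K) :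
    Covering P A :=
  ⟨c.A_le, c.cover, c.A_pow, c.A_comm, c.exists_out m.hyp, fun g hg _ => by
    obtain ⟨v, hv, b, hb, rfl⟩ := c.core_eq hg
    exact ⟨v, hv, fun a ha => by rw [inv_mul_cancel_left]; exact c.AB a ha b hb⟩⟩

theorem covering_of_far {P : Sylow p G} {W A H U : Subgroup G} [W.Normal] (c : FarData n P W A H U)
    (m : MemHyp n P K) (F : Type) [Field F] [Fintype F] (hF : Fintype.card F = p ^ n) : Covering P A := by
  have s : SecondFacts F n P m.hyp W H := c.toCore2.second m hF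
  obtain ⟨a₀, ha₀, ha₀Q⟩ := c.toCore2.exists_out m.hyp
  refine ⟨c.A_le, c.cover, c.A_pow, c.A_comm, ⟨a₀, ha₀, ha₀Q⟩, fun g hg hfix => ?_⟩
  obtain ⟨u, hu, v, hv, r, hr, rfl⟩ := c.far_decomp g hg
  have huW := c.U_le hu
  have h1 : ∀ e ∈ cop p G, ⁅e, ⁅a₀, u * v * r⁆⁆ ∈ vS P := by
    intro e he
    set π := QuotientGroup.mk' (vS P) with hπ
    have hk : ∀ x ∈ cop p G, π x * π (u * v * r) = π (u * v * r) * π x := fun x hx => by
      rw [← commutatorElement_eq_one_iff_mul_comm, ← map_commutatorElement]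
      exact (QuotientGroup.eq_one_iff _).2 (hfix x hx)
    have h2 := hk (a₀⁻¹ * e * a₀) (by simpa using (cop_normal p G).conj_mem e he a₀⁻¹)
    have h3 := hk e he
    rw [map_mul π (a₀⁻¹ * e) a₀, map_mul π a₀⁻¹ e, map_inv] at h2
    refine (QuotientGroup.eq_one_iff _).1 ?_
    show π ⁅e, ⁅a₀, u * v * r⁆⁆ = 1
    rw [map_commutatorElement, map_commutatorElement, commutatorElement_eq_one_iff_mul_comm]
    set E := π e
    set X := π a₀
    set Y := π (u * v * r)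
    have h4 : E * (X * Y * X⁻¹) = X * Y * X⁻¹ * E := by
      calc E * (X * Y * X⁻¹) = X * (X⁻¹ * E * X * Y) * X⁻¹ := by group
        _ = X * (Y * (X⁻¹ * E * X)) * X⁻¹ := by rw [h2]
        _ = _ := by group
    have h5 : E * Y⁻¹ = Y⁻¹ * E := (show Commute E Y from h3).inv_right
    rw [commutatorElement_def, ← mul_assoc, h4, mul_assoc, h5, ← mul_assoc]
  have h6 : ⁅a₀, u * v * r⁆ = ⁅a₀, u⁆ * (u * ⁅a₀, v⁆ * u⁻¹) := by
    rw [show ⁅a₀, u * v * r⁆ = ⁅a₀, u⁆ * (u * ⁅a₀, v⁆ * u⁻¹) * ((u * v) * ⁅a₀, r⁆ * (u * v)⁻¹) by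
      simp only [commutatorElement_def]; group, commutatorElement_eq_one_iff_mul_comm.2 (hr a₀ ha₀)]
    simp
  have h7 : u * ⁅a₀, v⁆ * u⁻¹ ∈ vS P := (vS_normal P).conj_mem _
    (commutator_le_right ⊤ (vS P) (commutator_mem_commutator (mem_top a₀) hv)) u
  have h8 : ⁅a₀, u⁆ ∈ xSub p P W := by
    refine ⟨commutator_le_right ⊤ W (commutator_mem_commutator (mem_top a₀) huW), fun e he => ?_⟩
    have h9 := h1 e he
    rw [h6] at h9
    have h10 : ⁅e, u * ⁅a₀, v⁆ * u⁻¹⁆ ∈ vS P :=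
      commutator_le_right ⊤ (vS P) (commutator_mem_commutator (mem_top e) h7)
    rw [show ⁅e, ⁅a₀, u⁆ * (u * ⁅a₀, v⁆ * u⁻¹)⁆ =
      ⁅e, ⁅a₀, u⁆⁆ * (⁅a₀, u⁆ * ⁅e, u * ⁅a₀, v⁆ * u⁻¹⁆ * ⁅a₀, u⁆⁻¹) by
        simp only [commutatorElement_def]; group] at h9
    exact (Subgroup.mul_mem_cancel_right _ ((vS_normal P).conj_mem _ h10 _)).1 h9
  have huV : u ∈ vS P := c.U_fix u hu (s.fix_eq ▸ s.sec.mem_fix a₀ (c.A_le ha₀) ha₀Q u huW h8)
  exact ⟨u * v, mul_mem huV hv, fun a ha => by rw [inv_mul_cancel_left]; exact hr a ha⟩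

/-- What the residual centralises in the core, the covering subgroup centralises. -/
theorem Covering.fixed {P : Sylow p G} {A : Subgroup G} (c : Covering P A) (m : MemHyp n P K) (F : Type)
    [Field F] [Fintype F] (hF : Fintype.card F = p ^ n) {g : G} (hg : g ∈ pCore p G)
    (hfix : ∀ e ∈ cop p G, e * g = g * e) : ∀ a ∈ A, a * g = g * a := by
  have f := m.facts F hF
  haveI : (vS P ⊓ center G).Normal := normal_of_le_center inf_le_right
  obtain ⟨v, hv, hvb⟩ := c.split g hg fun e he => by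
    rw [commutatorElement_eq_one_iff_mul_comm.2 (hfix e he)]; exact one_mem _
  have hcomm : ∀ a ∈ A, ⁅a, g⁆ = ⁅a, v⁆ := fun a ha => by
    conv_lhs => rw [show g = v * (v⁻¹ * g) from (mul_inv_cancel_left v g).symm]
    rw [show ⁅a, v * (v⁻¹ * g)⁆ = ⁅a, v⁆ * (v * ⁅a, v⁻¹ * g⁆ * v⁻¹) by simp only [commutatorElement_def]; group,
      commutatorElement_eq_one_iff_mul_comm.2 (hvb a ha)]
    simp
  obtain ⟨a₀, ha₀, ha₀Q⟩ := c.out
  have h1 : ⁅a₀, v⁆ ∈ zS P := f.comm_mem a₀ (c.A_le ha₀) v hv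
  have h2 : ⁅a₀, v⁆ ∈ vS P ⊓ center G := by
    refine ⟨zS_le_vS P h1, mem_center_iff.2 fun x => ?_⟩
    have hle : cop p G ⊔ (P : Subgroup G) ≤ centralizer ({⁅a₀, v⁆} : Set G) := by
      refine sup_le (fun e he => mem_centralizer_singleton_iff.2 ?_)
        (fun s hs => mem_centralizer_singleton_iff.2 (mem_centralizer_iff.1 h1.2 s hs))
      rw [← hcomm a₀ ha₀]
      have he' : a₀⁻¹ * e * a₀ ∈ cop p G := by simpa using (cop_normal p G).conj_mem e he a₀⁻¹
      have k1 : Commute e g := hfix e he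
      have k2 : Commute (a₀⁻¹ * e * a₀) g := hfix _ he'
      have k3 : Commute e (a₀ * g * a₀⁻¹) := by
        calc e * (a₀ * g * a₀⁻¹) = a₀ * (a₀⁻¹ * e * a₀ * g) * a₀⁻¹ := by group
          _ = a₀ * (g * (a₀⁻¹ * e * a₀)) * a₀⁻¹ := by rw [k2.eq]
          _ = _ := by group
      rw [commutatorElement_def]
      exact (k3.mul_right k1.inv_right).eq
    exact mem_centralizer_singleton_iff.1 (hle ((cop_sup m.hyp).symm ▸ mem_top x))
  have hvz : v ∈ zS P := f.fix_eq ▸ f.sec.mem_fix a₀ (c.A_le ha₀) ha₀Q v hv h2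
  intro a ha
  refine commutatorElement_eq_one_iff_mul_comm.1 ?_
  rw [hcomm a ha, commutatorElement_eq_one_iff_mul_comm]
  exact mem_centralizer_iff.1 hvz.2 a (c.A_le ha)

variable {𝕏 : Type*} [Group 𝕏] {ν : Type*} {Γ : Amal 𝕏 ν p (p ^ n)}

/-- One of the configurations gives a covering subgroup. -/
theorem covering_of_amal {S : Sylow p G} (hbad : Γ.Bad)
    (hemb : ∀ v, ∃ ι : G →* 𝕏, Emb p S ι (Γ.grp v) (Γ.core v) (Γ.md v) Γ.edges)
    (hm : ∀ P : Sylow p G, MemHyp n P K) (F : Type) [Field F] [Fintype F] (hF : Fintype.card F = p ^ n) :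
    ∃ (P : Sylow p G) (A : Subgroup G), Covering P A := by
  obtain ⟨g⟩ := Γ.exists_geo hbad 2
  by_cases hb : Γ.b = 2
  swap
  · have hb1 : Γ.b = 1 := by have := Γ.b_le_two hbad; have := Γ.b_pos hbad; omega
    have hle : 0 + Γ.b ≤ 2 + Γ.b := by omega
    have hc := g.crit 0 (by omega)
    have e1 := Γ.first_eq g.toPath (by omega) hle hc
    have e2 := Γ.last_eq g.toPath (by omega) hle hc
    rw [show 0 + Γ.b = 1 by omega] at e1 e2
    rw [show 1 - 1 = 0 from rfl] at e2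
    obtain ⟨ι, em⟩ := hemb (g.w 0)
    have hP0 := g.left 0 (by omega)
    have hP1 : g.e 0 ≤ Γ.grp (g.w 1) := g.right 0 (by omega)
    obtain ⟨P, hP⟩ := em.edge _ (g.mem 0 (by omega)) hP0
    have hinj := em.inj
    have hA : Γ.md (g.w 1) ≤ g.e 0 := e1 ▸ le_sup_left
    have hQ : ∀ a, a ∈ pCore p G ↔ ι a ∈ Γ.core (g.w 0) := fun a => by rw [em.core, mem_map_iff_mem hinj]
    have hcover : (P : Subgroup G) ≤ (Γ.md (g.w 1)).comap ι ⊔ pCore p G := by
      intro a ha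
      have h1 : ι a ∈ Γ.md (g.w 1) ⊔ Γ.core (g.w 0) := e1 ▸ hP ▸ ⟨a, ha, rfl⟩
      obtain ⟨b, hb', c, hc, e⟩ := Γ.exists_mul (hA.trans hP0) h1
      obtain ⟨b', rfl⟩ : b ∈ ι.range := em.grp ▸ hP0 (hA hb')
      have h2 : b'⁻¹ * a ∈ pCore p G := (hQ _).2 (by rwa [map_mul, map_inv, e, inv_mul_cancel_left])
      have := mul_mem (mem_sup_left (T := pCore p G) (show b' ∈ (Γ.md (g.w 1)).comap ι from hb'))
        (mem_sup_right (S := (Γ.md (g.w 1)).comap ι) h2)
      rwa [mul_inv_cancel_left] at this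
    refine ⟨P, (Γ.md (g.w 1)).comap ι, fun a ha => (mem_map_iff_mem hinj).1 (hP ▸ hA ha), hcover,
      fun a ha => hinj (by rw [map_pow, map_one]; exact Γ.md_pow _ _ ha),
      fun a ha a' ha' => hinj (by rw [map_mul, map_mul]; exact Γ.md_comm _ _ (Γ.md_le _ ha) _ ha'), ?_,
      fun a ha _ => ?_⟩
    · by_contra hall
      push Not at hall
      exact not_le_pCore (hm P).hyp ((hcover.trans (sup_le hall le_rfl)).trans (hm P).hyp.pCore_le)
    · have h1 : ι a ∈ Γ.md (g.w 0) ⊔ Γ.core (g.w 1) :=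
        e2 ▸ Γ.core_le _ _ (g.mem 0 (by omega)) hP0 ((hQ a).1 ha)
      obtain ⟨v, hv, c, hc, e⟩ := Γ.exists_mul ((e2 ▸ le_sup_left : Γ.md (g.w 0) ≤ g.e 0).trans hP1) h1
      rw [em.md] at hv
      obtain ⟨v', hv', rfl⟩ := hv
      refine ⟨v', by rw [vS_conj S P]; exact hv', fun x hx => hinj ?_⟩
      simp only [map_mul, map_inv, e, inv_mul_cancel_left]
      exact (Γ.md_comm _ _ hc _ hx).symm
  have W0 := g.win hb (i := 0) (by omega)
  have W1 := g.win hb (i := 1) (by omega)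
  have t0 : ctr (g.e 0) ≠ ctr (g.e 1) := g.turn 0 (by omega)
  have hx : Corner Γ (g.w 0) (g.w 1) (g.w 2) (g.w 3) (g.e 0) (g.e 1) (g.e 2) := ⟨hb, W0, W1, t0⟩
  obtain ⟨ι, em⟩ := hemb (g.w 1)
  obtain ⟨P', hP', hWn, c⟩ := hx.core2 em hm
  have hinj := em.inj
  have hQ : ∀ k, k ∈ pCore p G ↔ ι k ∈ Γ.core (g.w 1) := fun k => by rw [em.core, mem_map_iff_mem hinj]
  have hV : ∀ k, k ∈ vS P' ↔ ι k ∈ Γ.md (g.w 1) := fun k => by
    rw [em.md, mem_map_iff_mem hinj, vS_conj S P']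
  have hWr : wMod Γ (g.w 1) (g.w 0) (g.w 2) ≤ ι.range := em.grp ▸ hx.mod_le.trans hx.grp_le
  obtain ⟨hu0, hy0, hx0⟩ := hx.md_le_mod
  haveI := hWn
  refine ⟨P', _, covering_of_far (U := (Γ.md (g.w 0)).comap ι)
    { toCore2 := c, U_le := fun k hk => hu0 hk, U_fix := ?_, far_decomp := ?_ } (hm P') F hF⟩
  · intro k hk hkH
    obtain ⟨s, hs, hsu⟩ := SetLike.not_le_iff_exists.1 hx.fst.out
    refine (hV k).2 (Γ.ctr_le _ _ hx.fst.mem hx.fst.mid
      (Γ.fix_le _ _ hx.fst.mem hx.fst.left s (hx.fst.eq ▸ mem_sup_left hs) hsu _ hk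
        (Γ.md_comm _ _ hkH.2 s hs).symm))
  · intro k hk
    obtain ⟨a, ha, b, hb', v, hv, r, hr, e⟩ := PushMin.corner_decomp hx ((hQ k).1 hk)
    obtain ⟨a', rfl⟩ := hWr (hu0 ha)
    obtain ⟨b', rfl⟩ := hWr (hy0 hb')
    obtain ⟨v', rfl⟩ := hWr (hx0 hv)
    obtain ⟨r', rfl⟩ : r ∈ ι.range := (em.grp ▸ fun t ht => hx.grp_le ht.1.1.2 :
      fourCore Γ (g.w 0) (g.w 1) (g.w 2) (g.w 3) ≤ ι.range) hr
    refine ⟨a', ha, v', (hV v').2 hv, b' * r', fun x hx' => hinj ?_, hinj ?_⟩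
    · simp only [map_mul]
      have k1 : Commute (ι x) (ι b') :=
        (Γ.md_comm _ _ (hx.md_le_of_adj (Γ.adj_symm hx.near.2.2) hb') _ hx').symm
      have k2 : Commute (ι x) (ι r') := (Γ.md_comm _ _ hr.2 _ hx').symm
      exact (k1.mul_right k2).eq
    · rw [e]
      simp only [map_mul]
      have k : Commute (ι b') (ι v') :=
        Γ.md_comm _ _ (hx.md_le_of_adj hx.near.2.1 hb') _ hv
      rw [mul_assoc (ι a') (ι b'), k.eq]
      group

/-- A covering subgroup exists. -/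
theorem exists_covering {S : Sylow p G} (h : Hyp n S K) (hT : TorusComm p (G ⧸ K)) (hd : NoChar S) (F : Type)
    [Field F] [Fintype F] (hF : Fintype.card F = p ^ n) :
    ∃ (P : Sylow p G) (A : Subgroup G), Covering P A ∧ MemHyp n P K := by
  classical
  let τ : Unit → (↥(S : Subgroup G) →* G) := fun _ => (S : Subgroup G).subtype
  have M : Members (G := fun _ : Unit => G) τ n (fun _ => S) (fun _ => K) :=
    ⟨fun _ => Subtype.coe_injective, fun _ => (Subgroup.range_subtype _).symm, fun _ P => memHyp_all h hT hd P,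
      fun _ => hd⟩
  let Γ := amalOf M F hF
  have hbad : Γ.Bad := amalOf_bad M F hF
  have hm : ∀ P : Sylow p G, MemHyp n P K := fun P => memHyp_all h hT hd P
  have hemb : ∀ v : Vtx τ, ∃ ι : G →* Over τ, Emb p S ι (Γ.grp v) (Γ.core v) (Γ.md v) Γ.edges := fun v => by
    obtain ⟨g, hg⟩ := vertex_rep v
    rw [hg]
    exact ⟨vHom v.1 g, emb_vertex M v.1 g⟩
  obtain ⟨P, A, hP⟩ := covering_of_amal hbad hemb hm F hF
  exact ⟨P, A, hP, hm P⟩

end CfsgLib.LocalEven.CStar
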