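import Mathlib
import Cfsg.Agent.Lib.Fusion.Basic

/-!
A conjugation-invariant class of groups of the size of their point: distinct members have disjoint points,
two noncommuting members span a line.
-/

set_option autoImplicit false
set_option linter.unusedSectionVars false

namespace CfsgLib.LocalEven.CStar

open CfsgLib.Fusion (conjSub mem_conjSub conj_mem_conjSub conjSub_conjSub conjSub_one card_conjSub)

variable {Γ : Type*} [Group Γ] {M : Type*} [AddCommGroup M] [DistribMulAction Γ M]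

/-- Elementwise commuting. -/
def Comm (D R : Subgroup Γ) : Prop := ∀ a ∈ D, ∀ b ∈ R, a * b = b * a

theorem Comm.symm {D R : Subgroup Γ} (h : Comm D R) : Comm R D := fun a ha b hb => (h b hb a ha).symm

theorem Comm.conj {D R : Subgroup Γ} (h : Comm D R) (g : Γ) : Comm (conjSub g D) (conjSub g R) := by
  rintro _ ⟨a, ha, rfl⟩ _ ⟨b, hb, rfl⟩
  rw [← map_mul, ← map_mul, h a ha b hb]

/-- A root class. -/
structure RootClass (A : Set (Subgroup Γ)) (P : Subgroup Γ → AddSubgroup M) (q : ℕ) : Prop where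
  two : 1 < q
  conj : ∀ D ∈ A, ∀ g : Γ, conjSub g D ∈ A
  equiv : ∀ D ∈ A, ∀ (g : Γ) (v : M), v ∈ P (conjSub g D) ↔ g⁻¹ • v ∈ P D
  faithful : ∀ g : Γ, (∀ v : M, g • v = v) → g = 1
  cardD : ∀ D ∈ A, Nat.card ↥D = q
  cardP : ∀ D ∈ A, Nat.card ↥(P D) = q
  quad : ∀ D ∈ A, ∀ d ∈ D, ∀ v : M, d • v - v ∈ P D
  fixP : ∀ D ∈ A, ∀ d ∈ D, ∀ v ∈ P D, d • v = v
  span : ∀ D ∈ A, P D ≤ AddSubgroup.closure {x : M | ∃ d ∈ D, ∃ v : M, x = d • v - v}
  indep2 : ∀ D ∈ A, ∀ R ∈ A, D ≠ R → Comm D R → ∀ v, v ∈ P D → v ∈ P R → v = 0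
  indep3 : ∀ D ∈ A, ∀ R ∈ A, ∀ R' ∈ A, D ≠ R → D ≠ R' → Comm D R → Comm D R' → Comm R R' →
    ∀ v, v ∈ P D → v ∈ P R ⊔ P R' → v = 0
  norm : ∀ D ∈ A, ∀ R ∈ A, ∀ r ∈ R, r ≠ 1 → conjSub r D = D → Comm D R

/-- The inequality of a family of subgroups of order `q` meeting pairwise in `I`. -/
theorem family_card {ι : Type*} [Finite ι] [Finite M] (F : ι → AddSubgroup M) (I S : AddSubgroup M) {q : ℕ}
    (hI : ∀ x, I ≤ F x) (hS : ∀ x, F x ≤ S) (hq : ∀ x, Nat.card ↥(F x) = q)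
    (hIS : I ≤ S) (hdis : ∀ x y, x ≠ y → ∀ v, v ∈ F x → v ∈ F y → v ∈ I) :
    Nat.card ι * (q - Nat.card ↥I) ≤ Nat.card ↥S - Nat.card ↥I ∧
      (Nat.card ↥S - Nat.card ↥I ≤ Nat.card ι * (q - Nat.card ↥I) → ∀ v ∈ S, v ∉ I → ∃ x, v ∈ F x) := by
  classical
  haveI : Fintype M := Fintype.ofFinite M
  haveI : Fintype ι := Fintype.ofFinite ι
  let cel : AddSubgroup M → Finset M := fun K => Finset.univ.filter fun v => v ∈ K ∧ v ∉ I
  have hcard : ∀ K : AddSubgroup M, I ≤ K → (cel K).card = Nat.card ↥K - Nat.card ↥I := fun K hK => by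
    have h1 : cel K = (K : Set M).toFinset \ (I : Set M).toFinset := by
      ext v; simp [cel]
    rw [h1, Finset.card_sdiff, Finset.inter_eq_left.2 (by simpa using hK), Set.toFinset_card, Set.toFinset_card,
      Nat.card_eq_fintype_card, Nat.card_eq_fintype_card]
    rfl
  have hsub : Finset.univ.biUnion (fun x => cel (F x)) ⊆ cel S := by
    intro v hv
    simp only [Finset.mem_biUnion, Finset.mem_univ, true_and, cel, Finset.mem_filter] at hv ⊢
    obtain ⟨x, hx, hxI⟩ := hv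
    exact ⟨hS x hx, hxI⟩
  have hU : (Finset.univ.biUnion (fun x => cel (F x))).card = Nat.card ι * (q - Nat.card ↥I) := by
    rw [Finset.card_biUnion, Finset.sum_congr rfl fun x _ => (hcard _ (hI x)).trans (by rw [hq x]),
      Finset.sum_const, Finset.card_univ, smul_eq_mul, Nat.card_eq_fintype_card, Nat.card_eq_fintype_card (α := ι)]
    intro x _ y _ hxy
    refine Finset.disjoint_left.2 fun v hv hv' => ?_
    simp only [cel, Finset.mem_filter] at hv hv'
    exact hv.2.2 (hdis x y hxy v hv.2.1 hv'.2.1)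
  have hle := Finset.card_le_card hsub
  rw [hU, hcard S hIS] at hle
  refine ⟨hle, fun h v hv hvI => ?_⟩
  have heq := Finset.eq_of_subset_of_card_le hsub (by rw [hU, hcard S hIS]; exact h)
  have hmem : v ∈ cel S := by simp [cel, hv, hvI]
  rw [← heq] at hmem
  simp only [Finset.mem_biUnion, Finset.mem_univ, true_and, cel, Finset.mem_filter] at hmem
  obtain ⟨x, hx, -⟩ := hmem
  exact ⟨x, hx⟩

end CfsgLib.LocalEven.CStar
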