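import Cfsg.Agent.Lib.LocalEven.BlockBaumann.SemiLin

/-!
An abelian group of semilinear maps of a plane that is an offender consists of transvections with one axis.
-/

set_option autoImplicit false

namespace CfsgLib.LocalEven.CStar

open CfsgLib.LocalEven.BlockBaumann.SemiLin


variable {K : Type} [Field K] [Fintype K]

omit [Fintype K] in
/-- A map respecting the form that fixes a vector is a transvection. -/
theorem transvection_of_dt {χ : (Fin 2 → K) →+ (Fin 2 → K)} (hs : Function.Surjective χ)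
    (hd : ∀ u w, dt (χ u) (χ w) = dt u w) {v : Fin 2 → K} (hv : v ≠ 0) (hfix : χ v = v) :
    ∃ c : K, ∀ w, χ w = w + (c * dt v w) • v := by
  have hsm := map_smul_of_dt (D := 1) (σ := RingHom.id K) hs (by simpa using hd)
  obtain ⟨u, hu⟩ := exists_dt_ne hv
  have hd0 : dt v (χ u - u) = 0 := by
    have h1 := hd v u
    rw [hfix] at h1
    have : dt v (χ u - u) = dt v (χ u) - dt v u := by simp [dt]; ring
    rw [this, h1, sub_self]
  obtain ⟨x, hx⟩ := parallel hv hd0
  refine ⟨x / dt v u, fun w => ?_⟩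
  conv_lhs => rw [cramer hu w]
  rw [map_add, hsm, hsm, hfix, RingHom.id_apply, RingHom.id_apply, sub_eq_iff_eq_add'.1 hx, smul_add, smul_smul,
    ← add_assoc, ← cramer hu w]
  congr 2
  field_simp

omit [Fintype K] in
theorem smul_right_cancel_of_ne {v : Fin 2 → K} (hv : v ≠ 0) {x y : K} (h : x • v = y • v) : x = y := by
  by_contra hne
  have : (x - y) • v = 0 := by rw [sub_smul, h, sub_self]
  exact hv ((smul_eq_zero.1 this).resolve_left (sub_ne_zero.2 hne))

theorem card_fixField_sq {σ : K →+* K} {θ : K} (hθ : σ θ ≠ θ) :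
    Nat.card {x : K // σ x = x} * Nat.card {x : K // σ x = x} ≤ Fintype.card K := by
  rw [← Nat.card_prod]
  refine (Nat.card_le_card_of_injective
    (fun xy : {x : K // σ x = x} × {x : K // σ x = x} => (xy.1 : K) + θ * xy.2) ?_).trans
    (le_of_eq (Nat.card_eq_fintype_card))
  rintro ⟨⟨x, hx⟩, y, hy⟩ ⟨⟨x', hx'⟩, y', hy'⟩ h
  simp only at h
  have h2 := congrArg σ h
  rw [map_add, map_add, map_mul, map_mul, hx, hy, hx', hy'] at h2
  have h3 : (σ θ - θ) * (y - y') = 0 := by linear_combination h2 - h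
  have h4 : y = y' := sub_eq_zero.1 ((mul_eq_zero.1 h3).resolve_left (sub_ne_zero.2 hθ))
  subst h4
  exact Prod.ext (Subtype.ext (add_right_cancel h)) rfl

theorem card_ringEnd_lt : Nat.card (K →+* K) < Fintype.card K := by
  classical
  obtain ⟨g, hg⟩ := IsCyclic.exists_generator (α := Kˣ)
  refine lt_of_le_of_lt (Nat.card_le_card_of_injective (fun σ : K →+* K =>
    (⟨σ g, fun h => g.ne_zero ((map_eq_zero σ).1 h)⟩ : {x : K // x ≠ 0})) ?_) ?_
  · intro σ τ h
    have h' : σ g = τ g := congrArg Subtype.val h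
    ext x
    by_cases hx : x = 0
    · simp [hx]
    obtain ⟨k, hk⟩ := hg (Units.mk0 x hx)
    replace hk : g ^ k = Units.mk0 x hx := hk
    have e : x = (g : K) ^ k := by
      rw [← Units.val_zpow_eq_zpow_val, hk, Units.val_mk0]
    rw [e, map_zpow₀, map_zpow₀, h']
  · rw [Nat.card_eq_fintype_card]
    exact Fintype.card_subtype_lt (x := (0 : K)) (by simp)

/-- An offender of semilinear maps. -/
theorem line_of_offender {p : ℕ} [Fact p.Prime] {n : ℕ} (hn : Fintype.card K = p ^ n) {A : Type*} [Group A]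
    [Finite A] (hA : IsPGroup p A) (hc : ∀ a b : A, a * b = b * a) (χ : A → (Fin 2 → K) →+ (Fin 2 → K))
    (hmul : ∀ a b v, χ (a * b) v = χ a (χ b v)) (hone : ∀ v, χ 1 v = v)
    (hinj : ∀ a, (∀ v, χ a v = v) → a = 1)
    (hsemi : ∀ a, ∃ (D : K) (σ : K →+* K), ∀ u v, dt (χ a u) (χ a v) = D * σ (dt u v))
    (hne : ∃ a : A, a ≠ 1)
    (hoff : Fintype.card K ^ 2 ≤ Nat.card A * Nat.card {v : Fin 2 → K // ∀ a, χ a v = v}) :
    ∃ v : Fin 2 → K, v ≠ 0 ∧ (∀ a, ∃ c : K, ∀ w, χ a w = w + (c * dt v w) • v) ∧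
      (∀ c : K, ∃ a, ∀ w, χ a w = w + (c * dt v w) • v) ∧
      (∀ w, (∀ a, χ a w = w) ↔ ∃ x : K, w = x • v) := by
  classical
  have hp : p.Prime := Fact.out
  have hq1 : 1 < Fintype.card K := Fintype.one_lt_card
  have hn0 : n ≠ 0 := by rintro rfl; rw [pow_zero] at hn; omega
  have hsurj : ∀ a, Function.Surjective (χ a) := fun a v =>
    ⟨χ a⁻¹ v, by rw [← hmul, mul_inv_cancel, hone]⟩
  have hchiinj : ∀ a, Function.Injective (χ a) := fun a u w h => by
    have := congrArg (χ a⁻¹) h
    rwa [← hmul, ← hmul, inv_mul_cancel, hone, hone] at this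
  choose D σ hd using hsemi
  have hsm : ∀ a (x : K) v, χ a (x • v) = σ a x • χ a v := fun a => map_smul_of_dt (hsurj a) (hd a)
  -- a common fixed vector
  obtain ⟨v, hv, hvfix⟩ : ∃ v : Fin 2 → K, v ≠ 0 ∧ ∀ a, χ a v = v := by
    letI : MulAction A (Fin 2 → K) := { smul := fun a w => χ a w, one_smul := hone, mul_smul := hmul }
    have h0 : (0 : Fin 2 → K) ∈ MulAction.fixedPoints A (Fin 2 → K) := fun a => map_zero (χ a)
    obtain ⟨v, hv, hv0⟩ := hA.exists_fixed_point_of_prime_dvd_card_of_fixed_point (Fin 2 → K)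
      (by rw [Nat.card_eq_fintype_card, Fintype.card_fun, Fintype.card_fin, hn, ← pow_mul]
          exact dvd_pow_self p (by omega)) h0
    exact ⟨v, hv0.symm, hv⟩
  -- linear elements are transvections
  have hlin : ∀ a, (∀ x, σ a x = x) → ∃ c : K, ∀ w, χ a w = w + (c * dt v w) • v := by
    intro a ha
    obtain ⟨k, hk⟩ := hA a
    have hpow : ∀ (j : ℕ) (u w : Fin 2 → K), dt (χ (a ^ j) u) (χ (a ^ j) w) = D a ^ j * dt u w := by
      intro j
      induction j with
      | zero => intro u w; simp [hone]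
      | succ j ih => intro u w; rw [pow_succ, hmul, hmul, ih, hd, ha, pow_succ]; ring
    obtain ⟨w, hw⟩ := exists_dt_ne hv
    have h1 := hpow (p ^ k) v w
    rw [hk, hone, hone] at h1
    have h2 : D a ^ p ^ k = 1 := (mul_left_eq_self₀.1 h1.symm).resolve_right hw
    haveI : CharP K p := by
      obtain ⟨q, hq⟩ := CharP.exists K
      obtain ⟨l, hqp, hl⟩ := FiniteField.card K q
      have hdvd : q ∣ p ^ n := hn ▸ hl ▸ dvd_pow_self q l.pos.ne'
      exact ((Nat.prime_dvd_prime_iff_eq hqp hp).1 (hqp.dvd_of_dvd_pow hdvd)) ▸ hq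
    have hD : D a = 1 := by
      have h3 : (D a - 1) ^ p ^ k = 0 := by rw [sub_pow_char_pow (R := K) (p := p), h2, one_pow, sub_self]
      exact sub_eq_zero.1 (pow_eq_zero_iff (pow_ne_zero k hp.ne_zero) |>.1 h3)
    exact transvection_of_dt (hsurj a) (fun u w => by rw [hd, hD, ha, one_mul]) hv (hvfix a)
  -- the parameters
  have huniq : ∀ {c c' : K}, (∀ w, w + (c * dt v w) • v = w + (c' * dt v w) • v) → c = c' := fun h => by
    obtain ⟨w, hw⟩ := exists_dt_ne hv
    exact mul_right_cancel₀ hw (smul_right_cancel_of_ne hv (add_left_cancel (h w)))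
  set Fx := {w : Fin 2 → K // ∀ a, χ a w = w} with hFx
  have hline : ∀ a, a ≠ 1 → (∀ x, σ a x = x) → ∀ w, χ a w = w → ∃ x : K, w = x • v := by
    intro a ha hl w hw
    obtain ⟨c, hc'⟩ := hlin a hl
    have hc0 : c ≠ 0 := fun h => ha (hinj a fun u => by rw [hc', h, zero_mul, zero_smul, add_zero])
    rw [hc', add_eq_left, smul_eq_zero] at hw
    exact parallel hv ((mul_eq_zero.1 (hw.resolve_right hv)).resolve_left hc0)
  have key : ∀ a, ∀ x, σ a x = x := by
    by_contra hcon
    push Not at hcon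
    obtain ⟨a₀, θ, hθ⟩ := hcon
    let A₁ := {a : A // ∀ x, σ a x = x}
    have hfib : Nat.card A ≤ Nat.card A₁ * Nat.card (K →+* K) := by
      haveI : Finite (K →+* K) := Finite.of_injective (fun f => (f : K → K)) DFunLike.coe_injective
      have hchoose : ∀ τ : K →+* K, (∃ b, σ b = τ) → ∃ b, σ b = τ := fun _ h => h
      let rep : (K →+* K) → A := fun τ => if h : ∃ b, σ b = τ then h.choose else 1
      have hrep : ∀ a, σ (rep (σ a)) = σ a := fun a => by
        simp only [rep, dif_pos (⟨a, rfl⟩ : ∃ b, σ b = σ a)]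
        exact Exists.choose_spec (⟨a, rfl⟩ : ∃ b, σ b = σ a)
      have hA₁ : ∀ a, ∀ x, σ ((rep (σ a))⁻¹ * a) x = x := by
        intro a x
        have hb : ∀ y, χ (rep (σ a)) (χ ((rep (σ a))⁻¹ * a) y) = χ a y := fun y => by
          rw [← hmul, mul_inv_cancel_left]
        have h1 := hb (x • v)
        rw [hsm, hsm, hsm, hb v, hrep, hvfix] at h1
        exact (σ a).injective (smul_right_cancel_of_ne hv h1)
      rw [← Nat.card_prod]
      refine Nat.card_le_card_of_injective (fun a => (⟨(rep (σ a))⁻¹ * a, hA₁ a⟩, σ a) : A → A₁ × (K →+* K)) ?_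
      intro a b h
      obtain ⟨h1, h2⟩ := Prod.ext_iff.1 h
      have h1' : (rep (σ a))⁻¹ * a = (rep (σ b))⁻¹ * b := congrArg Subtype.val h1
      rw [show σ a = σ b from h2] at h1'
      exact mul_left_cancel h1'
    have hN := card_ringEnd_lt (K := K)
    by_cases htriv : ∀ a : A₁, a.1 = 1
    · have h1 : Nat.card A₁ ≤ 1 :=
        Finite.card_le_one_iff_subsingleton.2 ⟨fun a b => Subtype.ext ((htriv a).trans (htriv b).symm)⟩
      have h2 : Nat.card Fx * Nat.card Fx ≤ Fintype.card K ^ 2 := by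
        refine le_trans (Nat.mul_le_mul ?_ ?_) (card_fixed_le (hsm a₀) hθ) <;>
          exact Nat.card_le_card_of_injective (fun w => ⟨w.1, w.2 a₀⟩)
            fun w w' h => Subtype.ext (congrArg (fun z => z.1) h)
      have h3 : Nat.card Fx ≤ Fintype.card K := by nlinarith
      nlinarith [Nat.mul_le_mul hfib h3, Nat.mul_le_mul_right (Nat.card (K →+* K)) h1]
    · push Not at htriv
      obtain ⟨⟨a₁, hl₁⟩, ha₁⟩ := htriv
      set F₀ := {x : K // σ a₀ x = x} with hF₀
      have hsq := card_fixField_sq hθ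
      have h1 : Nat.card Fx ≤ Nat.card F₀ := by
        have hx : ∀ w : Fx, ∃ x : K, w.1 = x • v := fun w => hline a₁ ha₁ hl₁ _ (w.2 a₁)
        choose x hx' using hx
        refine Nat.card_le_card_of_injective (fun w => ⟨x w, smul_right_cancel_of_ne hv ?_⟩) fun w w' h =>
          Subtype.ext (by rw [hx', hx' w', show x w = x w' from congrArg Subtype.val h])
        have := w.2 a₀
        rwa [hx', hsm, hvfix] at this
      have h2 : Nat.card A₁ ≤ Nat.card F₀ := by
        choose c hc' using fun a : A₁ => hlin a.1 a.2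
        obtain ⟨u, hu⟩ := exists_dt_ne hv
        -- the multiplier
        have hDσ : ∀ a : A₁, σ a₀ (c a) = D a₀ * c a := by
          intro a
          have h3 : χ a₀ (χ a.1 u) = χ a.1 (χ a₀ u) := by rw [← hmul, ← hmul, hc]
          rw [hc', hc', map_add, hsm, hvfix, add_right_inj] at h3
          have h4 := smul_right_cancel_of_ne hv h3
          have h5 := hd a₀ v u
          rw [hvfix] at h5
          rw [h5, map_mul] at h4
          have h6 : σ a₀ (dt v u) ≠ 0 := fun h => hu ((map_eq_zero _).1 h)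
          exact mul_right_cancel₀ h6 (h4.trans (by ring))
        let a₁' : A₁ := ⟨a₁, hl₁⟩
        have hc1 : c a₁' ≠ 0 := fun h => ha₁ (hinj a₁ fun w => by
          rw [show χ a₁ w = _ from hc' a₁' w, h, zero_mul, zero_smul, add_zero])
        refine Nat.card_le_card_of_injective (fun a => ⟨c a / c a₁', ?_⟩) fun a b h => ?_
        · have hD0 : D a₀ ≠ 0 := fun h => hc1 ((map_eq_zero (σ a₀)).1 (by rw [hDσ, h, zero_mul]))
          rw [map_div₀, hDσ, hDσ, mul_div_mul_left _ _ hD0]
        · have h' : c a = c b := mul_right_cancel₀ (inv_ne_zero hc1)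
            (by simpa [div_eq_mul_inv] using congrArg Subtype.val h)
          refine Subtype.ext (inv_mul_eq_one.1 (hinj _ fun w => ?_)).symm
          rw [hmul, show χ a.1 w = χ b.1 w by rw [hc', hc', h'], ← hmul, inv_mul_cancel, hone]
      have h4 : Nat.card A * Nat.card Fx ≤ Nat.card (K →+* K) * (Nat.card F₀ * Nat.card F₀) := by
        calc Nat.card A * Nat.card Fx ≤ (Nat.card A₁ * Nat.card (K →+* K)) * Nat.card Fx :=
              Nat.mul_le_mul_right _ hfib
          _ ≤ (Nat.card F₀ * Nat.card (K →+* K)) * Nat.card F₀ := Nat.mul_le_mul (Nat.mul_le_mul_right _ h2) h1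
          _ = _ := by ring
      nlinarith
  choose c hc' using fun a => hlin a (key a)
  have hcinj : Function.Injective c := fun a b h => by
    refine (inv_mul_eq_one.1 (hinj (a⁻¹ * b) fun w => ?_))
    rw [hmul, show χ b w = χ a w by rw [hc', hc', h], ← hmul, inv_mul_cancel, hone]
  have hfixline : ∀ w, (∀ a, χ a w = w) ↔ ∃ x : K, w = x • v := by
    intro w
    obtain ⟨a, ha⟩ := hne
    refine ⟨fun h => hline a ha (key a) w (h a), ?_⟩
    rintro ⟨x, rfl⟩ b
    rw [hsm, key, hvfix]
  have hFq : Nat.card Fx ≤ Fintype.card K := by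
    choose x hx using fun w : Fx => (hfixline w.1).1 w.2
    rw [← Nat.card_eq_fintype_card]
    exact Nat.card_le_card_of_injective x fun w w' h => Subtype.ext (by rw [hx, hx w', h])
  refine ⟨v, hv, fun a => ⟨c a, hc' a⟩, fun t => ?_, hfixline⟩
  have hAq : Fintype.card K ≤ Nat.card A := by nlinarith [Nat.mul_le_mul_left (Nat.card A) hFq]
  haveI := Fintype.ofFinite A
  have hbij : Function.Bijective c := (Fintype.bijective_iff_injective_and_card c).2
    ⟨hcinj, le_antisymm (Fintype.card_le_of_injective c hcinj) (by rw [← Nat.card_eq_fintype_card (α := A)]; exact hAq)⟩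
  obtain ⟨a, rfl⟩ := hbij.2 t
  exact ⟨a, hc' a⟩

end CfsgLib.LocalEven.CStar
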