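import Cfsg.Agent.Lib.LocalEven.CStar.Members
import Cfsg.Agent.Lib.Transfer.SmallSylow

/-!
For a member `E` with solvable top an element of `T` moves `W_E` and centralises `W_F` for the other such members.
-/

set_option autoImplicit false

namespace CfsgLib.LocalEven.CStar

open Cfsg Subgroup
open CfsgLib.LocalEven CfsgLib.LocalEven.SubBlock
open scoped commutatorElement

variable {G : Type*} [Group G] [Finite G] {p : ℕ} [Fact p.Prime] {T : Sylow p G} {E : Subgroup G}

/-- A `p`-element normalising a nontrivial `p`-subgroup fixes a nontrivial element of it. -/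
theorem inf_centralizer_singleton_ne_bot {W : Subgroup G} (hW : IsPGroup p ↥W) (hne : W ≠ ⊥) {a : G}
    (ha : a ∈ normalizer (W : Set G)) (hap : ∃ k : ℕ, a ^ p ^ k = 1) : W ⊓ centralizer ({a} : Set G) ≠ ⊥ := by
  obtain ⟨k, hk⟩ := hap
  obtain ⟨j, -, hj⟩ := (Nat.dvd_prime_pow (Fact.out : p.Prime)).1 (orderOf_dvd_of_pow_eq_one hk)
  have h1 := CfsgLib.Transfer.card_modEq_inf_centralizer (q := p) W ha hj
  intro h
  rw [h, Subgroup.card_bot] at h1
  obtain ⟨n, hn⟩ := IsPGroup.iff_card.1 hW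
  have hn0 : n ≠ 0 := by
    rintro rfl
    exact hne (Subgroup.card_eq_one.1 (by rw [hn, pow_zero]))
  rw [hn, Nat.ModEq, Nat.mod_eq_zero_of_dvd (dvd_pow_self p hn0),
    Nat.mod_eq_of_lt (Fact.out : p.Prime).one_lt] at h1
  exact zero_ne_one h1

/-- An abelian `p`-group acting nontrivially on a group of order `p²`. -/
theorem abelian_on_plane {W A : Subgroup G} (hW : Nat.card ↥W = p ^ 2) (hA : IsPGroup p ↥A)
    (hAc : ∀ a ∈ A, ∀ b ∈ A, a * b = b * a) (hAW : A ≤ normalizer (W : Set G))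
    (hmove : ¬ A ≤ centralizer (W : Set G)) :
    Nat.card ↥A ≤ Nat.card ↥(A ⊓ centralizer (W : Set G)) * p ∧
      Nat.card ↥(W ⊓ centralizer (A : Set G)) ≤ p := by
  classical
  have hp := (Fact.out : p.Prime)
  have hWp : IsPGroup p ↥W := IsPGroup.of_card hW
  have hsmall : ∀ Y : Subgroup G, Y ≤ W → Y ≠ W → Nat.card ↥Y ≤ p := by
    intro Y hY hne
    obtain ⟨i, hi, hY'⟩ := (Nat.dvd_prime_pow hp).1 (hW ▸ card_dvd_of_le hY)
    rcases (by omega : i ≤ 1 ∨ i = 2) with h | h
    · rw [hY']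
      calc p ^ i ≤ p ^ 1 := Nat.pow_le_pow_right hp.pos h
        _ = p := pow_one p
    · exact absurd (eq_of_le_of_card_ge hY (by rw [hW, hY', h])) hne
  refine ⟨?_, hsmall _ inf_le_left fun h => hmove fun a ha => mem_centralizer_iff.2 fun w hw =>
    (mem_centralizer_iff.1 (h.ge hw).2 a ha).symm⟩
  obtain ⟨a₀, ha₀, ha₀W⟩ := Set.not_subset.1 hmove
  set Y := W ⊓ centralizer ({a₀} : Set G) with hY
  have hWne : W ≠ ⊥ := fun h => by
    rw [h, Subgroup.card_bot] at hW
    exact (Nat.one_lt_pow two_ne_zero hp.one_lt).ne hW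
  have hpow : ∀ a ∈ A, ∃ k : ℕ, a ^ p ^ k = 1 := fun a ha => by
    obtain ⟨k, hk⟩ := hA ⟨a, ha⟩
    exact ⟨k, congrArg Subtype.val hk⟩
  have hYne : Y ≠ ⊥ := inf_centralizer_singleton_ne_bot hWp hWne (hAW ha₀) (hpow a₀ ha₀)
  have hYW : Y ≠ W := fun h => ha₀W (mem_centralizer_iff.2 fun w hw =>
    mem_centralizer_singleton_iff.1 (h.ge hw).2)
  have hYA : ∀ a ∈ A, Y ≤ centralizer ({a} : Set G) := by
    intro a ha
    have haY : a ∈ normalizer (Y : Set G) := CfsgLib.LocalEven.mem_normalizer_of_conj_le (by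
      rintro _ ⟨y, hy, rfl⟩
      refine ⟨(mem_normalizer_iff.1 (hAW ha) y).1 hy.1, mem_centralizer_singleton_iff.2 ?_⟩
      have h1 : y * a₀ = a₀ * y := mem_centralizer_singleton_iff.1 hy.2
      have h2 := hAc a ha a₀ ha₀
      show a * y * a⁻¹ * a₀ = a₀ * (a * y * a⁻¹)
      calc a * y * a⁻¹ * a₀ = a * y * (a₀ * a⁻¹) := by rw [mul_assoc, ← hAc a₀ ha₀ a⁻¹ (inv_mem ha)]
        _ = a * (y * a₀) * a⁻¹ := by group
        _ = (a * a₀) * y * a⁻¹ := by rw [h1]; group
        _ = a₀ * (a * y * a⁻¹) := by rw [h2]; group)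
    have h1 := inf_centralizer_singleton_ne_bot (hWp.to_le inf_le_left) hYne haY (hpow a ha)
    have h2 : 1 < Nat.card ↥(Y ⊓ centralizer ({a} : Set G)) := by
      rw [Finite.one_lt_card_iff_nontrivial, Subgroup.nontrivial_iff_ne_bot]; exact h1
    obtain ⟨i, hi, hY'⟩ := (Nat.dvd_prime_pow hp).1 (hW ▸ card_dvd_of_le (inf_le_left : Y ≤ W))
    have hYp : Nat.card ↥Y = p := by
      have h3 := hsmall Y inf_le_left hYW
      have h4 : Nat.card ↥(Y ⊓ centralizer ({a} : Set G)) ≤ Nat.card ↥Y := card_le_of_le inf_le_left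
      rcases i with _ | _ | i
      · rw [hY', pow_zero] at h4; omega
      · rw [hY', pow_one]
      · rw [hY'] at h3
        exact absurd h3 (not_le.2 (by
          calc p = p ^ 1 := (pow_one p).symm
            _ < p ^ (i + 2) := Nat.pow_lt_pow_right hp.one_lt (by omega)))
    rcases (Nat.dvd_prime hp).1 (hYp ▸ card_dvd_of_le (inf_le_left : Y ⊓ centralizer ({a} : Set G) ≤ Y)) with h | h
    · omega
    · exact inf_eq_left.1 (eq_of_le_of_card_ge inf_le_left (by rw [hYp, h]))
  obtain ⟨w₀, hw₀, hw₀Y⟩ := SetLike.exists_of_lt (lt_of_le_of_ne inf_le_left hYW : Y < W)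
  have hspan : W ≤ Y ⊔ zpowers w₀ := by
    have h1 : Y ⊔ zpowers w₀ ≤ W := sup_le inf_le_left (zpowers_le.2 hw₀)
    refine (eq_of_le_of_card_ge h1 ?_).ge
    by_contra hlt
    have h2 : Y ⊔ zpowers w₀ ≠ W := fun h => hlt (by rw [h])
    have h3 := hsmall _ h1 h2
    have h4 : 1 < Nat.card ↥Y := by
      rw [Finite.one_lt_card_iff_nontrivial, Subgroup.nontrivial_iff_ne_bot]; exact hYne
    obtain ⟨i, -, hY'⟩ := (Nat.dvd_prime_pow hp).1 (hW ▸ card_dvd_of_le (inf_le_left : Y ≤ W))
    have h5 : p ≤ Nat.card ↥Y := by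
      rw [hY'] at h4 ⊢
      exact Nat.le_self_pow (fun h => by rw [h, pow_zero] at h4; omega) p
    exact hw₀Y ((eq_of_le_of_card_ge (le_sup_left : Y ≤ Y ⊔ zpowers w₀) (h3.trans h5)).ge
      (mem_sup_right (mem_zpowers w₀)))
  have hstab : ∀ a ∈ A, a * w₀ * a⁻¹ = w₀ → a ∈ centralizer (W : Set G) := fun a ha h => by
    have h1 : W ≤ centralizer ({a} : Set G) := hspan.trans (sup_le (hYA a ha) (zpowers_le.2
      (mem_centralizer_singleton_iff.2 (mul_inv_eq_iff_eq_mul.1 h).symm)))
    exact mem_centralizer_iff.2 fun w hw => mem_centralizer_singleton_iff.1 (h1 hw)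
  set C := (A ⊓ centralizer (W : Set G)).subgroupOf A with hC
  let f : ↥A ⧸ C → ↥W := fun q => Quotient.liftOn' q
    (fun a => ⟨(a : G) * w₀ * (a : G)⁻¹, (mem_normalizer_iff.1 (hAW a.2) w₀).1 hw₀⟩)
    (fun a b hab => by
      rw [QuotientGroup.leftRel_apply] at hab
      refine Subtype.ext ?_
      have h1 : w₀ * ((a⁻¹ * b : ↥A) : G) = ((a⁻¹ * b : ↥A) : G) * w₀ := mem_centralizer_iff.1 hab.2 w₀ hw₀
      simp only [Subgroup.coe_mul, InvMemClass.coe_inv] at h1
      show (a : G) * w₀ * (a : G)⁻¹ = (b : G) * w₀ * (b : G)⁻¹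
      calc (a : G) * w₀ * (a : G)⁻¹ = (a : G) * (w₀ * ((a : G)⁻¹ * b)) * (b : G)⁻¹ := by group
        _ = (b : G) * w₀ * (b : G)⁻¹ := by rw [h1]; group)
  have hf : Function.Injective f := by
    intro x y
    induction x using QuotientGroup.induction_on with
    | H a =>
      induction y using QuotientGroup.induction_on with
      | H b =>
        intro hab
        have h1 : (a : G) * w₀ * (a : G)⁻¹ = (b : G) * w₀ * (b : G)⁻¹ := congrArg Subtype.val hab
        rw [QuotientGroup.eq]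
        refine ⟨(a⁻¹ * b : ↥A).2, hstab _ (a⁻¹ * b : ↥A).2 ?_⟩
        calc ((a : G)⁻¹ * b) * w₀ * ((a : G)⁻¹ * b)⁻¹ = (a : G)⁻¹ * ((b : G) * w₀ * (b : G)⁻¹) * a := by group
          _ = w₀ := by rw [← h1]; group
  have hns : ¬ Function.Surjective f := fun h => by
    obtain ⟨q, hq⟩ := h 1
    induction q using QuotientGroup.induction_on with
    | H a =>
      have h1 : (a : G) * w₀ * (a : G)⁻¹ = 1 := congrArg Subtype.val hq
      exact hw₀Y (conj_eq_one_iff.1 h1 ▸ one_mem Y)
  have hcard : Nat.card (↥A ⧸ C) < p ^ 2 := hW ▸ lt_of_le_of_ne (Nat.card_le_card_of_injective f hf)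
    fun e => hns ((hf.bijective_of_nat_card_le e.ge).2)
  obtain ⟨m, hm⟩ := IsPGroup.iff_card.1 hA
  obtain ⟨j, -, hj⟩ := (Nat.dvd_prime_pow hp).1 (hm ▸ C.card_quotient_dvd_card)
  have hj1 : p ^ j ≤ p := by
    rw [hj] at hcard
    calc p ^ j ≤ p ^ 1 := Nat.pow_le_pow_right hp.pos
          (Nat.lt_succ_iff.1 ((Nat.pow_lt_pow_iff_right hp.one_lt).1 hcard))
      _ = p := pow_one p
  rw [Subgroup.card_eq_card_quotient_mul_card_subgroup C, Nat.card_congr (subgroupOfEquivOfLe inf_le_left).toEquiv,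
    mul_comm]
  exact Nat.mul_le_mul_left _ (hj ▸ hj1)

section
variable (hG : centralizer (pCore p G : Set G) ≤ pCore p G)
include hG

/-- An element of `T` moving `W_E` and centralising `W_F` for the other solvable members. -/
theorem exists_separating (hE : E ∈ members p (T : Subgroup G)) {s : G} (hs : Solv p E s) :
    ∃ a ∈ (T : Subgroup G), a ∈ normalizer (E : Set G) ∧ a ∉ centralizer (bWE p E : Set G) ∧
      ∀ F ∈ members p (T : Subgroup G), F ≠ E → (∃ t, Solv p F t) →
        a ∈ normalizer (F : Set G) ∧ a ∈ centralizer (bWE p F : Set G) := by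
  classical
  obtain ⟨A₀, hA₀, hA₀T⟩ := CfsgLib.Transfer.exists_maxEA_le_sylow T
  obtain ⟨A, hA, hAT, hAE⟩ : ∃ A ∈ maxElementaryAbelianSubgroups p G, A ≤ (T : Subgroup G) ∧
      ¬ A ≤ centralizer (bWE p E : Set G) := by
    by_contra hcon
    push Not at hcon
    refine (Block.block_position hG hE.1).2.2 (commutator_eq_bot_iff_le_centralizer.2 (le_centralizer_iff.1 ?_))
    exact map_le_iff_le_comap.2 (sSup_le fun B hB => map_le_iff_le_comap.1
      (hcon _ (CfsgLib.Transfer.maxEA_map_subtype hA₀ hA₀T hB) (map_subtype_le B)))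
  have hAc : ∀ a ∈ A, ∀ b ∈ A, a * b = b * a := fun a ha b hb => CfsgLib.PGroup.elemAb_comm hA.1 ha hb
  have hAN : ∀ F ∈ members p (T : Subgroup G), A ≤ normalizer (F : Set G) := fun F hF =>
    BlockBaumann.maxEA_le_normalizer hG hF.1 hF.2.1 hA
  set 𝓢 := {F ∈ members p (T : Subgroup G) | (∃ t, Solv p F t) ∧ ¬ A ≤ centralizer (bWE p F : Set G)} with h𝓢
  have key : ∀ S : Finset (Subgroup G), (S : Set (Subgroup G)) ⊆ 𝓢 →
      Nat.card ↥(sSup ((bWE p : Subgroup G → Subgroup G) '' (S : Set (Subgroup G))) ⊓ centralizer (A : Set G)) * p ^ S.card ≤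
          Nat.card ↥(sSup ((bWE p : Subgroup G → Subgroup G) '' (S : Set (Subgroup G)))) ∧
        Nat.card ↥A ≤ Nat.card ↥(A ⊓ centralizer ((sSup ((bWE p : Subgroup G → Subgroup G) '' (S : Set (Subgroup G))) : Subgroup G) : Set G)) *
          p ^ S.card := by
    intro S
    induction S using Finset.induction_on with
    | empty =>
      intro _
      simp only [Finset.coe_empty, Set.image_empty, sSup_empty, Finset.card_empty, pow_zero, mul_one]
      exact ⟨card_le_of_le inf_le_left, card_le_of_le (le_inf le_rfl fun a _ => mem_centralizer_iff.2 fun x hx => by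
        rw [SetLike.mem_coe, mem_bot] at hx; rw [hx, one_mul, mul_one])⟩
    | insert F S hFS ih =>
      intro hS
      rw [Finset.coe_insert] at hS
      obtain ⟨hF, ⟨t, ht⟩, hmove⟩ := hS (Set.mem_insert F _)
      have hS' : (S : Set (Subgroup G)) ⊆ 𝓢 := (Set.subset_insert _ _).trans hS
      obtain ⟨ih1, ih2⟩ := ih hS'
      rw [Finset.coe_insert, Set.image_insert_eq, sSup_insert, Finset.card_insert_of_notMem hFS]
      set N := sSup ((bWE p : Subgroup G → Subgroup G) '' (S : Set (Subgroup G))) with hN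
      set W := bWE p F with hW
      have hAW : A ≤ normalizer (W : Set G) := (hAN F hF).trans (normalizer_le_bWE F)
      obtain ⟨hpl1, hpl2⟩ := abelian_on_plane (ht.card_bWE hF.1) (CfsgLib.Transfer.maxEA_isPGroup hA) hAc hAW hmove
      have hNF : N ≤ centralizer (F : Set G) := by
        refine sSup_le ?_
        rintro _ ⟨F', hF', rfl⟩
        refine ((bWE_le F').trans (bW_le F')).trans (commutator_eq_bot_iff_le_centralizer.1
          (members_commute hG (hS' hF').1 hF fun e => hFS (Finset.mem_coe.1 (e ▸ hF'))))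
      have hWN : W ⊓ N = ⊥ := le_bot_iff.1 ((inf_le_inf_left W hNF).trans (ht.bWE_inf hF.1).le)
      have hWc : N ≤ normalizer (W : Set G) :=
        (hNF.trans (centralizer_le ((bWE_le F).trans (bW_le F)))).trans (centralizer_le_normalizer _)
      have hAN' : A ≤ normalizer (N : Set G) := fun a ha => CfsgLib.LocalEven.mem_normalizer_of_conj_le (by
        rw [hN, map_le_iff_le_comap]
        refine sSup_le ?_
        rintro _ ⟨F', hF', rfl⟩
        rw [← map_le_iff_le_comap]
        exact le_trans (mem_normalizer_iff_map_conj_eq.1 (normalizer_le_bWE F' (hAN F' (hS' hF').1 ha))).le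
          (le_sSup ⟨F', hF', rfl⟩))
      have hprod : ∀ (X Y : Subgroup G), X ≤ W → Y ≤ N → Nat.card ↥(X ⊔ Y) = Nat.card ↥X * Nat.card ↥Y := by
        intro X Y hX hY
        have hd : Disjoint X Y := disjoint_iff.2 (le_bot_iff.1 ((inf_le_inf hX hY).trans hWN.le))
        have hYX : Y ≤ normalizer (X : Set G) :=
          ((hY.trans hNF).trans (centralizer_le (hX.trans ((bWE_le F).trans (bW_le F))))).trans
            (centralizer_le_normalizer _)
        rw [← Nat.card_prod]
        symm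
        refine Nat.card_congr (Equiv.ofBijective
          (fun z : ↥X × ↥Y => (⟨z.1 * z.2, mul_mem_sup z.1.2 z.2.2⟩ : ↥(X ⊔ Y)))
          ⟨fun a b hab => Subgroup.mul_injective_of_disjoint hd (congrArg Subtype.val hab), fun z => ?_⟩)
        have hz := z.2
        rw [← SetLike.mem_coe, coe_mul_of_right_le_normalizer_left X Y hYX] at hz
        obtain ⟨x, hx, y, hy, hxy⟩ := hz
        exact ⟨(⟨x, hx⟩, ⟨y, hy⟩), Subtype.ext hxy⟩
      constructor
      · have hle : (W ⊔ N) ⊓ centralizer (A : Set G) ≤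
            (W ⊓ centralizer (A : Set G)) ⊔ (N ⊓ centralizer (A : Set G)) := by
          rintro x ⟨hx, hxA⟩
          replace hx : x ∈ ((W ⊔ N : Subgroup G) : Set G) := hx
          rw [coe_mul_of_right_le_normalizer_left W N hWc] at hx
          obtain ⟨w, hw, y, hy, rfl⟩ := hx
          have hwy : ∀ a ∈ A, a * w * a⁻¹ = w ∧ a * y * a⁻¹ = y := fun a ha => by
            have h1 : a * (w * y) = w * y * a := mem_centralizer_iff.1 hxA a ha
            have h2 : (a * w * a⁻¹) * (a * y * a⁻¹) = w * y := by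
              rw [show a * w * a⁻¹ * (a * y * a⁻¹) = a * (w * y) * a⁻¹ by group, h1, mul_inv_cancel_right]
            have h3 : w⁻¹ * (a * w * a⁻¹) = y * (a * y * a⁻¹)⁻¹ := by
              rw [eq_mul_inv_iff_mul_eq, mul_assoc, h2, inv_mul_cancel_left]
            have h4 : w⁻¹ * (a * w * a⁻¹) = 1 := by
              rw [← mem_bot, ← hWN]
              exact ⟨W.mul_mem (W.inv_mem hw) ((mem_normalizer_iff.1 (hAW ha) w).1 hw),
                h3 ▸ N.mul_mem hy (N.inv_mem ((mem_normalizer_iff.1 (hAN' ha) y).1 hy))⟩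
            refine ⟨(inv_mul_eq_one.1 h4).symm, ?_⟩
            exact (mul_inv_eq_one.1 (h3.symm.trans h4)).symm
          exact mul_mem_sup ⟨hw, mem_centralizer_iff.2 fun a ha => mul_inv_eq_iff_eq_mul.1 (hwy a ha).1⟩
            ⟨hy, mem_centralizer_iff.2 fun a ha => mul_inv_eq_iff_eq_mul.1 (hwy a ha).2⟩
        calc Nat.card ↥((W ⊔ N) ⊓ centralizer (A : Set G)) * p ^ (S.card + 1)
            ≤ Nat.card ↥(W ⊓ centralizer (A : Set G)) * Nat.card ↥(N ⊓ centralizer (A : Set G)) * p ^ (S.card + 1) :=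
              Nat.mul_le_mul_right _ ((card_le_of_le hle).trans (le_of_eq (hprod _ _ inf_le_left inf_le_left)))
          _ = (Nat.card ↥(W ⊓ centralizer (A : Set G)) * p) * (Nat.card ↥(N ⊓ centralizer (A : Set G)) * p ^ S.card) := by
              ring
          _ ≤ (p * p) * Nat.card ↥N := Nat.mul_le_mul (Nat.mul_le_mul_right _ hpl2) ih1
          _ = Nat.card ↥(W ⊔ N) := by rw [hprod W N le_rfl le_rfl, ht.card_bWE hF.1, pow_two]
      · have e : A ⊓ centralizer ((W ⊔ N : Subgroup G) : Set G) =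
            A ⊓ centralizer (W : Set G) ⊓ centralizer (N : Set G) := by
          rw [inf_assoc]
          congr 1
          refine le_antisymm (le_inf (centralizer_le (SetLike.coe_subset_coe.2 le_sup_left)) (centralizer_le (SetLike.coe_subset_coe.2 le_sup_right))) ?_
          exact le_centralizer_iff.1 (sup_le (le_centralizer_iff.1 inf_le_left) (le_centralizer_iff.1 inf_le_right))
        rw [e]
        have h1 : Nat.card ↥(A ⊓ centralizer (N : Set G)) * Nat.card ↥(A ⊓ centralizer (W : Set G)) ≤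
            Nat.card ↥A * Nat.card ↥(A ⊓ centralizer (W : Set G) ⊓ centralizer (N : Set G)) := by
          refine (CfsgLib.PGroup.card_mul_card_le_sup_inf _ _).trans ?_
          refine Nat.mul_le_mul (card_le_of_le (sup_le inf_le_left inf_le_left)) (card_le_of_le ?_)
          exact fun x hx => ⟨⟨hx.1.1, hx.2.2⟩, hx.1.2⟩
        refine Nat.le_of_mul_le_mul_left ?_ (Nat.card_pos (α := ↥A))
        calc Nat.card ↥A * Nat.card ↥A
            ≤ (Nat.card ↥(A ⊓ centralizer (N : Set G)) * p ^ S.card) * (Nat.card ↥(A ⊓ centralizer (W : Set G)) * p) :=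
              Nat.mul_le_mul ih2 hpl1
          _ = (Nat.card ↥(A ⊓ centralizer (N : Set G)) * Nat.card ↥(A ⊓ centralizer (W : Set G))) * p ^ (S.card + 1) := by
              ring
          _ ≤ (Nat.card ↥A * Nat.card ↥(A ⊓ centralizer (W : Set G) ⊓ centralizer (N : Set G))) * p ^ (S.card + 1) :=
              Nat.mul_le_mul_right _ h1
          _ = _ := by ring
  set S := 𝓢.toFinite.toFinset with hSdef
  have hcoe : (S : Set (Subgroup G)) = 𝓢 := Set.Finite.coe_toFinset _
  have hES : E ∈ S := by rw [hSdef, Set.Finite.mem_toFinset]; exact ⟨hE, ⟨s, hs⟩, hAE⟩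
  set S' := S.erase E with hS'
  have hS'le : (S' : Set (Subgroup G)) ⊆ 𝓢 := fun F hF => hcoe ▸ Finset.mem_of_mem_erase (Finset.mem_coe.1 hF)
  obtain ⟨k1, -⟩ := key S hcoe.le
  obtain ⟨-, k2⟩ := key S' hS'le
  set N := sSup ((bWE p : Subgroup G → Subgroup G) '' (S : Set (Subgroup G))) with hN
  set N' := sSup ((bWE p : Subgroup G → Subgroup G) '' (S' : Set (Subgroup G))) with hN'
  obtain ⟨a, ⟨haA, haN'⟩, haE⟩ :
      ∃ a, (a ∈ A ∧ a ∈ centralizer (N' : Set G)) ∧ a ∉ centralizer (bWE p E : Set G) := by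
    by_contra hcon
    push Not at hcon
    have hle : A ⊓ centralizer (N' : Set G) ≤ A ⊓ centralizer (N : Set G) := fun a ha => ⟨ha.1, by
      have h1 : N ≤ centralizer ({a} : Set G) := by
        refine sSup_le ?_
        rintro _ ⟨F, hF, rfl⟩
        intro w hw
        rw [mem_centralizer_singleton_iff]
        by_cases e : F = E
        · exact mem_centralizer_iff.1 (hcon a ⟨ha.1, ha.2⟩) w (e ▸ hw)
        · have hle' : bWE p F ≤ N' := le_sSup
            (⟨F, Finset.mem_coe.2 (Finset.mem_erase.2 ⟨e, Finset.mem_coe.1 hF⟩), rfl⟩ :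
              bWE p F ∈ (bWE p : Subgroup G → Subgroup G) '' (S' : Set (Subgroup G)))
          exact mem_centralizer_iff.1 ha.2 w (hle' hw)
      exact mem_centralizer_iff.2 fun w hw => mem_centralizer_singleton_iff.1 (h1 hw)⟩
    have hNe : IsElementaryAbelian p N := CfsgLib.PGroup.elemAb_mono (CfsgLib.LocalEven.Oz.elemAb (pCore p G))
      (sSup_le (by rintro _ ⟨F, hF, rfl⟩; exact bWE_le_bA hG (hcoe.le hF).1.1))
    have h1 := BlockBaumann.offender_max hA hNe (B := A ⊓ centralizer (N : Set G)) inf_le_left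
    rw [inf_eq_left.2 (le_centralizer_iff.1 inf_le_right : N ≤ centralizer _)] at h1
    have hcS : S.card = S'.card + 1 := (Finset.card_erase_add_one hES).symm
    have hNpos : 0 < Nat.card ↥(N ⊓ centralizer (A : Set G)) := Nat.card_pos
    have hAN0 : 0 < Nat.card ↥(A ⊓ centralizer (N : Set G)) := Nat.card_pos
    have h2 : Nat.card ↥(A ⊓ centralizer (N : Set G)) * (Nat.card ↥(N ⊓ centralizer (A : Set G)) * p ^ S.card) ≤
        Nat.card ↥(A ⊓ centralizer (N : Set G)) * (Nat.card ↥(N ⊓ centralizer (A : Set G)) * p ^ S'.card) := by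
      calc Nat.card ↥(A ⊓ centralizer (N : Set G)) * (Nat.card ↥(N ⊓ centralizer (A : Set G)) * p ^ S.card)
          ≤ Nat.card ↥(A ⊓ centralizer (N : Set G)) * Nat.card ↥N := Nat.mul_le_mul_left _ k1
        _ ≤ Nat.card ↥A * Nat.card ↥(N ⊓ centralizer (A : Set G)) := h1
        _ ≤ (Nat.card ↥(A ⊓ centralizer (N : Set G)) * p ^ S'.card) * Nat.card ↥(N ⊓ centralizer (A : Set G)) :=
            Nat.mul_le_mul_right _ (k2.trans (Nat.mul_le_mul_right _ (card_le_of_le hle)))
        _ = _ := by ring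
    have h3 := Nat.le_of_mul_le_mul_left (Nat.le_of_mul_le_mul_left h2 hAN0) hNpos
    rw [hcS] at h3
    exact absurd h3 (not_le.2 (Nat.pow_lt_pow_right (Fact.out : p.Prime).one_lt (Nat.lt_succ_self _)))
  refine ⟨a, hAT haA, hAN E hE haA, haE, fun F hF hne hsol => ⟨hAN F hF haA, ?_⟩⟩
  by_cases hmv : A ≤ centralizer (bWE p F : Set G)
  · exact hmv haA
  · have hle' : bWE p F ≤ N' := le_sSup
      (⟨F, Finset.mem_coe.2 (Finset.mem_erase.2 ⟨hne, (Set.Finite.mem_toFinset _).2 ⟨hF, hsol, hmv⟩⟩), rfl⟩ :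
        bWE p F ∈ (bWE p : Subgroup G → Subgroup G) '' (S' : Set (Subgroup G)))
    exact centralizer_le (SetLike.coe_subset_coe.2 hle') haN'

end

end CfsgLib.LocalEven.CStar
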