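import Cfsg.Agent.Lib.LocalEven.CStar.TransDef
import Mathlib.Logic.Equiv.Fin.Basic

/-!
`q = 2`: a configuration of transpositions enlarges to one of odd degree that every other member centralises.
-/

set_option autoImplicit false
set_option linter.unusedSectionVars false
set_option linter.style.haveILetI false

namespace CfsgLib.LocalEven.CStar

open CfsgLib.Fusion (conjSub mem_conjSub conj_mem_conjSub conjSub_conjSub conjSub_one card_conjSub)
open CfsgLib.LocalEven.MinOffender (fx)

variable {Γ : Type*} [Group Γ] [Finite Γ] {M : Type*} [AddCommGroup M] [DistribMulAction Γ M] [Finite M]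
variable {A : Set (Subgroup Γ)} {P : Subgroup Γ → AddSubgroup M}

namespace PtCfg

variable {n : ℕ} {t : Fin n → Fin n → Subgroup Γ} {u : Fin n → M} (hp : PtCfg A P n t u) (h : RootClass A P 2)
include hp h

/-- A member linked to two disjoint transpositions on both sides contradicts independence. -/
theorem four_set (hind : IndepAll A P) {c : Subgroup Γ} (hc : c ∈ A) (hout : ∀ a b, a ≠ b → c ≠ t a b)
    {a b a' b' : Fin n} (hab : a ≠ b) (hab' : a' ≠ b') (h1 : phi c (u a) = 1) (h2 : phi c (u b) = 1)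
    (h3 : phi c (u a') = 0) (h4 : phi c (u b') = 0) : False := by
  classical
  have haa : a ≠ a' := fun e => by rw [e, h3] at h1; exact zero_ne_one h1
  have hab'' : a ≠ b' := fun e => by rw [e, h4] at h1; exact zero_ne_one h1
  have hba : b ≠ a' := fun e => by rw [e, h3] at h2; exact zero_ne_one h2
  have hbb : b ≠ b' := fun e => by rw [e, h4] at h2; exact zero_ne_one h2
  obtain ⟨z, hz, hz0⟩ := h.exists_ne_zero hc
  have hphi : ∀ {x y : Fin n}, x ≠ y → phi (t x y) z = phi c (u x) + phi c (u y) := fun hxy => by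
    rw [h.phi_symm (hp.mem _ _ hxy) hc (hp.pt _ _ hxy) (hp.ne0 _ _ hxy) hz hz0, h.phi_add hc]
  obtain ⟨d1, hd1, hd1'⟩ := h.exists_ne_one (hp.mem a a' haa)
  obtain ⟨d2, hd2, hd2'⟩ := h.exists_ne_one (hp.mem b b' hbb)
  have e1 : d1 • z = z + (u a + u a') :=
    h.smul_of_phi_one (hp.mem _ _ haa) hd1 hd1' (hp.pt _ _ haa) (hp.ne0 _ _ haa) (by rw [hphi haa, h1, h3, add_zero])
  have hphi2 : ∀ {x y : Fin n}, x ≠ y →
      phi (t x y) (z + (u a + u a')) = phi c (u x) + phi c (u y) + (chi x y a + chi x y a') := fun hxy => by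
    rw [h.phi_add (hp.mem _ _ hxy), hphi hxy, hp.inc _ _ _ _ hxy haa]
  have e2 : d2 • (z + (u a + u a')) = z + (u a + u a') + (u b + u b') := by
    refine h.smul_of_phi_one (hp.mem _ _ hbb) hd2 hd2' (hp.pt _ _ hbb) (hp.ne0 _ _ hbb) ?_
    rw [hphi2 hbb, h2, h4, chi, chi, if_neg (not_or.2 ⟨hab, hab''⟩), if_neg (not_or.2 ⟨hba.symm, hab'⟩), add_zero,
      add_zero, add_zero]
  set c' := conjSub d2 (conjSub d1 c) with hc'def
  have hc' : c' ∈ A := h.conj _ (h.conj c hc d1) d2
  have hz' : z + (u a + u a') + (u b + u b') ∈ P c' := by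
    rw [← e2, ← e1]
    exact h.smul_mem_conj (h.conj c hc d1) d2 (h.smul_mem_conj hc d1 hz)
  have hz'0 : z + (u a + u a') + (u b + u b') ≠ 0 := fun e => hz0 (by
    rw [← inv_smul_smul d1 z, ← inv_smul_smul d2 (d1 • z), e1, e2, e, smul_zero, smul_zero])
  have hphi' : ∀ {x y : Fin n}, x ≠ y → phi (t x y) (z + (u a + u a') + (u b + u b')) =
      phi c (u x) + phi c (u y) + (chi x y a + chi x y a') + (chi x y b + chi x y b') := fun hxy => by
    rw [h.phi_add (hp.mem _ _ hxy), hphi2 hxy, hp.inc _ _ _ _ hxy hbb]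
  have c1 : Comm c c' := by
    refine (h.phi_point hc hc' hz' hz'0).1 ?_
    rw [h.phi_add hc, h.phi_add hc, h.phi_add hc, h.phi_add hc, h1, h2, h3, h4,
      (h.phi_point hc hc hz hz0).2 (h.comm_self hc)]
    rfl
  have c2 : Comm c (t a b) := by
    refine (h.phi_point hc (hp.mem _ _ hab) (hp.pt _ _ hab) (hp.ne0 _ _ hab)).1 ?_
    rw [h.phi_add hc, h1, h2]; rfl
  have c3 : Comm c (t a' b') := by
    refine (h.phi_point hc (hp.mem _ _ hab') (hp.pt _ _ hab') (hp.ne0 _ _ hab')).1 ?_
    rw [h.phi_add hc, h3, h4]; rfl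
  have c4 : Comm (t a b) c' := by
    refine (h.phi_point (hp.mem _ _ hab) hc' hz' hz'0).1 ?_
    rw [hphi' hab, h1, h2, chi, chi, chi, chi, if_pos (Or.inl rfl), if_neg (not_or.2 ⟨haa.symm, hba.symm⟩),
      if_pos (Or.inr rfl), if_neg (not_or.2 ⟨hab''.symm, hbb.symm⟩)]
    rfl
  have c5 : Comm (t a' b') c' := by
    refine (h.phi_point (hp.mem _ _ hab') hc' hz' hz'0).1 ?_
    rw [hphi' hab', h3, h4, chi, chi, chi, chi, if_neg (not_or.2 ⟨haa, hab''⟩), if_pos (Or.inl rfl),
      if_neg (not_or.2 ⟨hba, hbb⟩), if_pos (Or.inr rfl)]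
    rfl
  have c6 : Comm (t a b) (t a' b') := by
    refine (h.phi_point (hp.mem _ _ hab) (hp.mem _ _ hab') (hp.pt _ _ hab') (hp.ne0 _ _ hab')).1 ?_
    rw [hp.inc _ _ _ _ hab hab', chi, chi, if_neg (not_or.2 ⟨haa.symm, hba.symm⟩),
      if_neg (not_or.2 ⟨hab''.symm, hbb.symm⟩), add_zero]
  have hne : c ≠ c' := fun e => by
    have e0 := ((h.pt_unique hc hz hz0 (e ▸ hz')).resolve_left hz'0)
    rw [add_assoc, add_eq_left] at e0
    have e1 : u a + u a' = u b + u b' := by
      rw [← neg_eq_of_add_eq_zero_left (h.add_self_eq_zero (hp.mem _ _ hbb) (hp.pt _ _ hbb))]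
      exact eq_neg_of_add_eq_zero_left e0
    rcases hp.inj a a' b b' haa hbb (h.eq_of_mem (hp.mem _ _ haa) (hp.mem _ _ hbb) (hp.ne0 _ _ haa) (hp.pt _ _ haa)
      (e1 ▸ hp.pt _ _ hbb)) with ⟨e2, -⟩ | ⟨e2, -⟩
    · exact hab e2
    · exact hab'' e2
  refine hz0 (hind c hc {c', t a b, t a' b'} ?_ ?_ ?_ ?_ z hz (AddSubgroup.mem_sup_left ?_))
  · intro R hR
    simp only [Finset.coe_insert, Finset.coe_singleton, Set.mem_insert_iff, Set.mem_singleton_iff] at hR
    rcases hR with rfl | rfl | rfl
    · exact hc'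
    · exact hp.mem _ _ hab
    · exact hp.mem _ _ hab'
  · simp only [Finset.mem_insert, Finset.mem_singleton]
    rintro (e | e | e)
    · exact hne e
    · exact hout a b hab e
    · exact hout a' b' hab' e
  · simp only [Finset.mem_insert, Finset.mem_singleton]
    rintro R (rfl | rfl | rfl)
    · exact c1
    · exact c2
    · exact c3
  · simp only [Finset.mem_insert, Finset.mem_singleton]
    rintro R (rfl | rfl | rfl) R' (rfl | rfl | rfl)
    exacts [h.comm_self hc', c4.symm, c5.symm, c4, h.comm_self (hp.mem _ _ hab), c6, c5, c6.symm,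
      h.comm_self (hp.mem _ _ hab')]
  · have e : z = (z + (u a + u a') + (u b + u b')) + ((u a + u b) + (u a' + u b')) := by
      rw [add_assoc (z + (u a + u a')), add_assoc z, show u a + u a' + (u b + u b' + (u a + u b + (u a' + u b'))) =
        (u a + u a) + (u a' + u a') + ((u b + u b) + (u b' + u b')) by abel, hp.two, hp.two, hp.two, hp.two,
        add_zero, add_zero, add_zero]
    rw [e]
    refine add_mem (AddSubgroup.mem_iSup_of_mem c' (AddSubgroup.mem_iSup_of_mem (by simp) hz'))
      (add_mem (AddSubgroup.mem_iSup_of_mem (t a b) (AddSubgroup.mem_iSup_of_mem (by simp) (hp.pt _ _ hab)))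
        (AddSubgroup.mem_iSup_of_mem (t a' b') (AddSubgroup.mem_iSup_of_mem (by simp) (hp.pt _ _ hab'))))

/-- A member outside commutes with all transpositions or exactly links to those through one index. -/
theorem star (hind : IndepAll A P) {c : Subgroup Γ} (hc : c ∈ A) (hout : ∀ a b, a ≠ b → c ≠ t a b) :
    (∀ a b, a ≠ b → Comm c (t a b)) ∨ ∃ i, ∀ a b, a ≠ b → phi c (u a + u b) = chi a b i := by
  classical
  by_cases hall : ∀ a b, a ≠ b → Comm c (t a b)
  · exact Or.inl hall
  right
  push Not at hall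
  obtain ⟨a, b, hab, hnc⟩ := hall
  have hne : phi c (u a) ≠ phi c (u b) := fun e => hnc ((h.phi_point hc (hp.mem _ _ hab) (hp.pt _ _ hab) (hp.ne0 _ _ hab)).1
    (by rw [h.phi_add hc, e]; exact (by decide : ∀ x : ZMod 2, x + x = 0) _))
  obtain ⟨i, hi⟩ : ∃ i, ∀ j, j ≠ i → phi c (u j) ≠ phi c (u i) := by
    by_contra hno
    push Not at hno
    obtain ⟨a₁, ha₁, ea⟩ := hno a
    obtain ⟨b₁, hb₁, eb⟩ := hno b
    rcases zmod_two_cases (phi c (u a)) with e | e <;> rcases zmod_two_cases (phi c (u b)) with e' | e'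
    · exact hne (e.trans e'.symm)
    · exact hp.four_set h hind hc hout hb₁ ha₁ (eb.trans e') e' (ea.trans e) e
    · exact hp.four_set h hind hc hout ha₁ hb₁ (ea.trans e) e (eb.trans e') e'
    · exact hne (e.trans e'.symm)
  refine ⟨i, fun x y hxy => ?_⟩
  have key : ∀ j, j ≠ i → phi c (u j) = phi c (u i) + 1 := fun j hj =>
    (by decide : ∀ p q : ZMod 2, p ≠ q → p = q + 1) _ _ (hi j hj)
  rw [h.phi_add hc]
  unfold chi
  by_cases hxi : x = i
  · subst hxi
    rw [if_pos (Or.inl rfl), key y hxy.symm]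
    exact (by decide : ∀ p : ZMod 2, p + (p + 1) = 1) _
  by_cases hyi : y = i
  · subst hyi
    rw [if_pos (Or.inr rfl), key x hxy]
    exact (by decide : ∀ p : ZMod 2, p + 1 + p = 1) _
  rw [if_neg (by tauto), key x hxi, key y hyi]
  exact (by decide : ∀ p : ZMod 2, p + 1 + (p + 1) = 0) _

/-- A linked member gives one more index. -/
theorem extend {c : Subgroup Γ} (hc : c ∈ A) (hout : ∀ a b, a ≠ b → c ≠ t a b) {i : Fin n}
    (hi : ∀ a b, a ≠ b → phi c (u a + u b) = chi a b i) :
    ∃ t' u', PtCfg A P (n + 1) t' u' ∧ ∀ a b : Fin n, a ≠ b → t' a.castSucc b.castSucc = t a b := by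
  classical
  obtain ⟨z, hz, hz0⟩ := h.exists_ne_zero hc
  have hex : ∀ j : Fin n, ∃ d : Γ, i ≠ j → d ∈ t i j ∧ d ≠ 1 := fun j => by
    by_cases e : i = j
    · exact ⟨1, fun hne => absurd e hne⟩
    obtain ⟨d, hd, hd1⟩ := h.exists_ne_one (hp.mem i j e)
    exact ⟨d, fun _ => ⟨hd, hd1⟩⟩
  choose g hg using hex
  set C : Fin n → Subgroup Γ := fun j => if j = i then c else conjSub (g j) c with hC
  have hphiz : ∀ a b, a ≠ b → phi (t a b) z = chi a b i := fun a b hab => by
    rw [h.phi_symm (hp.mem _ _ hab) hc (hp.pt _ _ hab) (hp.ne0 _ _ hab) hz hz0, hi a b hab]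
  have hCA : ∀ j, C j ∈ A := fun j => by
    rw [hC]; dsimp only
    split_ifs
    exacts [hc, h.conj c hc _]
  have hCpt : ∀ j, z + (u i + u j) ∈ P (C j) ∧ z + (u i + u j) ≠ 0 := fun j => by
    rw [hC]; dsimp only
    split_ifs with e
    · subst e; rw [hp.two j, add_zero]; exact ⟨hz, hz0⟩
    · have e1 := h.smul_of_phi_one (hp.mem i j (Ne.symm e)) (hg j (Ne.symm e)).1 (hg j (Ne.symm e)).2
        (hp.pt _ _ (Ne.symm e)) (hp.ne0 _ _ (Ne.symm e))
        (by rw [hphiz i j (Ne.symm e), chi, if_pos (Or.inl rfl)] : phi (t i j) z = 1)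
      rw [← e1]
      exact ⟨h.smul_mem_conj hc _ hz, fun e0 => hz0 (by rw [← inv_smul_smul (g j) z, e0, smul_zero])⟩
  have hCout : ∀ j a b, a ≠ b → C j ≠ t a b := fun j a b hab => by
    rw [hC]; dsimp only
    split_ifs with e
    · exact hout a b hab
    intro e1
    have h1 := congrArg (conjSub (g j)⁻¹) e1
    rw [conjSub_conjSub, inv_mul_cancel, conjSub_one,
      (hp.toSym h).conj i j a b (Ne.symm e) hab (g j)⁻¹ (inv_mem (hg j (Ne.symm e)).1)
        (inv_ne_one.2 (hg j (Ne.symm e)).2)] at h1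
    exact hout _ _ (fun e2 => hab ((Equiv.swap i j).injective e2)) h1
  have hCinj : ∀ j k, C j = C k → j = k := fun j k e => by
    by_contra hne
    have e1 := (h.pt_unique (hCA k) (hCpt k).1 (hCpt k).2 (e ▸ (hCpt j).1)).resolve_left (hCpt j).2
    exact hp.ne0 j k hne (by rw [add_left_cancel (add_left_cancel e1), hp.two])
  let t' : Fin (n + 1) → Fin (n + 1) → Subgroup Γ := fun a b =>
    Fin.lastCases (Fin.lastCases ⊥ C b) (fun a => Fin.lastCases (C a) (t a) b) a
  let u' : Fin (n + 1) → M := Fin.lastCases (u i + z) u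
  have ht1 : ∀ a b : Fin n, t' a.castSucc b.castSucc = t a b := fun a b => by simp [t']
  have ht2 : ∀ a : Fin n, t' a.castSucc (Fin.last n) = C a := fun a => by simp [t']
  have ht3 : ∀ b : Fin n, t' (Fin.last n) b.castSucc = C b := fun b => by simp [t']
  have hu1 : ∀ a : Fin n, u' a.castSucc = u a := fun a => by simp [u']
  have hu2 : u' (Fin.last n) = u i + z := by simp [u']
  have hz2 : z + z = 0 := h.add_self_eq_zero hc hz
  have hmem : ∀ a b, a ≠ b → t' a b ∈ A ∧ t' a b = t' b a ∧ u' a + u' b ∈ P (t' a b) ∧ u' a + u' b ≠ 0 := by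
    intro a b
    induction a using Fin.lastCases with
    | last =>
      induction b using Fin.lastCases with
      | last => exact fun hne => absurd rfl hne
      | cast b =>
        intro _
        rw [ht3, ht2, hu1, hu2, show u i + z + u b = z + (u i + u b) by abel]
        exact ⟨hCA b, rfl, hCpt b⟩
    | cast a =>
      induction b using Fin.lastCases with
      | last =>
        intro _
        rw [ht2, ht3, hu1, hu2, show u a + (u i + z) = z + (u i + u a) by abel]
        exact ⟨hCA a, rfl, hCpt a⟩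
      | cast b =>
        intro hne
        have hab : a ≠ b := fun e => hne (e ▸ rfl)
        rw [ht1, ht1, hu1, hu1]
        exact ⟨hp.mem a b hab, hp.symm a b hab, hp.pt a b hab, hp.ne0 a b hab⟩
  have hinj : ∀ a b c d, a ≠ b → c ≠ d → t' a b = t' c d → (a = c ∧ b = d) ∨ (a = d ∧ b = c) := by
    intro a b c d
    induction a using Fin.lastCases <;> induction b using Fin.lastCases <;> induction c using Fin.lastCases <;>
      induction d using Fin.lastCases <;>
      simp only [ht1, ht2, ht3, ne_eq, Fin.castSucc_inj, not_true_eq_false, false_implies, implies_true] <;>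
      intro hab hcd e
    all_goals first
      | (rcases hp.inj _ _ _ _ hab hcd e with ⟨e1, e2⟩ | ⟨e1, e2⟩
         · exact Or.inl ⟨e1, e2⟩
         · exact Or.inr ⟨e1, e2⟩)
      | exact absurd e (hCout _ _ _ hcd)
      | exact absurd e.symm (hCout _ _ _ hab)
      | (rw [hCinj _ _ e]; simp)
  -- incidences
  have hkey : ∀ a b, a ≠ b → ∀ x, phi (t' a b) (u' x + u' i.castSucc) = chi a b x + chi a b i.castSucc := by
    have hold : ∀ (a b : Fin n) x, a ≠ b →
        phi (t' a.castSucc b.castSucc) (u' x + u' i.castSucc) = chi a.castSucc b.castSucc x + chi a b i := by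
      intro a b x hab
      rw [ht1, hu1]
      induction x using Fin.lastCases with
      | last =>
        rw [hu2, show u i + z + u i = (u i + u i) + z by abel, hp.two, zero_add, hphiz a b hab]
        rw [show chi a.castSucc b.castSucc (Fin.last n) = 0 by simp [chi, (Fin.castSucc_lt_last _).ne'], zero_add]
      | cast x =>
        rw [hu1, show chi a.castSucc b.castSucc x.castSucc = chi a b x by simp [chi]]
        by_cases hxi : x = i
        · subst hxi
          rw [hp.two x, (by decide : ∀ p : ZMod 2, p + p = 0) (chi a b x)]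
          rw [h.phi_zero_iff (hp.mem a b hab) (h.exists_ne_one (hp.mem a b hab)).choose_spec.1
            (h.exists_ne_one (hp.mem a b hab)).choose_spec.2, smul_zero]
        · exact hp.inc a b x i hab hxi
    have hnew : ∀ (j : Fin n) x,
        phi (C j) (u' x + u' i.castSucc) = chi j.castSucc (Fin.last n) x + (if i = j then 1 else 0) := by
      intro j x
      have hz1 : phi (C j) z = if i = j then 0 else 1 := by
        rw [h.phi_symm (hCA j) hc (hCpt j).1 (hCpt j).2 hz hz0, h.phi_add hc,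
          (h.phi_point hc hc hz hz0).2 (h.comm_self hc), zero_add]
        by_cases e : i = j
        · subst e
          rw [if_pos rfl, hp.two i]
          exact (h.phi_zero_iff hc (h.exists_ne_one hc).choose_spec.1 (h.exists_ne_one hc).choose_spec.2).2
            (smul_zero _)
        · rw [if_neg e, hi i j e, chi, if_pos (Or.inl rfl)]
      rw [hu1]
      induction x using Fin.lastCases with
      | last =>
        rw [hu2, show u i + z + u i = (u i + u i) + z by abel, hp.two, zero_add, hz1,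
          show chi j.castSucc (Fin.last n) (Fin.last n) = 1 by simp [chi]]
        split_ifs <;> rfl
      | cast x =>
        rw [hu1, show chi j.castSucc (Fin.last n) x.castSucc = if x = j then 1 else 0 by
          simp [chi, (Fin.castSucc_lt_last x).ne]]
        by_cases hxi : x = i
        · subst hxi
          rw [hp.two x, (h.phi_zero_iff (hCA j) (h.exists_ne_one (hCA j)).choose_spec.1
            (h.exists_ne_one (hCA j)).choose_spec.2).2 (smul_zero _)]
          exact ((by decide : ∀ p : ZMod 2, p + p = 0) _).symm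
        rw [h.phi_symm (hCA j) (hp.mem x i hxi) (hCpt j).1 (hCpt j).2 (hp.pt x i hxi) (hp.ne0 x i hxi),
          h.phi_add (hp.mem x i hxi), hphiz x i hxi, chi, if_pos (Or.inr rfl)]
        by_cases hij : i = j
        · subst hij
          rw [hp.two i, (h.phi_zero_iff (hp.mem x i hxi) (h.exists_ne_one (hp.mem x i hxi)).choose_spec.1
            (h.exists_ne_one (hp.mem x i hxi)).choose_spec.2).2 (smul_zero _), if_neg hxi, if_pos rfl, zero_add,
            add_zero]
        rw [hp.inc x i i j hxi hij, chi, chi, if_pos (Or.inr rfl), if_neg hij]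
        by_cases hxj : x = j
        · subst hxj; rw [if_pos (Or.inl rfl), if_pos rfl]; rfl
        · rw [if_neg (not_or.2 ⟨fun e => hxj e.symm, Ne.symm hij⟩), if_neg hxj]; rfl
    intro a b hne x
    induction a using Fin.lastCases with
    | last =>
      induction b using Fin.lastCases with
      | last => exact absurd rfl hne
      | cast b =>
        rw [(hmem _ _ hne).2.1, ht2, hnew b x]
        simp [chi, or_comm, (Fin.castSucc_lt_last i).ne]
    | cast a =>
      induction b using Fin.lastCases with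
      | last =>
        rw [ht2, hnew a x]
        simp [chi, (Fin.castSucc_lt_last i).ne]
      | cast b =>
        rw [hold a b x (fun e => hne (e ▸ rfl))]
        simp [chi]
  refine ⟨t', u', ⟨fun a b hne => (hmem a b hne).1, fun a b hne => (hmem a b hne).2.1, hinj, fun a => ?_,
    fun a b hne => (hmem a b hne).2.2.1, fun a b hne => (hmem a b hne).2.2.2, ?_⟩, fun a b _ => ht1 a b⟩
  · induction a using Fin.lastCases with
    | last => rw [hu2, add_add_add_comm, hp.two, hz2, add_zero]
    | cast a => rw [hu1, hp.two]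
  · intro a b x y hab _
    have e : u' x + u' y = (u' x + u' i.castSucc) + (u' y + u' i.castSucc) := by
      rw [add_add_add_comm, hu1, hp.two, add_zero]
    rw [e, h.phi_add (hmem a b hab).1, hkey a b hab x, hkey a b hab y]
    exact (by decide : ∀ p q r : ZMod 2, p + r + (q + r) = p + q) _ _ _

/-- In even degree the sum of the `u`'s is fixed, against independence. -/
theorem odd_of_saturated (hind : IndepAll A P) (hn : 2 ≤ n)
    (hsat : ∀ R ∈ A, (∃ a b, a ≠ b ∧ R = t a b) ∨ ∀ a b, a ≠ b → Comm R (t a b)) : Odd n := by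
  classical
  rw [← Nat.not_even_iff_odd]
  rintro ⟨k, hk⟩
  obtain rfl : n = k * 2 := by omega
  set x₀ : Fin (k * 2) := ⟨0, by omega⟩
  set w : M := ∑ a, u a with hw
  have hk2 : ∀ p : ZMod 2, (k * 2) • p = 0 := fun p => by
    rw [mul_nsmul', two_nsmul, (by decide : ∀ q : ZMod 2, q + q = 0) p, smul_zero]
  have hconst : ∀ R ∈ A, phi R w = 0 := by
    intro R hR
    let f := AddMonoidHom.mk' (phi (M := M) R) (h.phi_add hR)
    have e : phi R w = ∑ a, phi R (u a) := map_sum f u Finset.univ
    rw [e]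
    obtain ⟨a, b, hval⟩ : ∃ a b, (a ≠ b ∧ ∀ c d, c ≠ d → phi R (u c + u d) = chi a b c + chi a b d) ∨
        (∀ c d, c ≠ d → phi R (u c + u d) = 0) := by
      rcases hsat R hR with ⟨a, b, hab, rfl⟩ | hall
      · exact ⟨a, b, Or.inl ⟨hab, fun c d hcd => hp.inc a b c d hab hcd⟩⟩
      · exact ⟨x₀, x₀, Or.inr fun c d hcd =>
          (h.phi_point hR (hp.mem c d hcd) (hp.pt c d hcd) (hp.ne0 c d hcd)).2 (hall c d hcd)⟩
    rcases hval with ⟨hab, hval⟩ | hval
    · have e1 : ∀ c, phi R (u c) = chi a b c + (phi R (u x₀) + chi a b x₀) := fun c => by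
        by_cases hc : c = x₀
        · subst hc
          exact (by decide : ∀ p q : ZMod 2, p = q + (p + q)) _ _
        have := hval c x₀ hc
        rw [h.phi_add hR] at this
        exact (by decide : ∀ p q r s : ZMod 2, p + q = r + s → p = r + (q + s)) _ _ _ _ this
      rw [Finset.sum_congr rfl fun c _ => e1 c, Finset.sum_add_distrib, Finset.sum_const, Finset.card_univ,
        Fintype.card_fin, hk2, add_zero]
      simp only [chi]
      rw [Finset.sum_ite, Finset.sum_const_zero, add_zero, Finset.sum_const,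
        show (Finset.univ.filter fun c => c = a ∨ c = b) = {a, b} by ext c; simp, Finset.card_pair hab]
      rfl
    · have e1 : ∀ c, phi R (u c) = phi R (u x₀) := fun c => by
        by_cases hc : c = x₀
        · rw [hc]
        have := hval c x₀ hc
        rw [h.phi_add hR] at this
        exact (by decide : ∀ p q : ZMod 2, p + q = 0 → p = q) _ _ this
      rw [Finset.sum_congr rfl fun c _ => e1 c, Finset.sum_const, Finset.card_univ, Fintype.card_fin, hk2]
  have hwfix : w ∈ fx M (sSup A) := by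
    have hle : sSup A ≤ MulAction.stabilizer Γ w := sSup_le fun R hR x hx => by
      rcases eq_or_ne x 1 with rfl | hx1
      · exact one_mem _
      · exact (h.phi_zero_iff hR hx hx1).1 (hconst R hR)
    exact fun g hg => hle hg
  let al : Fin k → Fin (k * 2) := fun l => finProdFinEquiv (l, 0)
  let be : Fin k → Fin (k * 2) := fun l => finProdFinEquiv (l, 1)
  have hne : ∀ l, al l ≠ be l := fun l e => by simpa using finProdFinEquiv.injective e
  have hdis : ∀ l l', l ≠ l' → al l ≠ al l' ∧ al l ≠ be l' ∧ be l ≠ al l' ∧ be l ≠ be l' := fun l l' hll =>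
    ⟨fun e => hll (congrArg Prod.fst (finProdFinEquiv.injective e)),
      fun e => hll (congrArg Prod.fst (finProdFinEquiv.injective e)),
      fun e => hll (congrArg Prod.fst (finProdFinEquiv.injective e)),
      fun e => hll (congrArg Prod.fst (finProdFinEquiv.injective e))⟩
  have hsum : w = ∑ l, (u (al l) + u (be l)) := by
    rw [hw, ← finProdFinEquiv.sum_comp u, Fintype.sum_prod_type]
    exact Finset.sum_congr rfl fun l _ => Fin.sum_univ_two _
  set l₀ : Fin k := ⟨0, by omega⟩
  have hcomm : ∀ l l', Comm (t (al l) (be l)) (t (al l') (be l')) := fun l l' => by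
    rcases eq_or_ne l l' with rfl | hll
    · exact h.comm_self (hp.mem _ _ (hne l))
    obtain ⟨d1, d2, d3, d4⟩ := hdis l l' hll
    exact (hp.toSym h).comm_disjoint h (hne l) (hne l') d1.symm d3.symm d2.symm d4.symm
  refine hp.ne0 _ _ (hne l₀) (hind _ (hp.mem _ _ (hne l₀))
    ((Finset.univ.erase l₀).image fun l => t (al l) (be l)) ?_ ?_ ?_ ?_ _ (hp.pt _ _ (hne l₀)) ?_)
  · intro R hR
    obtain ⟨l, -, rfl⟩ := Finset.mem_image.1 (Finset.mem_coe.1 hR)
    exact hp.mem _ _ (hne l)
  · intro hmem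
    obtain ⟨l, hl, e⟩ := Finset.mem_image.1 hmem
    obtain ⟨d1, d2, -, -⟩ := hdis l l₀ (Finset.ne_of_mem_erase hl)
    rcases hp.inj _ _ _ _ (hne l) (hne l₀) e with ⟨e1, -⟩ | ⟨e1, -⟩
    exacts [d1 e1, d2 e1]
  · intro R hR
    obtain ⟨l, -, rfl⟩ := Finset.mem_image.1 hR
    exact hcomm _ _
  · intro R hR R' hR'
    obtain ⟨l, -, rfl⟩ := Finset.mem_image.1 hR
    obtain ⟨l', -, rfl⟩ := Finset.mem_image.1 hR'
    exact hcomm _ _
  · rw [show u (al l₀) + u (be l₀) = w - ∑ l ∈ Finset.univ.erase l₀, (u (al l) + u (be l)) by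
      rw [hsum, ← Finset.add_sum_erase _ _ (Finset.mem_univ l₀)]; abel]
    refine sub_mem (AddSubgroup.mem_sup_right hwfix) (AddSubgroup.mem_sup_left (sum_mem fun l hl => ?_))
    exact AddSubgroup.mem_iSup_of_mem (t (al l) (be l))
      (AddSubgroup.mem_iSup_of_mem (Finset.mem_image.2 ⟨l, hl, rfl⟩) (hp.pt _ _ (hne l)))

end PtCfg

theorem SymCfg.le_card {n : ℕ} {t : Fin n → Fin n → Subgroup Γ} (ht : SymCfg A n t) :
    n ≤ Nat.card (Subgroup Γ) + 1 := by
  rcases n with _ | n
  · omega
  have h1 := Nat.card_le_card_of_injective (fun j : Fin n => t 0 j.succ) fun j k e => by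
    rcases ht.inj _ _ _ _ (Fin.succ_ne_zero j).symm (Fin.succ_ne_zero k).symm e with ⟨-, e1⟩ | ⟨e1, -⟩
    · exact Fin.succ_injective _ e1
    · exact absurd e1.symm (Fin.succ_ne_zero k)
  rw [Nat.card_fin] at h1
  omega

/-- Every configuration lies in one of odd degree that the other members centralise. -/
theorem RootClass.exists_component (h : RootClass A P 2) (hind : IndepAll A P) {n : ℕ} (hn : 3 ≤ n)
    {t : Fin n → Fin n → Subgroup Γ} (ht : SymCfg A n t) :
    ∃ (N : ℕ) (hnN : n ≤ N) (t' : Fin N → Fin N → Subgroup Γ), SymCfg A N t' ∧ Odd N ∧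
      (∀ i j, i ≠ j → t' (i.castLE hnN) (j.castLE hnN) = t i j) ∧
      ∀ R ∈ A, (∃ i j, i ≠ j ∧ R = t' i j) ∨ ∀ i j, i ≠ j → Comm R (t' i j) := by
  classical
  obtain ⟨u, hp⟩ := ht.exists_pt h (by omega)
  set S : Set ℕ := {N | ∃ (hnN : n ≤ N) (t' : Fin N → Fin N → Subgroup Γ) (u' : Fin N → M),
    PtCfg A P N t' u' ∧ ∀ i j, i ≠ j → t' (i.castLE hnN) (j.castLE hnN) = t i j}
  have hfin : S.Finite := (Set.finite_Iic (Nat.card (Subgroup Γ) + 1)).subset fun N ⟨_, _, _, hN, _⟩ =>
    (hN.toSym h).le_card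
  obtain ⟨N, ⟨hnN, t', u', hN, hres⟩, hmax⟩ := Set.exists_max_image S id hfin
    ⟨n, le_rfl, t, u, hp, fun i j _ => rfl⟩
  have hsat : ∀ R ∈ A, (∃ a b, a ≠ b ∧ R = t' a b) ∨ ∀ a b, a ≠ b → Comm R (t' a b) := by
    intro R hR
    by_cases hin : ∃ a b, a ≠ b ∧ R = t' a b
    · exact Or.inl hin
    push Not at hin
    rcases hN.star h hind hR hin with hall | ⟨i, hi⟩
    · exact Or.inr hall
    obtain ⟨t'', u'', hN', hres'⟩ := hN.extend h hR hin hi
    have := hmax (N + 1) ⟨hnN.trans (Nat.le_succ N), t'', u'', hN', fun a b hab => by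
      rw [← hres a b hab, ← hres' _ _ ((Fin.castLE_injective hnN).ne hab)]
      rfl⟩
    simp only [id] at this
    omega
  exact ⟨N, hnN, t', hN.toSym h, hN.odd_of_saturated h hind (by omega) hsat, hres, hsat⟩

/-- A saturated configuration generates a subnormal subgroup of the group of the class. -/
theorem SymCfg.join_subnormal {n : ℕ} {t : Fin n → Fin n → Subgroup Γ} (ht : SymCfg A n t) (h : RootClass A P 2)
    (hsat : ∀ R ∈ A, (∃ i j, i ≠ j ∧ R = t i j) ∨ ∀ i j, i ≠ j → Comm R (t i j)) :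
    sSup A ≤ Subgroup.normalizer ((⨆ (i) (j) (_ : i ≠ j), t i j : Subgroup Γ) : Set Γ) ∧
      (⨆ (i) (j) (_ : i ≠ j), t i j : Subgroup Γ).IsSubnormal := by
  set K : Subgroup Γ := ⨆ (i) (j) (_ : i ≠ j), t i j with hK
  have hN : sSup A ≤ Subgroup.normalizer (K : Set Γ) := sSup_le fun R hR => by
    rcases hsat R hR with ⟨i, j, hij, rfl⟩ | hall
    · exact le_trans (le_iSup₂_of_le i j (le_iSup (fun _ : i ≠ j => t i j) hij)) Subgroup.le_normalizer
    · intro x hx
      refine CfsgLib.Fusion.conjSub_eq_iff_mem_normalizer.1 ?_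
      rw [hK, conjSub, Subgroup.map_iSup]
      refine iSup_congr fun i => ?_
      rw [Subgroup.map_iSup]
      refine iSup_congr fun j => ?_
      rw [Subgroup.map_iSup]
      exact iSup_congr fun hij => conjSub_of_comm (hall i j hij) hx
  refine ⟨hN, ?_⟩
  haveI hXn : (sSup A).Normal := by
    refine ⟨fun a ha g => ?_⟩
    have hle : conjSub g (sSup A) ≤ sSup A := by
      refine Subgroup.map_le_iff_le_comap.2 (sSup_le fun B hB => Subgroup.map_le_iff_le_comap.1 ?_)
      exact le_sSup (h.conj B hB g)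
    exact hle (conj_mem_conjSub ha)
  have hKX : K ≤ sSup A := iSup_le fun i => iSup_le fun j => iSup_le fun hij => le_sSup (ht.mem i j hij)
  exact Subgroup.IsSubnormal.step _ _ hKX (Subgroup.Normal.isSubnormal hXn)
    ((Subgroup.normal_subgroupOf_iff_le_normalizer hKX).2 hN)

end CfsgLib.LocalEven.CStar
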