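import Cfsg.Agent.Lib.LocalEven.CStar.Component
import Cfsg.Agent.Lib.LocalEven.MinOffender.Basic
import Mathlib.Data.ZMod.Basic

/-!
Root classes with `q = 2`: the transvection functionals and configurations of the transpositions of a symmetric
group among the members.
-/

set_option autoImplicit false
set_option linter.unusedSectionVars false
set_option linter.style.haveILetI false

namespace CfsgLib.LocalEven.CStar

open CfsgLib.Fusion (conjSub mem_conjSub conj_mem_conjSub conjSub_conjSub conjSub_one card_conjSub)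
open CfsgLib.LocalEven.MinOffender (fx)

variable {Γ : Type*} [Group Γ] [Finite Γ] {M : Type*} [AddCommGroup M] [DistribMulAction Γ M] [Finite M]

/-- Independence of pairwise commuting members modulo the fixed points of the whole class. -/
def IndepAll (A : Set (Subgroup Γ)) (P : Subgroup Γ → AddSubgroup M) : Prop :=
  ∀ D ∈ A, ∀ F : Finset (Subgroup Γ), (F : Set (Subgroup Γ)) ⊆ A → D ∉ F → (∀ R ∈ F, Comm D R) →
    (∀ R ∈ F, ∀ R' ∈ F, Comm R R') → ∀ v, v ∈ P D → v ∈ (⨆ R ∈ F, P R) ⊔ fx M (sSup A) → v = 0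

/-- Members indexed and permuting like the transpositions of `Fin n`. -/
structure SymCfg (A : Set (Subgroup Γ)) (n : ℕ) (t : Fin n → Fin n → Subgroup Γ) : Prop where
  mem : ∀ i j, i ≠ j → t i j ∈ A
  symm : ∀ i j, i ≠ j → t i j = t j i
  inj : ∀ i j k l, i ≠ j → k ≠ l → t i j = t k l → (i = k ∧ j = l) ∨ (i = l ∧ j = k)
  conj : ∀ i j k l, i ≠ j → k ≠ l → ∀ d ∈ t i j, d ≠ 1 →
    conjSub d (t k l) = t (Equiv.swap i j k) (Equiv.swap i j l)

/-- The functional of a transvection group. -/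
noncomputable def phi (D : Subgroup Γ) (v : M) : ZMod 2 := by
  classical exact if ∀ d ∈ D, d • v = v then 0 else 1

/-- The indicator of a pair. -/
def chi {n : ℕ} (a b c : Fin n) : ZMod 2 := if c = a ∨ c = b then 1 else 0

/-- A configuration with the points of the members as sums of two of the `u`'s. -/
structure PtCfg (A : Set (Subgroup Γ)) (P : Subgroup Γ → AddSubgroup M) (n : ℕ)
    (t : Fin n → Fin n → Subgroup Γ) (u : Fin n → M) : Prop where
  mem : ∀ a b, a ≠ b → t a b ∈ A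
  symm : ∀ a b, a ≠ b → t a b = t b a
  inj : ∀ a b c d, a ≠ b → c ≠ d → t a b = t c d → (a = c ∧ b = d) ∨ (a = d ∧ b = c)
  two : ∀ a, u a + u a = 0
  pt : ∀ a b, a ≠ b → u a + u b ∈ P (t a b)
  ne0 : ∀ a b, a ≠ b → u a + u b ≠ 0
  inc : ∀ a b c d, a ≠ b → c ≠ d → phi (t a b) (u c + u d) = chi a b c + chi a b d

theorem conjSub_of_comm {D R : Subgroup Γ} (hc : Comm D R) {d : Γ} (hd : d ∈ D) : conjSub d R = R := by
  ext y
  rw [mem_conjSub]
  refine ⟨fun hy => ?_, fun hy => ?_⟩
  · have := hc d hd _ hy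
    rw [show d * (d⁻¹ * y * d) = y * d by group] at this
    rw [mul_right_cancel this]; exact hy
  · rw [mul_assoc, ← hc d hd y hy, inv_mul_cancel_left]; exact hy

theorem zmod_two_cases (x : ZMod 2) : x = 0 ∨ x = 1 := by revert x; decide

namespace RootClass

variable {A : Set (Subgroup Γ)} {P : Subgroup Γ → AddSubgroup M} (h : RootClass A P 2)
include h

theorem eq_one_or_eq {D : Subgroup Γ} (hD : D ∈ A) {d x : Γ} (hd : d ∈ D) (hd1 : d ≠ 1) (hx : x ∈ D) :
    x = 1 ∨ x = d := by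
  obtain ⟨e, he, he'⟩ : ∃ e : ↥D, e ≠ 1 ∧ ∀ y : ↥D, y = 1 ∨ y = e := by
    obtain ⟨a, b, hab, huniv⟩ := Nat.card_eq_two_iff.1 (h.cardD D hD)
    have key : ∀ y : ↥D, y = a ∨ y = b := fun y => by
      have := huniv.ge (Set.mem_univ y)
      simpa using this
    rcases key 1 with h1 | h1
    · exact ⟨b, fun e => hab (h1.symm.trans e.symm), fun y => (key y).imp (fun e => e.trans h1.symm) id⟩
    · exact ⟨a, fun e => hab (e.trans h1), fun y => (key y).symm.imp (fun e => e.trans h1.symm) id⟩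
  rcases he' ⟨d, hd⟩ with e1 | e1
  · exact absurd (congrArg Subtype.val e1) hd1
  rcases he' ⟨x, hx⟩ with e2 | e2
  · exact Or.inl (congrArg Subtype.val e2)
  · exact Or.inr (congrArg Subtype.val (e2.trans e1.symm))

theorem pt_unique {D : Subgroup Γ} (hD : D ∈ A) {e v : M} (he : e ∈ P D) (he0 : e ≠ 0) (hv : v ∈ P D) :
    v = 0 ∨ v = e := by
  obtain ⟨a, b, hab, huniv⟩ := Nat.card_eq_two_iff.1 (h.cardP D hD)
  have key : ∀ y : ↥(P D), y = a ∨ y = b := fun y => by
    have := huniv.ge (Set.mem_univ y)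
    simpa using this
  rcases key 0 with h0 | h0 <;> rcases key ⟨e, he⟩ with h1 | h1 <;> rcases key ⟨v, hv⟩ with h2 | h2 <;>
    first
      | exact Or.inl (congrArg Subtype.val (h2.trans h0.symm))
      | exact Or.inr (congrArg Subtype.val (h2.trans h1.symm))
      | exact absurd (congrArg Subtype.val (h1.trans h0.symm)) he0

theorem add_self_eq_zero {D : Subgroup Γ} (hD : D ∈ A) {v : M} (hv : v ∈ P D) : v + v = 0 := by
  rcases eq_or_ne v 0 with rfl | hv0
  · exact add_zero 0
  rcases h.pt_unique hD hv hv0 (add_mem hv hv) with e | e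
  · exact e
  · exact absurd (add_eq_left.1 e) hv0

theorem phi_zero_iff {D : Subgroup Γ} (hD : D ∈ A) {d : Γ} (hd : d ∈ D) (hd1 : d ≠ 1) {v : M} :
    phi D v = 0 ↔ d • v = v := by
  unfold phi
  constructor
  · intro e
    by_contra hne
    rw [if_neg fun hall => hne (hall d hd)] at e
    exact one_ne_zero e
  · intro e
    refine if_pos fun x hx => ?_
    rcases h.eq_one_or_eq hD hd hd1 hx with rfl | rfl
    · exact one_smul Γ v
    · exact e

theorem smul_of_phi_one {D : Subgroup Γ} (hD : D ∈ A) {d : Γ} (hd : d ∈ D) (hd1 : d ≠ 1) {e v : M}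
    (he : e ∈ P D) (he0 : e ≠ 0) (hv : phi D v = 1) : d • v = v + e := by
  rcases h.pt_unique hD he he0 (h.quad D hD d hd v) with e1 | e1
  · rw [(h.phi_zero_iff hD hd hd1).2 (sub_eq_zero.1 e1)] at hv
    exact absurd hv zero_ne_one
  · rw [← e1]; abel

theorem phi_add {D : Subgroup Γ} (hD : D ∈ A) (v w : M) : phi D (v + w) = phi D v + phi D w := by
  obtain ⟨d, hd, hd1⟩ := h.exists_ne_one hD
  obtain ⟨e, he, he0⟩ := h.exists_ne_zero hD
  have hee := h.add_self_eq_zero hD he
  have key : ∀ x y : M, d • x = x → phi D y = 1 → phi D (x + y) = 1 := fun x y hx hy => by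
    rcases zmod_two_cases (phi D (x + y)) with h1 | h1
    · have h2 := (h.phi_zero_iff hD hd hd1).1 h1
      rw [smul_add, hx, h.smul_of_phi_one hD hd hd1 he he0 hy, ← add_assoc] at h2
      exact absurd (add_eq_left.1 h2) he0
    · exact h1
  rcases zmod_two_cases (phi D v) with hv | hv <;> rcases zmod_two_cases (phi D w) with hw | hw
  · rw [hv, hw, add_zero]
    refine (h.phi_zero_iff hD hd hd1).2 ?_
    rw [smul_add, (h.phi_zero_iff hD hd hd1).1 hv, (h.phi_zero_iff hD hd hd1).1 hw]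
  · rw [hv, hw, zero_add]; exact key v w ((h.phi_zero_iff hD hd hd1).1 hv) hw
  · rw [hv, hw, add_zero, add_comm v w]; exact key w v ((h.phi_zero_iff hD hd hd1).1 hw) hv
  · rw [hv, hw, show (1 : ZMod 2) + 1 = 0 from rfl]
    refine (h.phi_zero_iff hD hd hd1).2 ?_
    rw [smul_add, h.smul_of_phi_one hD hd hd1 he he0 hv, h.smul_of_phi_one hD hd hd1 he he0 hw,
      add_add_add_comm, hee, add_zero]

theorem phi_point {D R : Subgroup Γ} (hD : D ∈ A) (hR : R ∈ A) {v : M} (hv : v ∈ P R) (hv0 : v ≠ 0) :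
    phi D v = 0 ↔ Comm D R := by
  obtain ⟨d, hd, hd1⟩ := h.exists_ne_one hD
  rw [h.phi_zero_iff hD hd hd1]
  exact ⟨fun e => h.comm_of_fix hD hR hv hv0 hd hd1 e, fun hc => h.fix_of_comm hD hR hc hd hv⟩

theorem phi_symm {D R : Subgroup Γ} (hD : D ∈ A) (hR : R ∈ A) {v w : M} (hv : v ∈ P D) (hv0 : v ≠ 0)
    (hw : w ∈ P R) (hw0 : w ≠ 0) : phi D w = phi R v := by
  have h1 : phi D w = 0 ↔ phi R v = 0 := by
    rw [h.phi_point hD hR hw hw0, h.phi_point hR hD hv hv0]
    exact ⟨Comm.symm, Comm.symm⟩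
  rcases zmod_two_cases (phi D w) with a | a <;> rcases zmod_two_cases (phi R v) with b | b <;>
    simp_all

/-- The member with a given point is determined by it. -/
theorem eq_of_mem {D R : Subgroup Γ} (hD : D ∈ A) (hR : R ∈ A) {v : M} (hv0 : v ≠ 0) (h1 : v ∈ P D)
    (h2 : v ∈ P R) : D = R := by
  by_contra hne
  exact hv0 (h.disjoint hD hR hne v h1 h2)

/-- The point of a conjugate. -/
theorem smul_mem_conj {R : Subgroup Γ} (hR : R ∈ A) (g : Γ) {v : M} (hv : v ∈ P R) : g • v ∈ P (conjSub g R) := by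
  rw [h.equiv R hR g, inv_smul_smul]
  exact hv

end RootClass

namespace SymCfg

variable {A : Set (Subgroup Γ)} {P : Subgroup Γ → AddSubgroup M} {n : ℕ} {t : Fin n → Fin n → Subgroup Γ}
variable (ht : SymCfg A n t) (h : RootClass A P 2)
include ht h

theorem comm_disjoint {i j k l : Fin n} (hij : i ≠ j) (hkl : k ≠ l) (h1 : k ≠ i) (h2 : k ≠ j) (h3 : l ≠ i)
    (h4 : l ≠ j) : Comm (t i j) (t k l) := by
  obtain ⟨d, hd, hd1⟩ := h.exists_ne_one (ht.mem i j hij)
  refine (h.norm _ (ht.mem k l hkl) _ (ht.mem i j hij) d hd hd1 ?_).symm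
  rw [ht.conj i j k l hij hkl d hd hd1, Equiv.swap_apply_of_ne_of_ne h1 h2, Equiv.swap_apply_of_ne_of_ne h3 h4]

theorem not_comm {i j k : Fin n} (hij : i ≠ j) (hjk : j ≠ k) (hik : i ≠ k) : ¬ Comm (t i j) (t j k) := by
  intro hc
  obtain ⟨d, hd, hd1⟩ := h.exists_ne_one (ht.mem i j hij)
  have h1 := ht.conj i j j k hij hjk d hd hd1
  rw [conjSub_of_comm hc hd, Equiv.swap_apply_right, Equiv.swap_apply_of_ne_of_ne hik.symm hjk.symm] at h1
  rcases ht.inj j k i k hjk hik h1 with ⟨e, -⟩ | ⟨e, -⟩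
  · exact hij e.symm
  · exact hjk e

theorem exists_pt (hn : 0 < n) : ∃ u : Fin n → M, PtCfg A P n t u := by
  classical
  have hex : ∀ a b : Fin n, ∃ e : M, a ≠ b → e ∈ P (t a b) ∧ e ≠ 0 := fun a b => by
    by_cases hab : a = b
    · exact ⟨0, fun hne => absurd hab hne⟩
    obtain ⟨e, he, he0⟩ := h.exists_ne_zero (ht.mem a b hab)
    exact ⟨e, fun _ => ⟨he, he0⟩⟩
  choose e he using hex
  have huniq : ∀ {a b : Fin n}, a ≠ b → ∀ {v : M}, v ∈ P (t a b) → v ≠ 0 → v = e a b := fun hab v hv hv0 =>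
    ((h.pt_unique (ht.mem _ _ hab) (he _ _ hab).1 (he _ _ hab).2 hv).resolve_left hv0)
  have hsymm : ∀ {a b : Fin n}, a ≠ b → e a b = e b a := fun hab =>
    huniq hab.symm (ht.symm _ _ hab ▸ (he _ _ hab).1) (he _ _ hab).2
  have hphi : ∀ a b c d : Fin n, a ≠ b → c ≠ d → phi (t a b) (e c d) = chi a b c + chi a b d := by
    intro a b c d hab hcd
    have h0 : ∀ {c d : Fin n}, c ≠ d → Comm (t a b) (t c d) → phi (t a b) (e c d) = 0 := fun hcd hc =>
      (h.phi_point (ht.mem a b hab) (ht.mem _ _ hcd) (he _ _ hcd).1 (he _ _ hcd).2).2 hc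
    have h1 : ∀ {c d : Fin n}, c ≠ d → ¬ Comm (t a b) (t c d) → phi (t a b) (e c d) = 1 := fun hcd hc =>
      (zmod_two_cases _).resolve_left fun e0 =>
        hc ((h.phi_point (ht.mem a b hab) (ht.mem _ _ hcd) (he _ _ hcd).1 (he _ _ hcd).2).1 e0)
    unfold chi
    by_cases hca : c = a
    · subst hca
      by_cases hdb : d = b
      · subst hdb
        rw [if_pos (Or.inl rfl), if_pos (Or.inr rfl), h0 hab (h.comm_self (ht.mem c d hab))]
        rfl
      · rw [if_pos (Or.inl rfl), if_neg (by tauto), add_zero]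
        exact h1 hcd (by rw [ht.symm c b hab]; exact ht.not_comm h hab.symm hcd (Ne.symm hdb))
    by_cases hcb : c = b
    · subst hcb
      by_cases hda : d = a
      · subst hda
        rw [if_pos (Or.inr rfl), if_pos (Or.inl rfl), h0 hcd (by rw [ht.symm c d hcd]; exact h.comm_self (ht.mem d c hab))]
        rfl
      · rw [if_pos (Or.inr rfl), if_neg (by tauto), add_zero]
        exact h1 hcd (ht.not_comm h hab hcd (Ne.symm hda))
    rw [if_neg (show ¬ (c = a ∨ c = b) by tauto), zero_add]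
    by_cases hda : d = a
    · subst hda
      rw [if_pos (Or.inl rfl)]
      exact h1 hcd (by rw [ht.symm c d hcd, ht.symm d b hab]; exact ht.not_comm h hab.symm hcd.symm (Ne.symm hcb))
    by_cases hdb : d = b
    · subst hdb
      rw [if_pos (Or.inr rfl)]
      exact h1 hcd (by rw [ht.symm c d hcd]; exact ht.not_comm h hab hcd.symm (Ne.symm hca))
    rw [if_neg (by tauto)]
    exact h0 hcd (ht.comm_disjoint h hab hcd hca hcb hda hdb)
  have htri : ∀ {a b c : Fin n}, a ≠ b → b ≠ c → a ≠ c → e a c = e a b + e b c := fun {a b c} hab hbc hac => by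
    obtain ⟨d, hd, hd1⟩ := h.exists_ne_one (ht.mem a b hab)
    have h1 := h.smul_mem_conj (ht.mem b c hbc) d (he b c hbc).1
    rw [ht.conj a b b c hab hbc d hd hd1, Equiv.swap_apply_right, Equiv.swap_apply_of_ne_of_ne hac.symm hbc.symm,
      h.smul_of_phi_one (ht.mem a b hab) hd hd1 (he a b hab).1 (he a b hab).2
        (by rw [hphi a b b c hab hbc, chi, chi, if_pos (Or.inr rfl), if_neg (show ¬ (c = a ∨ c = b) from
          fun e => e.elim hac.symm hbc.symm), add_zero])] at h1
    rw [add_comm (e a b)]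
    refine (huniq hac h1 fun e0 => ?_).symm
    have h2 : e b c = e a b := by
      rw [eq_neg_of_add_eq_zero_left e0, neg_eq_iff_add_eq_zero]
      exact h.add_self_eq_zero (ht.mem a b hab) (he a b hab).1
    rcases ht.inj b c a b hbc hab (h.eq_of_mem (ht.mem b c hbc) (ht.mem a b hab) (he b c hbc).2 (he b c hbc).1
      (h2 ▸ (he a b hab).1)) with ⟨e1, -⟩ | ⟨-, e1⟩
    · exact hab e1.symm
    · exact hac e1.symm
  set o : Fin n := ⟨0, hn⟩
  set u : Fin n → M := fun a => if a = o then 0 else e o a with hu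
  have hue : ∀ a b, a ≠ b → u a + u b = e a b := by
    intro a b hab
    by_cases ha : a = o
    · subst ha
      rw [hu]; dsimp only
      rw [if_pos rfl, if_neg hab.symm, zero_add]
    by_cases hb : b = o
    · subst hb
      rw [hu]; dsimp only
      rw [if_pos rfl, if_neg ha, add_zero, hsymm hab]
    rw [hu]; dsimp only
    rw [if_neg ha, if_neg hb, hsymm (Ne.symm ha), ← htri ha (Ne.symm hb) hab]
  refine ⟨u, ⟨ht.mem, ht.symm, ht.inj, fun a => ?_, fun a b hab => hue a b hab ▸ (he a b hab).1,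
    fun a b hab => hue a b hab ▸ (he a b hab).2, fun a b c d hab hcd => hue c d hcd ▸ hphi a b c d hab hcd⟩⟩
  by_cases ha : a = o
  · rw [hu]; dsimp only; rw [if_pos ha, add_zero]
  · rw [hu]; dsimp only; rw [if_neg ha]
    exact h.add_self_eq_zero (ht.mem o a (Ne.symm ha)) (he o a (Ne.symm ha)).1

end SymCfg

namespace PtCfg

variable {A : Set (Subgroup Γ)} {P : Subgroup Γ → AddSubgroup M} {n : ℕ} {t : Fin n → Fin n → Subgroup Γ}
  {u : Fin n → M}

theorem toSym (hp : PtCfg A P n t u) (h : RootClass A P 2) : SymCfg A n t := by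
  refine ⟨hp.mem, hp.symm, hp.inj, fun a b k l hab hkl d hd hd1 => ?_⟩
  have hσ : Equiv.swap a b k ≠ Equiv.swap a b l := fun e => hkl ((Equiv.swap a b).injective e)
  have hD := hp.mem a b hab
  have hR := hp.mem k l hkl
  refine h.eq_of_mem (h.conj _ hR d) (hp.mem _ _ hσ) (v := d • (u k + u l))
    (fun e => hp.ne0 k l hkl (by rw [← inv_smul_smul d (u k + u l), e, smul_zero])) (h.smul_mem_conj hR d (hp.pt k l hkl)) ?_
  have key : ∀ c, u (Equiv.swap a b c) = u c + if c = a ∨ c = b then u a + u b else 0 := by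
    intro c
    by_cases hca : c = a
    · subst hca
      rw [if_pos (Or.inl rfl), Equiv.swap_apply_left, ← add_assoc, hp.two c, zero_add]
    by_cases hcb : c = b
    · subst hcb
      rw [if_pos (Or.inr rfl), Equiv.swap_apply_right, add_comm (u a) (u c), ← add_assoc, hp.two c, zero_add]
    rw [if_neg (by tauto), add_zero, Equiv.swap_apply_of_ne_of_ne hca hcb]
  have hsum : d • (u k + u l) = u (Equiv.swap a b k) + u (Equiv.swap a b l) := by
    have h1 := hp.inc a b k l hab hkl
    have hee : (u a + u b) + (u a + u b) = 0 := h.add_self_eq_zero hD (hp.pt a b hab)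
    rw [key k, key l]
    unfold chi at h1
    by_cases hk : k = a ∨ k = b <;> by_cases hl : l = a ∨ l = b
    · rw [if_pos hk, if_pos hl] at h1 ⊢
      rw [(h.phi_zero_iff hD hd hd1).1 (h1.trans rfl), add_add_add_comm, hee, add_zero]
    · rw [if_pos hk, if_neg hl] at h1 ⊢
      rw [h.smul_of_phi_one hD hd hd1 (hp.pt a b hab) (hp.ne0 a b hab) (h1.trans rfl)]
      abel
    · rw [if_neg hk, if_pos hl] at h1 ⊢
      rw [h.smul_of_phi_one hD hd hd1 (hp.pt a b hab) (hp.ne0 a b hab) (h1.trans rfl)]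
      abel
    · rw [if_neg hk, if_neg hl] at h1 ⊢
      rw [(h.phi_zero_iff hD hd hd1).1 (h1.trans rfl), add_zero, add_zero]
  exact hsum ▸ hp.pt _ _ hσ

end PtCfg

end CfsgLib.LocalEven.CStar
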